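import Groth.Agent.PP93.UnitGen
import Groth.Agent.Props58.PullTensor
import Groth.Agent.Mero90.Frames

/-!
Pullback is injective on invertible modules for morphisms with `f_* O = O`.
-/

set_option autoImplicit false
set_option backward.isDefEq.respectTransparency false

noncomputable section

universe u

open CategoryTheory Limits AlgebraicGeometry TopologicalSpace Opposite

namespace Groth.Agent.PP93

open Var76.LineBundle

variable {X S : Scheme.{u}} (f : X ⟶ S)

theorem isFrame_one (Z : Scheme.{u}) : IsFrame (Coh.structureModule Z) ⊤ (OmegaSh.strSect Z ⊤ 1) := by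
  intro V h
  rw [show (fun a : Γ(Z, V) => a • Var76.LineBundle.res (Coh.structureModule Z) h (OmegaSh.strSect Z ⊤ 1)) =
    fun a => OmegaSh.strSect Z V a from funext fun a => by
      rw [show Var76.LineBundle.res (Coh.structureModule Z) h (OmegaSh.strSect Z ⊤ 1) =
        OmegaSh.strSect Z V (Z.presheaf.map (homOfLE h).op 1) from rfl, map_one, ← OmegaSh.strSect_mul, mul_one]]
  exact Function.bijective_iff_has_inverse.2 ⟨OmegaSh.fnSect Z V, fun _ => rfl, fun _ => rfl⟩

theorem nonempty_pullback_unit :
    Nonempty ((Scheme.Modules.pullback f).obj (Coh.structureModule S) ≅ Coh.structureModule X) := by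
  let M := (Scheme.Modules.pullback f).obj (Coh.structureModule S)
  let g := EGA73.unitHom M (unitGen f ⊤)
  have he : IsFrame M ⊤ (unitGen f ⊤) := fun V h => by
    rw [show (fun a : Γ(X, V) => a • Var76.LineBundle.res M h (unitGen f ⊤)) = fun a => a • unitGen f V from
      funext fun a => congrArg (a • ·) (unitGen_res f h)]
    exact bijective_smul_unitGen f V
  have : IsIso g := by
    refine Props58.PullTensor.isIso_of_frames g fun x => ⟨⊤, OmegaSh.strSect X ⊤ 1, trivial, isFrame_one X, ?_⟩
    have hv : g.app ⊤ (OmegaSh.strSect X ⊤ 1) = unitGen f ⊤ :=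
      (one_smul Γ(X, ⊤) _).trans (Amp73.res_self M _)
    rwa [hv]
  exact ⟨(asIso g).symm⟩

theorem isIso_unit (hf : ∀ U : S.Opens, Function.Bijective (f.app U)) (L : S.Modules) (hL : PicF.IsInvertible L) :
    IsIso ((Scheme.Modules.pullbackPushforwardAdjunction f).unit.app L) := by
  refine Props58.PullTensor.isIso_of_frames _ fun x => ?_
  obtain ⟨U, hxU, e, he⟩ := Mero90.exists_frame' hL x
  refine ⟨U, e, hxU, he, fun V h => ?_⟩
  have h1 := (Props58.PullTensor.isFrame_pullS f he (f ⁻¹ᵁ V) (f.preimage_mono h)).comp (hf V)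
  exact h1

theorem iso_of_pullback_trivial (hf : ∀ U : S.Opens, Function.Bijective (f.app U)) (L : S.Modules)
    (hL : PicF.IsInvertible L)
    (htriv : Nonempty ((Scheme.Modules.pullback f).obj L ≅ Coh.structureModule X)) :
    Nonempty (L ≅ Coh.structureModule S) := by
  obtain ⟨e⟩ := htriv
  obtain ⟨e₀⟩ := nonempty_pullback_unit f
  haveI := isIso_unit f hf L hL
  haveI := isIso_unit f hf (Coh.structureModule S) EGA73.isInvertible_structureModule
  let P := Scheme.Modules.pullbackPushforwardAdjunction f
  exact ⟨asIso (P.unit.app L) ≪≫ (Scheme.Modules.pushforward f).mapIso (e ≪≫ e₀.symm) ≪≫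
    (asIso (P.unit.app (Coh.structureModule S))).symm⟩

end Groth.Agent.PP93
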