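import Groth.Agent.PP93.DiffGen

/-!
The sequences of differentials of a composite and of an immersion.
-/

set_option autoImplicit false
set_option backward.isDefEq.respectTransparency false
set_option linter.style.haveILetI false

noncomputable section

universe u

open CategoryTheory CategoryTheory.Limits AlgebraicGeometry TopologicalSpace Opposite

namespace Groth.Agent.PP93

open Groth.Agent QC70

theorem appLE_comp_apply {A B C : Scheme.{u}} (a : A ⟶ B) (b : B ⟶ C) {V : C.Opens} {W : B.Opens}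
    {P : A.Opens} (h₁ : W ≤ b ⁻¹ᵁ V) (h₂ : P ≤ a ⁻¹ᵁ W) (h₃ : P ≤ (a ≫ b) ⁻¹ᵁ V) (r : Γ(C, V)) :
    (a ≫ b).appLE V P h₃ r = a.appLE W P h₂ (b.appLE V W h₁ r) := by
  rw [← ConcreteCategory.comp_apply, Scheme.Hom.appLE_comp_appLE]

/-- `f^*Ω_{Y/Z} → Ω_{X/Z} → Ω_{X/Y} → 0` is exact. -/
theorem exact_differentials_comp {X Y Z : Scheme.{u}} {f : X ⟶ Y} {g : Y ⟶ Z}
    {ΩY : Y.Modules} {dY : OmegaSh.Der g ΩY} (hY : OmegaSh.IsUniversal dY)
    {ΩX : X.Modules} {dX : OmegaSh.Der (f ≫ g) ΩX} (hX : OmegaSh.IsUniversal dX)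
    {ΩXY : X.Modules} {dXY : OmegaSh.Der f ΩXY} (hXY : OmegaSh.IsUniversal dXY)
    {c₁ : (Scheme.Modules.pullback f).obj ΩY ⟶ ΩX} (hc₁ : OmegaSh.IsDiffCompat f dY dX c₁)
    {c₂ : (Scheme.Modules.pullback (𝟙 X)).obj ΩX ⟶ ΩXY} (hc₂ : OmegaSh.IsDiffCompat (𝟙 X) dX dXY c₂) :
    Epi c₂ ∧ imageSubobject c₁ = kernelSubobject ((Scheme.Modules.pullbackId X).inv.app ΩX ≫ c₂) := by
  let b : ΩX ⟶ ΩXY := (Scheme.Modules.pullbackId X).inv.app ΩX ≫ c₂
  haveI : ΩY.IsQuasicoherent := SchBasics.isQuasicoherent_of_isUniversal hY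
  have hb : ∀ (W : X.Opens) (a : Γ(X, W)), b.app W (dX.app W a) = dXY.app W a := fun W a => by
    show c₂.app W (((Scheme.Modules.pullbackId X).inv.app ΩX).app W (dX.app W a)) = _
    rw [pullbackId_inv_app]
    exact hc₂ W a
  suffices h : Epi b ∧ imageSubobject c₁ = kernelSubobject b from
    ⟨haveI := h.1; epi_of_epi ((Scheme.Modules.pullbackId X).inv.app ΩX) c₂, h.2⟩
  refine image_eq_kernel_of_basis c₁ b fun O x hx => ?_
  obtain ⟨_, ⟨V, hV, rfl⟩, hzV, -⟩ := Z.isBasis_affineOpens.exists_subset_of_mem_open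
    (Set.mem_univ (g (f x))) isOpen_univ
  obtain ⟨_, ⟨W, hW, rfl⟩, hyW, hWV'⟩ := Y.isBasis_affineOpens.exists_subset_of_mem_open
    (show f x ∈ g ⁻¹ᵁ V from hzV) (g ⁻¹ᵁ V).2
  obtain ⟨_, ⟨P, hP, rfl⟩, hxP, hPle⟩ := X.isBasis_affineOpens.exists_subset_of_mem_open
    (show x ∈ O ⊓ f ⁻¹ᵁ W from ⟨hx, hyW⟩) (O ⊓ f ⁻¹ᵁ W).2
  have hWV : W ≤ g ⁻¹ᵁ V := hWV'
  have hPW : P ≤ f ⁻¹ᵁ W := fun y hy => (hPle hy).2
  have hPV : P ≤ (f ≫ g) ⁻¹ᵁ V := fun y hy => hWV (hPW hy)
  refine ⟨P, hxP, fun y hy => (hPle hy).1, ?_⟩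
  have hgen : ∀ a : Γ(Y, W), c₁.app P (res ((Scheme.Modules.pullback f).obj ΩY) hPW
      (OmegaSh.pullSect f ΩY W (dY.app W a))) = dX.app P (f.appLE W P hPW a) := fun a => by
    rw [app_res, hc₁ W a, Scheme.Hom.appLE, ConcreteCategory.comp_apply]
    exact (Var76.OmegaUniv.Der.res dX hPW (f.app W a)).symm
  refine ⟨fun z => ?_, fun y => ?_, fun z hz => ?_⟩
  · exact mem_of_d_mem hXY hP hW hPW (LinearMap.range (appLin b P)) (fun a => ⟨_, hb P a⟩) z
  · have hy : y ∈ Submodule.span Γ(X, P) (Set.range fun m : Γ(ΩY, W) =>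
        res ((Scheme.Modules.pullback f).obj ΩY) hPW (OmegaSh.pullSect f ΩY W m)) :=
      (SchBasics.span_pullSect f ΩY hP hW hPW).ge trivial
    refine (Submodule.span_le.2 ?_ hy :
      y ∈ LinearMap.ker ((appLin b P).comp (appLin c₁ P)))
    rintro _ ⟨m, rfl⟩
    have hm := mem_of_d_mem hY hW hV hWV
      ({ carrier := {m | b.app P (c₁.app P (res ((Scheme.Modules.pullback f).obj ΩY) hPW
            (OmegaSh.pullSect f ΩY W m))) = 0}
         add_mem' := fun {u v} hu hv => by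
           simp only [Set.mem_ofPred_eq] at hu hv ⊢
           rw [map_add, res_add, map_add, map_add, hu, hv, add_zero]
         zero_mem' := by
           simp only [Set.mem_ofPred_eq]
           rw [map_zero, QC70.res_zero, map_zero, map_zero]
         smul_mem' := fun r u hu => by
           simp only [Set.mem_ofPred_eq] at hu ⊢
           rw [OmegaSh.pullSect_smul, res_smul, Scheme.Modules.Hom.app_smul, Scheme.Modules.Hom.app_smul, hu,
             smul_zero] } : Submodule Γ(Y, W) Γ(ΩY, W))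
      (fun a => by
        show b.app P (c₁.app P _) = 0
        rw [hgen, hb]
        exact Var76.OmegaUniv.Der.appLE dXY hPW a) m
    exact hm
  · let N := Γ(ΩX, P) ⧸ LinearMap.range (appLin c₁ P)
    let q : Γ(ΩX, P) →ₗ[Γ(X, P)] N := (LinearMap.range (appLin c₁ P)).mkQ
    obtain ⟨l, hl⟩ := exists_linear_of_der hXY hP hW hPW (fun a => q (dX.app P a))
      (fun a c => by rw [map_add, map_add])
      (fun a c => by rw [Var76.OmegaUniv.Der.map_mul dX P a c, map_add, map_smul, map_smul])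
      (fun r => (Submodule.Quotient.mk_eq_zero _).2 ⟨_, hgen r⟩)
    have hlq : ∀ w, w ∈ LinearMap.ker (l.comp (appLin b P) - q) := fun w => by
      refine mem_of_d_mem hX hP hV hPV _ (fun a => ?_) w
      show l (b.app P (dX.app P a)) - q (dX.app P a) = 0
      rw [hb, hl, sub_self]
    have h1 : l (b.app P z) - q z = 0 := hlq z
    rw [hz, map_zero, zero_sub, neg_eq_zero] at h1
    exact (Submodule.Quotient.mk_eq_zero _).1 h1

/-- `N_{X/Y} → j^*Ω_{Y/Z} → Ω_{X/Z} → 0` is exact. -/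
theorem exact_conormal_differentials {X Y Z : Scheme.{u}} {f : Y ⟶ Z} {j : X ⟶ Y}
    [IsImmersion j] [QuasiCompact j]
    {ΩY : Y.Modules} {dY : OmegaSh.Der f ΩY} (hY : OmegaSh.IsUniversal dY)
    {ΩX : X.Modules} {dX : OmegaSh.Der (j ≫ f) ΩX} (hX : OmegaSh.IsUniversal dX)
    {φ : Omega.conormal j ⟶ (Scheme.Modules.pullback j).obj ΩY} (hφ : OmegaSh.IsConormalDiff j dY φ)
    {c : (Scheme.Modules.pullback j).obj ΩY ⟶ ΩX} (hc : OmegaSh.IsDiffCompat j dY dX c) :
    Epi c ∧ imageSubobject φ = kernelSubobject c := by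
  haveI : ΩY.IsQuasicoherent := SchBasics.isQuasicoherent_of_isUniversal hY
  refine image_eq_kernel_of_basis φ c fun O x hx => ?_
  obtain ⟨_, ⟨V, hV, rfl⟩, hzV, -⟩ := Z.isBasis_affineOpens.exists_subset_of_mem_open
    (Set.mem_univ (f (j x))) isOpen_univ
  obtain ⟨T, hT, hTO⟩ := j.isEmbedding.isInducing.isOpen_iff.1 O.2
  obtain ⟨W, hW, hjW, hxW, hWle, hjs⟩ :=
    SchBasics.exists_closed_chart_le j (z := x) (⟨T, hT⟩ ⊓ f ⁻¹ᵁ V) ⟨hTO.ge hx, hzV⟩
  have hWV : W ≤ f ⁻¹ᵁ V := fun y hy => (hWle hy).2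
  have hPV : j ⁻¹ᵁ W ≤ (j ≫ f) ⁻¹ᵁ V := fun y hy => hWV hy
  refine ⟨j ⁻¹ᵁ W, hxW, fun y hy => hTO.le (hWle hy).1, ?_⟩
  let P := j ⁻¹ᵁ W
  let G := (Scheme.Modules.pullback j).obj ΩY
  let pm : Γ(ΩY, W) → Γ(G, P) := fun m => OmegaSh.pullSect j ΩY W m
  have hcv : ∀ a, c.app P (pm (dY.app W a)) = dX.app P (j.app W a) := fun a => hc W a
  have hspan : ∀ (T : Submodule Γ(X, P) Γ(G, P)), (∀ a, pm (dY.app W a) ∈ T) → ∀ y, y ∈ T := by
    intro T hT y
    have hy : y ∈ Submodule.span Γ(X, P) (Set.range fun m : Γ(ΩY, W) => res G le_rfl (pm m)) :=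
      (SchBasics.span_pullSect j ΩY hjW hW le_rfl).ge trivial
    refine Submodule.span_le.2 ?_ hy
    rintro _ ⟨m, rfl⟩
    show res G le_rfl (pm m) ∈ T
    rw [res_self (M := G)]
    exact mem_of_d_mem hY hW hV hWV
      ({ carrier := {m | pm m ∈ T}
         add_mem' := fun {u v} hu hv => by
           show OmegaSh.pullSect j ΩY W (u + v) ∈ T
           rw [map_add]; exact add_mem hu hv
         zero_mem' := by
           show OmegaSh.pullSect j ΩY W 0 ∈ T
           rw [map_zero]; exact zero_mem _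
         smul_mem' := fun r u hu => by
           show OmegaSh.pullSect j ΩY W (r • u) ∈ T
           rw [OmegaSh.pullSect_smul]; exact T.smul_mem _ hu } : Submodule Γ(Y, W) Γ(ΩY, W)) hT m
  refine ⟨fun z => ?_, fun y => ?_, fun y hy => ?_⟩
  · refine mem_of_d_mem hX hjW hV hPV (LinearMap.range (appLin c P)) (fun a => ?_) z
    obtain ⟨b, rfl⟩ := hjs a
    exact ⟨_, hcv b⟩
  · obtain ⟨s, rfl⟩ := Om3.conormalSect_surjective j hW hjW hjs y
    rw [hφ W s]
    refine (hc W _).trans ?_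
    rw [FlatMor67.app_idealSect]
    exact map_zero _
  · let N := Γ(G, P) ⧸ LinearMap.range (appLin φ P)
    let q : Γ(G, P) →ₗ[Γ(X, P)] N := (LinearMap.range (appLin φ P)).mkQ
    choose lift hlift using hjs
    have hkey : ∀ a b, j.app W b = a → q (pm (dY.app W b)) = q (pm (dY.app W (lift a))) := fun a b hb => by
      obtain ⟨s, hs⟩ := Om3.exists_sect_of_app_eq_zero j (W := W) (b - lift a) (by
        rw [map_sub, hb, hlift, sub_self])
      rw [← sub_eq_zero, ← map_sub]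
      refine (Submodule.Quotient.mk_eq_zero _).2 ⟨OmegaSh.conormalSect j W s, ?_⟩
      show φ.app P (OmegaSh.conormalSect j W s) = _
      rw [hφ W s, hs, map_sub, map_sub]
    obtain ⟨l, hl⟩ := exists_linear_of_der hX hjW hV hPV (fun a => q (pm (dY.app W (lift a))))
      (fun a b => by
        rw [← hkey (a + b) (lift a + lift b) (by rw [map_add, hlift, hlift]), map_add]
        show q (OmegaSh.pullSect j ΩY W _) = _
        rw [map_add, map_add])
      (fun a b => by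
        rw [← hkey (a * b) (lift a * lift b) (by rw [map_mul, hlift, hlift]),
          Var76.OmegaUniv.Der.map_mul dY W (lift a) (lift b)]
        show q (OmegaSh.pullSect j ΩY W _) = _
        rw [map_add, OmegaSh.pullSect_smul, OmegaSh.pullSect_smul, map_add, map_smul, map_smul, hlift, hlift])
      (fun r => by
        rw [← hkey _ (f.appLE V W hWV r) (by
          rw [appLE_comp_apply j f hWV le_rfl hPV, Scheme.Hom.app_eq_appLE]),
          Var76.OmegaUniv.Der.appLE dY hWV r]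
        show q (OmegaSh.pullSect j ΩY W 0) = 0
        rw [map_zero, map_zero])
    have hlq : ∀ w, w ∈ LinearMap.ker (l.comp (appLin c P) - q) := hspan _ fun a => by
      show l (c.app P (pm (dY.app W a))) - q (pm (dY.app W a)) = 0
      rw [hcv, hl, hkey (j.app W a) a rfl, sub_self]
    have h1 : l (c.app P y) - q y = 0 := hlq y
    rw [hy, map_zero, zero_sub, neg_eq_zero] at h1
    exact (Submodule.Quotient.mk_eq_zero _).1 h1

end Groth.Agent.PP93
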