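import Groth.Agent.DCK91.PullStalk
import Groth.Prelude.Def_Omega4
import Groth.Agent.QC70.Closure

/-!
The inverse image of the structure module is free on the pullback of `1`.
-/

set_option autoImplicit false
set_option backward.isDefEq.respectTransparency false
set_option linter.style.haveILetI false

noncomputable section

universe u

open CategoryTheory Limits AlgebraicGeometry TopologicalSpace Opposite TensorProduct
open Groth.Agent.QC70

namespace Groth.Agent.PP93

variable {X Y : Scheme.{u}} (f : X ⟶ Y)

/-- The pullback of the section `1`, restricted. -/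
def unitGen (W : X.Opens) : Γ((Scheme.Modules.pullback f).obj (Coh.structureModule Y), W) :=
  res _ (show W ≤ f ⁻¹ᵁ (⊤ : Y.Opens) from le_top)
    (OmegaSh.pullSect f (Coh.structureModule Y) ⊤ (OmegaSh.strSect Y ⊤ 1))

theorem unitGen_res {W W' : X.Opens} (h : W' ≤ W) : res _ h (unitGen f W) = unitGen f W' :=
  res_res _ h _

theorem bijective_smul_unitGen (W : X.Opens) : Function.Bijective fun c : Γ(X, W) => c • unitGen f W := by
  let M := (Scheme.Modules.pullback f).obj (Coh.structureModule Y)
  -- bijectivity on stalks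
  have hst : ∀ (x : X) (hx : x ∈ W),
      Function.Bijective fun c : X.presheaf.stalk x => c • germM M W x hx (unitGen f W) := by
    intro x hx
    letI := (f.stalkMap x).hom.toAlgebra
    letI := Module.compHom (M.presheaf.stalk x) (f.stalkMap x).hom
    haveI : IsScalarTower (Y.presheaf.stalk (f x)) (X.presheaf.stalk x) (M.presheaf.stalk x) :=
      IsScalarTower.of_algebraMap_smul fun r e => rfl
    let one : (Coh.structureModule Y).presheaf.stalk (f x) :=
      germM (Coh.structureModule Y) ⊤ (f x) trivial (OmegaSh.strSect Y ⊤ 1)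
    have h1 : DCK91.pullη f (Coh.structureModule Y) x one = germM M W x hx (unitGen f W) := by
      rw [DCK91.pullη_germ]
      exact (germM_res (M := M) (show W ≤ f ⁻¹ᵁ (⊤ : Y.Opens) from le_top) hx _).symm
    have hspan : ∀ e, ∃ r : Y.presheaf.stalk (f x), r • one = e := by
      intro e
      obtain ⟨U, hU, s, rfl⟩ := germM_exist e
      refine ⟨Y.presheaf.germ U _ hU (OmegaSh.fnSect Y U s), ?_⟩
      rw [show one = germM (Coh.structureModule Y) U (f x) hU (OmegaSh.strSect Y U 1) from ?_, ← germM_smul,
        ← OmegaSh.strSect_mul, mul_one]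
      · rfl
      · rw [show OmegaSh.strSect Y U 1 = res (Coh.structureModule Y) le_top (OmegaSh.strSect Y ⊤ 1) from ?_]
        · exact (germM_res (M := Coh.structureModule Y) le_top hU _).symm
        · change OmegaSh.strSect Y U 1 = OmegaSh.strSect Y U (resO Y le_top 1)
          rw [show resO Y (le_top : U ≤ ⊤) (1 : Γ(Y, ⊤)) = 1 from map_one _]
    have hfree : ∀ r : Y.presheaf.stalk (f x), r • one = 0 → r = 0 := by
      intro r hr
      obtain ⟨U, hU, r, rfl⟩ := TopCat.Presheaf.exists_germ_eq Y.presheaf r
      rw [show one = germM (Coh.structureModule Y) U (f x) hU (OmegaSh.strSect Y U 1) from ?_, ← germM_smul,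
        ← OmegaSh.strSect_mul, mul_one] at hr
      · obtain ⟨U', hU', hxU', h0⟩ := germM_eq_zero hr
        rw [← germ_resO hU' hxU' r]
        change Y.presheaf.germ U' _ hxU' (OmegaSh.fnSect Y U' (res (Coh.structureModule Y) hU' (OmegaSh.strSect Y U r))) = 0
        rw [h0, map_zero, map_zero]
      · rw [show OmegaSh.strSect Y U 1 = res (Coh.structureModule Y) le_top (OmegaSh.strSect Y ⊤ 1) from ?_]
        · exact (germM_res (M := Coh.structureModule Y) le_top hU _).symm
        · change OmegaSh.strSect Y U 1 = OmegaSh.strSect Y U (resO Y le_top 1)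
          rw [show resO Y (le_top : U ≤ ⊤) (1 : Γ(Y, ⊤)) = 1 from map_one _]
    let l : Y.presheaf.stalk (f x) →ₗ[Y.presheaf.stalk (f x)] (Coh.structureModule Y).presheaf.stalk (f x) :=
      LinearMap.toSpanSingleton _ _ one
    have hl : Function.Bijective l := ⟨LinearMap.ker_eq_bot.1 (LinearMap.ker_eq_bot'.2 fun r hr => hfree r hr), hspan⟩
    let e := (LinearEquiv.ofBijective l hl)
    let E := (TensorProduct.AlgebraTensorModule.rid (Y.presheaf.stalk (f x)) (X.presheaf.stalk x)
      (X.presheaf.stalk x)).symm ≪≫ₗ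
        TensorProduct.AlgebraTensorModule.congr (LinearEquiv.refl (X.presheaf.stalk x) _) e ≪≫ₗ
        (DCK91.isBaseChange_pullη f (Coh.structureModule Y) x).equiv
    have hE : ∀ c, E c = c • germM M W x hx (unitGen f W) := by
      intro c
      simp only [E, LinearEquiv.trans_apply, TensorProduct.AlgebraTensorModule.rid_symm_apply,
        TensorProduct.AlgebraTensorModule.congr_tmul, LinearEquiv.refl_apply, IsBaseChange.equiv_tmul]
      rw [← h1]
      congr 2
      exact one_smul (Y.presheaf.stalk (f x)) one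
    exact (funext hE : (fun c => E c) = _) ▸ E.bijective
  constructor
  · intro c c' h
    refine TopCat.Presheaf.section_ext X.sheaf W c c' fun x hx => ?_
    refine (hst x hx).1 ?_
    change X.presheaf.germ W x hx c • _ = X.presheaf.germ W x hx c' • _
    rw [← germM_smul, ← germM_smul]
    exact congrArg (germM M W x hx) h
  · intro m
    have hloc : ∀ x : W, ∃ (V : X.Opens) (hV : V ≤ W) (c : Γ(X, V)), x.1 ∈ V ∧
        c • unitGen f V = res M hV m := by
      intro x
      obtain ⟨c, hc⟩ := (hst x.1 x.2).2 (germM M W x.1 x.2 m)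
      obtain ⟨O, hxO, c, rfl⟩ := TopCat.Presheaf.exists_germ_eq X.presheaf c
      have hxV : x.1 ∈ O ⊓ W := ⟨hxO, x.2⟩
      change X.presheaf.germ O x.1 hxO c • _ = _ at hc
      rw [← germ_resO (inf_le_left : O ⊓ W ≤ O) hxV c, ← germM_res (inf_le_right : O ⊓ W ≤ W) hxV (unitGen f W),
        ← germM_res (inf_le_right : O ⊓ W ≤ W) hxV m, ← germM_smul] at hc
      obtain ⟨V, hxV', i₁, i₂, e⟩ := TopCat.Presheaf.germ_eq M.presheaf x.1 hxV hxV _ _ hc
      refine ⟨V, i₁.le.trans inf_le_right, resO X i₁.le (resO X inf_le_left c), hxV', ?_⟩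
      change res M i₁.le (_ • _) = res M i₂.le _ at e
      rw [res_smul, res_res, res_res, unitGen_res] at e
      exact e
    choose V hV c hxV hc using hloc
    have hcompat : ∀ i j, resO X (inf_le_left : V i ⊓ V j ≤ V i) (c i) = resO X (inf_le_right : V i ⊓ V j ≤ V j) (c j) := by
      intro i j
      refine TopCat.Presheaf.section_ext X.sheaf _ _ _ fun x hx => ?_
      refine (hst x (hV i hx.1)).1 ?_
      change X.presheaf.germ _ x hx _ • _ = X.presheaf.germ _ x hx _ • _
      have key : ∀ (i : W) (V' : X.Opens) (h : V' ≤ V i), resO X h (c i) • unitGen f V' = res M (h.trans (hV i)) m := by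
        intro i V' h
        rw [← unitGen_res f h, ← res_smul, hc i, res_res]
      rw [← germM_res (inf_le_left.trans (hV i)) hx (unitGen f W), ← germM_smul, ← germM_smul, unitGen_res,
        key i, key j]
    obtain ⟨cc, hcc, -⟩ := TopCat.Sheaf.existsUnique_gluing' X.sheaf V W (fun i => homOfLE (hV i))
      (fun y hy => Opens.mem_iSup.2 ⟨⟨y, hy⟩, hxV ⟨y, hy⟩⟩) c hcompat
    refine ⟨cc, section_ext M _ _ fun p hp => ⟨V ⟨p, hp⟩, hV _, hxV ⟨p, hp⟩, ?_⟩⟩
    rw [res_smul, unitGen_res, ← hc ⟨p, hp⟩]
    exact congrArg (· • _) (hcc ⟨p, hp⟩)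

end Groth.Agent.PP93
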