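import Groth.Agent.PP93.Kernel
import Groth.Agent.QC70.FiniteType
import Groth.Agent.QCqs72.Basic
import Groth.Agent.QCPull72.Sections
import Groth.Prelude.Def_Coh

/-!
The first projection of the neighbourhood of the diagonal is affine, and finite for morphisms locally of
finite type.
-/

set_option autoImplicit false
set_option backward.isDefEq.respectTransparency false
set_option linter.style.haveILetI false

noncomputable section

universe u

open CategoryTheory Limits AlgebraicGeometry TopologicalSpace Opposite TensorProduct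
open Groth.Agent.QC70

namespace Groth.Agent.PP93

variable {X S : Scheme.{u}} (f : X ⟶ S) (n : ℕ)

theorem isAffineOpen_preimage_pr1 {U : X.Opens} {V : S.Opens} (hU : IsAffineOpen U) (hV : IsAffineOpen V)
    (h : U ≤ f ⁻¹ᵁ V) : IsAffineOpen (PrinPart.pr1 f n ⁻¹ᵁ U) := by
  let C := (pullback.diagonal f).coborderRange
  let W := OmegaSh.diagNbhd f U
  have hW : IsAffineOpen W := Omega57.isAffineOpen_diagNbhd f hU hV h
  have hWC : W ≤ C.ι.opensRange := by
    rw [Scheme.Opens.opensRange_ι]; exact diagNbhd_le_coborderRange f hU hV h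
  have h1 : IsAffineOpen (C.ι ⁻¹ᵁ W) := hW.preimage_of_isOpenImmersion C.ι hWC
  have : IsClosedImmersion (PrinPart.infNbhdι (PrinPart.diagCl f) n) := by
    dsimp only [PrinPart.infNbhdι]; infer_instance
  rw [← preimage_nbhdι_diagNbhd f n U]
  exact h1.preimage (PrinPart.infNbhdι (PrinPart.diagCl f) n)

instance isAffineHom_pr1 : IsAffineHom (PrinPart.pr1 f n) := by
  refine isAffineHom_of_forall_exists_isAffineOpen _ fun x => ?_
  obtain ⟨_, ⟨(V : S.Opens), hV, rfl⟩, hxV, -⟩ :=
    S.isBasis_affineOpens.exists_subset_of_mem_open (Set.mem_univ (f x)) isOpen_univ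
  obtain ⟨_, ⟨(W : X.Opens), hW, rfl⟩, hxW, hWV⟩ :=
    X.isBasis_affineOpens.exists_subset_of_mem_open (show x ∈ ((f ⁻¹ᵁ V : X.Opens) : Set X) from hxV)
      (f ⁻¹ᵁ V).2
  exact ⟨W, hxW, hW, isAffineOpen_preimage_pr1 f n hW hV hWV⟩

theorem isQCoh_PMod (F : X.Modules) (hF : Coh.IsQCoh F) : Coh.IsQCoh (PrinPart.PMod f n F) := by
  haveI : F.IsQuasicoherent := hF
  haveI := QCPull72.isQuasicoherent_pullback (PrinPart.pr2 f n) F
  exact QCqs72.isQuasicoherent_pushforward (M := (Scheme.Modules.pullback (PrinPart.pr2 f n)).obj F) (PrinPart.pr1 f n)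

/-- A finite type algebra: the tensor square modulo a power of the diagonal ideal is a finite module. -/
theorem finite_comp_of_pow_zero {A B C : Type*} [CommRing A] [CommRing B] [Algebra A B] [CommRing C]
    [Algebra.FiniteType A B] (r : B ⊗[A] B →+* C) (hr : Function.Surjective r) (m : ℕ)
    (h : ∀ z ∈ KaehlerDifferential.ideal A B ^ (m + 1), r z = 0) :
    (r.comp (Algebra.TensorProduct.includeLeftRingHom : B →+* B ⊗[A] B)).Finite := by
  let ρ := r.comp (Algebra.TensorProduct.includeLeftRingHom : B →+* B ⊗[A] B)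
  letI := ρ.toAlgebra
  obtain ⟨s, hs⟩ := Algebra.FiniteType.out (R := A) (A := B)
  let x : B → C := fun b => r (1 ⊗ₜ b - b ⊗ₜ 1)
  have hx : ∀ b, IsIntegral B (x b) := by
    intro b
    refine IsIntegral.of_pow (Nat.succ_pos m) ?_
    rw [← map_pow, h _ (Ideal.pow_mem_pow (KaehlerDifferential.one_smul_sub_smul_one_mem_ideal A b) _)]
    exact isIntegral_zero
  let T := Algebra.adjoin B (x '' (s : Set B))
  have hfin : (Subalgebra.toSubmodule T).FG :=
    fg_adjoin_of_finite (s.finite_toSet.image x) (by rintro _ ⟨b, -, rfl⟩; exact hx b)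
  have hleft : ∀ b, r (b ⊗ₜ 1) ∈ T := fun b => T.algebraMap_mem b
  have hright : ∀ b, r (1 ⊗ₜ b) ∈ T := by
    intro b
    have hb : b ∈ Algebra.adjoin A (s : Set B) := hs ▸ trivial
    induction hb using Algebra.adjoin_induction with
    | mem b hb =>
      have e : r (1 ⊗ₜ b) = x b + r (b ⊗ₜ 1) := by
        simp only [x, map_sub, sub_add_cancel]
      rw [e]
      exact add_mem (Algebra.subset_adjoin ⟨b, hb, rfl⟩) (hleft b)
    | algebraMap a =>
      rw [Algebra.algebraMap_eq_smul_one, ← TensorProduct.smul_tmul]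
      exact hleft _
    | add b c _ _ hb hc => rw [TensorProduct.tmul_add, map_add]; exact add_mem hb hc
    | mul b c _ _ hb hc =>
      rw [show (1 : B) ⊗ₜ[A] (b * c) = (1 ⊗ₜ b) * (1 ⊗ₜ c) by simp, map_mul]
      exact mul_mem hb hc
  have htop : T = ⊤ := by
    refine Algebra.eq_top_iff.2 fun c => ?_
    obtain ⟨z, rfl⟩ := hr c
    induction z using TensorProduct.induction_on with
    | zero => rw [map_zero]; exact zero_mem _
    | add y z hy hz => rw [map_add]; exact add_mem hy hz
    | tmul b c =>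
      rw [show b ⊗ₜ[A] c = (b ⊗ₜ 1) * (1 ⊗ₜ c) by simp, map_mul]
      exact mul_mem (hleft b) (hright c)
  rw [htop, Algebra.top_toSubmodule] at hfin
  exact Module.finite_def.2 hfin

theorem finite_app_pr1 [LocallyOfFiniteType f] {U : X.Opens} {V : S.Opens} (hU : IsAffineOpen U)
    (hV : IsAffineOpen V) (h : U ≤ f ⁻¹ᵁ V) : ((PrinPart.pr1 f n).app U).hom.Finite := by
  letI := (f.appLE V U h).hom.toAlgebra
  haveI : Algebra.FiniteType Γ(S, V) Γ(X, U) := LocallyOfFiniteType.finiteType_appLE f hV hU h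
  obtain ⟨r, hrs, hr, hker⟩ := exists_nbhdHom f n hU hV h
  have e : r.comp Algebra.TensorProduct.includeLeftRingHom = ((PrinPart.pr1 f n).app U).hom := by
    refine RingHom.ext fun a => ?_
    change r (a ⊗ₜ 1) = _
    rw [hr, map_one, mul_one]
  exact e ▸ finite_comp_of_pow_zero r hrs n fun z hz => (hker z).2 hz

theorem isCoh_PMod [LocallyOfFiniteType f] (F : X.Modules) (hF : Coh.IsCoh F) :
    Coh.IsCoh (PrinPart.PMod f n F) := by
  haveI : F.IsQuasicoherent := hF.1
  haveI : F.IsFiniteType := hF.2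
  haveI h1 : ((Scheme.Modules.pullback (PrinPart.pr2 f n)).obj F).IsQuasicoherent :=
    QCPull72.isQuasicoherent_pullback (PrinPart.pr2 f n) F
  haveI h2 : ((Scheme.Modules.pullback (PrinPart.pr2 f n)).obj F).IsFiniteType :=
    QCPull72.isFiniteType_pullback (PrinPart.pr2 f n) F
  haveI : (PrinPart.PMod f n F).IsQuasicoherent := isQCoh_PMod f n F hF.1
  have hW : ∀ x : X, ∃ (W : X.Opens) (V : S.Opens), x ∈ W ∧ IsAffineOpen W ∧ IsAffineOpen V ∧ W ≤ f ⁻¹ᵁ V := by
    intro x
    obtain ⟨_, ⟨(V : S.Opens), hV, rfl⟩, hxV, -⟩ :=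
      S.isBasis_affineOpens.exists_subset_of_mem_open (Set.mem_univ (f x)) isOpen_univ
    obtain ⟨_, ⟨(W : X.Opens), hW, rfl⟩, hxW, hWV⟩ :=
      X.isBasis_affineOpens.exists_subset_of_mem_open (show x ∈ ((f ⁻¹ᵁ V : X.Opens) : Set X) from hxV)
        (f ⁻¹ᵁ V).2
    exact ⟨W, V, hxW, hW, hV, hWV⟩
  choose W V hxW hW hV hWV using hW
  refine ⟨inferInstance, isFiniteType_of_finite_sections _ W
    (IsOpenCover.mk (top_le_iff.1 fun x _ => Opens.mem_iSup.2 ⟨x, hxW x⟩)) hW fun x => ?_⟩
  let O := Γ(PrinPart.nbhd f n, PrinPart.pr1 f n ⁻¹ᵁ W x)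
  let M := Γ((Scheme.Modules.pullback (PrinPart.pr2 f n)).obj F, PrinPart.pr1 f n ⁻¹ᵁ W x)
  haveI : Module.Finite O M := finite_sections_of_isFiniteType _ (isAffineOpen_preimage_pr1 f n (hW x) (hV x) (hWV x))
  letI := ((PrinPart.pr1 f n).app (W x)).hom.toAlgebra
  haveI : Module.Finite Γ(X, W x) O := finite_app_pr1 f n (hW x) (hV x) (hWV x)
  letI : Module Γ(X, W x) M := Module.compHom M ((PrinPart.pr1 f n).app (W x)).hom
  haveI : IsScalarTower Γ(X, W x) O M := IsScalarTower.of_algebraMap_smul fun r e => rfl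
  exact Module.Finite.trans O M

end Groth.Agent.PP93
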