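import Mathlib

/-!
Differential operators on modules over an algebra: pairing with the tensor square.
-/

set_option autoImplicit false

noncomputable section

open TensorProduct

namespace Groth.Agent.PP93

variable {R A : Type*} [CommRing R] [CommRing A] [Algebra R A]
variable {M N P : Type*} [AddCommGroup M] [Module A M] [AddCommGroup N] [Module A N]
  [AddCommGroup P] [Module A P]

/-- Linear over the base. -/
def IsBaseLinear (R : Type*) [CommRing R] [Algebra R A] (D : M →+ N) : Prop :=
  ∀ (r : R) (t : M), D (algebraMap R A r • t) = algebraMap R A r • D t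

/-- The pairing `a ⊗ b ↦ (t ↦ a • D (b • t))`. -/
def pairing (D : M →+ N) (hD : IsBaseLinear (A := A) R D) : A ⊗[R] A →+ (M →+ N) :=
  TensorProduct.liftAddHom
    { toFun := fun a =>
        { toFun := fun b =>
            { toFun := fun t => a • D (b • t)
              map_zero' := by simp
              map_add' := fun x y => by simp [smul_add] }
          map_zero' := by ext t; simp
          map_add' := fun x y => by ext t; simp [add_smul, smul_add] }
      map_zero' := by ext b t; simp
      map_add' := fun x y => by ext b t; simp [add_smul] }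
    (fun r a b => by
      ext t
      change (r • a) • D (b • t) = a • D ((r • b) • t)
      rw [Algebra.smul_def, Algebra.smul_def, mul_smul, mul_smul, hD, smul_smul, smul_smul, mul_comm])

lemma pairing_tmul (D : M →+ N) (hD : IsBaseLinear (A := A) R D) (a b : A) (t : M) :
    pairing D hD (a ⊗ₜ b) t = a • D (b • t) := rfl

lemma pairing_left_mul (D : M →+ N) (hD : IsBaseLinear (A := A) R D) (c : A) (z : A ⊗[R] A) (t : M) :
    pairing D hD ((c ⊗ₜ 1) * z) t = c • pairing D hD z t := by
  induction z using TensorProduct.induction_on with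
  | zero => simp
  | add x y hx hy => simp [mul_add, smul_add, hx, hy]
  | tmul a b => simp [pairing_tmul, Algebra.TensorProduct.tmul_mul_tmul, mul_smul]

lemma pairing_right_mul (D : M →+ N) (hD : IsBaseLinear (A := A) R D) (c : A) (z : A ⊗[R] A) (t : M) :
    pairing D hD (z * (1 ⊗ₜ c)) t = pairing D hD z (c • t) := by
  induction z using TensorProduct.induction_on with
  | zero => simp
  | add x y hx hy => simp [add_mul, hx, hy]
  | tmul a b => simp [pairing_tmul, Algebra.TensorProduct.tmul_mul_tmul, mul_smul]

/-- `1 ⊗ a - a ⊗ 1`. -/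
def dd (R : Type*) {A : Type*} [CommRing R] [CommRing A] [Algebra R A] (a : A) : A ⊗[R] A :=
  1 ⊗ₜ a - a ⊗ₜ 1

/-- The alternating sum of order `n + 1`. -/
def altSum (D : M →+ N) {n : ℕ} (a : Fin (n + 1) → A) (t : M) : N :=
  ∑ H : Finset (Fin (n + 1)), ((-1 : ℤ) ^ H.card) • ((∏ i ∈ H, a i) • D ((∏ i ∈ Hᶜ, a i) • t))

lemma prod_tmul_left {ι : Type*} (s : Finset ι) (a : ι → A) :
    ∏ i ∈ s, (a i ⊗ₜ[R] (1 : A)) = (∏ i ∈ s, a i) ⊗ₜ[R] 1 :=
  (map_prod (Algebra.TensorProduct.includeLeftRingHom (R := R) (A := A) (B := A)) a s).symm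

lemma prod_tmul_right {ι : Type*} (s : Finset ι) (a : ι → A) :
    ∏ i ∈ s, ((1 : A) ⊗ₜ[R] a i) = 1 ⊗ₜ[R] (∏ i ∈ s, a i) :=
  (map_prod (Algebra.TensorProduct.includeRight (R := R) (A := A) (B := A)) a s).symm

theorem pairing_prod_dd (D : M →+ N) (hD : IsBaseLinear (A := A) R D) {n : ℕ} (a : Fin (n + 1) → A) (t : M) :
    pairing D hD (∏ i, dd R (a i)) t = altSum D a t := by
  classical
  have e : ∏ i, dd R (a i) = ∑ H : Finset (Fin (n + 1)),
      ((-1 : ℤ) ^ H.card) • ((∏ i ∈ H, a i) ⊗ₜ[R] (∏ i ∈ Hᶜ, a i)) := by
    rw [show ∏ i, dd R (a i) = ∏ i, ((- (a i ⊗ₜ[R] (1 : A))) + 1 ⊗ₜ[R] a i) from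
      Finset.prod_congr rfl fun i _ => by rw [dd, sub_eq_add_neg, add_comm], Finset.prod_add,
      Finset.powerset_univ]
    refine Finset.sum_congr rfl fun H _ => ?_
    rw [Finset.prod_neg, prod_tmul_left, prod_tmul_right, ← Finset.compl_eq_univ_sdiff, mul_assoc,
      Algebra.TensorProduct.tmul_mul_tmul, mul_one, one_mul, zsmul_eq_mul]
    push_cast
    rfl
  rw [e, map_sum, AddMonoidHom.finsetSum_apply]
  refine Finset.sum_congr rfl fun H _ => ?_
  rw [map_zsmul]
  rfl

/-- Order at most `n`: the pairing kills the `n + 1`-st power of the diagonal ideal. -/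
def Kills (D : M →+ N) (hD : IsBaseLinear (A := A) R D) (n : ℕ) : Prop :=
  ∀ w ∈ KaehlerDifferential.ideal R A ^ (n + 1), pairing D hD w = 0

theorem kills_iff (D : M →+ N) (hD : IsBaseLinear (A := A) R D) (n : ℕ) :
    Kills D hD n ↔ ∀ (a : Fin (n + 1) → A) (t : M), altSum D a t = 0 := by
  constructor
  · intro h a t
    rw [← pairing_prod_dd D hD, h]
    · rfl
    · have := Ideal.prod_mem_prod (s := (Finset.univ : Finset (Fin (n + 1))))
        (I := fun _ => KaehlerDifferential.ideal R A) (x := fun i => dd R (a i)) fun i _ =>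
          KaehlerDifferential.one_smul_sub_smul_one_mem_ideal R (a i)
      simpa using this
  · intro h w hw
    rw [← KaehlerDifferential.span_range_eq_ideal, Ideal.span, Submodule.span_pow] at hw
    suffices ∀ z, pairing D hD (z * w) = 0 by simpa using this 1
    induction hw using Submodule.span_induction with
    | mem w hw =>
      intro z
      obtain ⟨g, rfl⟩ := Set.mem_pow.1 hw
      choose a ha using fun i => (g i).2
      rw [List.prod_ofFn, show (∏ i, ((g i : A ⊗[R] A))) = ∏ i, dd R (a i) from
        Finset.prod_congr rfl fun i _ => (ha i).symm]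
      induction z using TensorProduct.induction_on with
      | zero => simp
      | add x y hx hy => rw [add_mul, map_add, hx, hy, add_zero]
      | tmul b c =>
        ext t
        rw [show (b ⊗ₜ[R] c) * ∏ i, dd R (a i) = (b ⊗ₜ[R] 1) * ((∏ i, dd R (a i)) * (1 ⊗ₜ[R] c)) by
          rw [mul_comm (∏ i, dd R (a i)), ← mul_assoc, Algebra.TensorProduct.tmul_mul_tmul, mul_one, one_mul],
          pairing_left_mul, pairing_right_mul, pairing_prod_dd, h, smul_zero]
        rfl
    | zero => intro z; simp
    | add x y _ _ hx hy => intro z; rw [mul_add, map_add, hx, hy, add_zero]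
    | smul c x _ hx => intro z; rw [smul_eq_mul, ← mul_assoc]; exact hx _

theorem isBaseLinear_comp (D : M →+ N) (D' : N →+ P) (hD : IsBaseLinear (A := A) R D)
    (hD' : IsBaseLinear (A := A) R D') : IsBaseLinear (A := A) R (D'.comp D) :=
  fun r t => (congrArg D' (hD r t)).trans (hD' r _)

set_option synthInstance.maxHeartbeats 200000 in
set_option maxHeartbeats 1000000 in
theorem kills_comp (D : M →+ N) (D' : N →+ P) (hD : IsBaseLinear (A := A) R D)
    (hD' : IsBaseLinear (A := A) R D') {n n' : ℕ} (h : Kills D hD n) (h' : Kills D' hD' n') :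
    Kills (D'.comp D) (isBaseLinear_comp D D' hD hD') (n + n') := by
  classical
  rw [kills_iff]
  intro a t
  rw [← pairing_prod_dd _ (isBaseLinear_comp D D' hD hD')]
  -- the pairing on the triple tensor product
  let Φ : (A ⊗[R] A) ⊗[R] A →+ P :=
    TensorProduct.liftAddHom
      { toFun := fun w =>
          { toFun := fun c => pairing D' hD' w (D (c • t))
            map_zero' := by simp
            map_add' := fun x y => by simp [add_smul] }
        map_zero' := by ext c; simp
        map_add' := fun x y => by ext c; simp }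
      (fun r w c => by
        change pairing D' hD' (r • w) (D (c • t)) = pairing D' hD' w (D ((r • c) • t))
        rw [Algebra.smul_def r c, mul_smul, hD, ← pairing_right_mul, ← mul_one w, ← smul_mul_assoc, mul_one,
          Algebra.smul_def r w, mul_comm]
        congr 2
        rw [Algebra.TensorProduct.algebraMap_apply, Algebra.algebraMap_eq_smul_one,
          TensorProduct.smul_tmul, ← Algebra.algebraMap_eq_smul_one]
        simp)
  have hΦ : ∀ w c, Φ (w ⊗ₜ c) = pairing D' hD' w (D (c • t)) := fun w c => rfl
  let ι12 : A ⊗[R] A →+* (A ⊗[R] A) ⊗[R] A := Algebra.TensorProduct.includeLeftRingHom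
  let ι23 : A ⊗[R] A →ₐ[R] (A ⊗[R] A) ⊗[R] A :=
    Algebra.TensorProduct.map Algebra.TensorProduct.includeRight (AlgHom.id R A)
  let ι13 : A ⊗[R] A →ₐ[R] (A ⊗[R] A) ⊗[R] A :=
    Algebra.TensorProduct.map Algebra.TensorProduct.includeLeft (AlgHom.id R A)
  have h13 : ∀ z, Φ (ι13 z) = pairing (D'.comp D) (isBaseLinear_comp D D' hD hD') z t := by
    intro z
    induction z using TensorProduct.induction_on with
    | zero => simp
    | add x y hx hy => simp [hx, hy]
    | tmul a c => simp [ι13, hΦ, pairing_tmul]
  rw [← h13, map_prod]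
  rw [show (∏ i, ι13 (dd R (a i))) = ∏ i, (ι23 (dd R (a i)) + ι12 (dd R (a i))) from
    Finset.prod_congr rfl fun i _ => by
      simp only [dd, map_sub, ι13, ι23, ι12, Algebra.TensorProduct.map_tmul, AlgHom.coe_id, id_eq,
        Algebra.TensorProduct.includeLeft_apply, Algebra.TensorProduct.includeRight_apply,
        Algebra.TensorProduct.includeLeftRingHom_apply, Algebra.TensorProduct.one_def]
      abel,
    Finset.prod_add, map_sum]
  refine Finset.sum_eq_zero fun H _ => ?_
  rw [← map_prod, ← map_prod]
  rcases Nat.lt_or_ge n H.card with hH | hH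
  · -- many factors in the last two variables
    have hmem : ∏ i ∈ H, dd R (a i) ∈ KaehlerDifferential.ideal R A ^ (n + 1) := by
      refine Ideal.pow_le_pow_right hH ?_
      simpa using Ideal.prod_mem_prod (s := H) (I := fun _ => KaehlerDifferential.ideal R A)
        (x := fun i => dd R (a i)) fun i _ => KaehlerDifferential.one_smul_sub_smul_one_mem_ideal R (a i)
    have key : ∀ (x : A ⊗[R] A) (u v c : A), Φ (((u ⊗ₜ v) ⊗ₜ c) * ι23 x) =
        u • D' (pairing D hD ((v ⊗ₜ c) * x) t) := by
      intro x u v c
      induction x using TensorProduct.induction_on with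
      | zero => simp
      | add x y hx hy => simp [mul_add, smul_add, hx, hy]
      | tmul p q =>
        simp [ι23, Algebra.TensorProduct.tmul_mul_tmul, hΦ, pairing_tmul]
    have key2 : ∀ y, Φ (y * ι23 (∏ i ∈ H, dd R (a i))) = 0 := by
      intro y
      induction y using TensorProduct.induction_on with
      | zero => simp
      | add x y hx hy => rw [add_mul, map_add, hx, hy, add_zero]
      | tmul w c =>
        induction w using TensorProduct.induction_on with
        | zero => simp
        | add x y hx hy => rw [TensorProduct.add_tmul, add_mul, map_add, hx, hy, add_zero]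
        | tmul u v =>
          rw [key, h _ (Ideal.mul_mem_left _ _ hmem)]
          simp
    rw [mul_comm]
    exact key2 _
  · have hc : n' + 1 ≤ (Finset.univ \ H).card := by
      rw [← Finset.compl_eq_univ_sdiff, Finset.card_compl, Fintype.card_fin]; omega
    have hmem : ∏ i ∈ Finset.univ \ H, dd R (a i) ∈ KaehlerDifferential.ideal R A ^ (n' + 1) := by
      refine Ideal.pow_le_pow_right hc ?_
      simpa using Ideal.prod_mem_prod (s := Finset.univ \ H) (I := fun _ => KaehlerDifferential.ideal R A)
        (x := fun i => dd R (a i)) fun i _ => KaehlerDifferential.one_smul_sub_smul_one_mem_ideal R (a i)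
    generalize ι23 (∏ i ∈ H, dd R (a i)) = y
    induction y using TensorProduct.induction_on with
    | zero => simp
    | add x y hx hy => rw [add_mul, map_add, hx, hy, add_zero]
    | tmul w c =>
      rw [show ι12 (∏ i ∈ Finset.univ \ H, dd R (a i)) = (∏ i ∈ Finset.univ \ H, dd R (a i)) ⊗ₜ (1 : A) from rfl,
        Algebra.TensorProduct.tmul_mul_tmul, mul_one, hΦ, h' _ (Ideal.mul_mem_left _ _ hmem)]
      rfl

end Groth.Agent.PP93
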