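import Groth.Agent.SchBasics.OmegaChart
import Groth.Agent.SchBasics.ClosedChart
import Groth.Agent.SchBasics.PullSpan
import Groth.Agent.Om3.Chart

/-!
Sections of a sheaf of differentials on an affine chart: generation and maps out of it; the identity
pullback on sections.
-/

set_option autoImplicit false
set_option backward.isDefEq.respectTransparency false
set_option linter.style.haveILetI false

noncomputable section

universe u

open CategoryTheory CategoryTheory.Limits AlgebraicGeometry TopologicalSpace Opposite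

namespace Groth.Agent.PP93

open Groth.Agent QC70

variable {X S : Scheme.{u}} {f : X ⟶ S} {Ω : X.Modules} {d : OmegaSh.Der f Ω}

/-- Sections over an affine chart are generated by differentials. -/
theorem mem_of_d_mem (hd : OmegaSh.IsUniversal d) {U : X.Opens} (hU : IsAffineOpen U) {V : S.Opens}
    (hV : IsAffineOpen V) (h : U ≤ f ⁻¹ᵁ V) (T : Submodule Γ(X, U) Γ(Ω, U))
    (hT : ∀ a, d.app U a ∈ T) (x : Γ(Ω, U)) : x ∈ T := by
  letI := (f.appLE V U h).hom.toAlgebra
  obtain ⟨e, he⟩ := SchBasics.exists_chartEquiv hd hU hV h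
  obtain ⟨z, rfl⟩ := e.surjective x
  have hz : z ∈ Submodule.span Γ(X, U) (Set.range (KaehlerDifferential.D Γ(S, V) Γ(X, U))) := by
    rw [KaehlerDifferential.span_range_derivation]; trivial
  have hle : Submodule.span Γ(X, U) (Set.range (KaehlerDifferential.D Γ(S, V) Γ(X, U))) ≤
      T.comap e.toLinearMap := by
    refine Submodule.span_le.2 ?_
    rintro _ ⟨a, rfl⟩
    show e _ ∈ T
    rw [he]
    exact hT a
  exact hle hz

/-- A derivation of the rings of a chart gives a map out of the sections of the differentials. -/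
theorem exists_linear_of_der (hd : OmegaSh.IsUniversal d) {U : X.Opens} (hU : IsAffineOpen U) {V : S.Opens}
    (hV : IsAffineOpen V) (h : U ≤ f ⁻¹ᵁ V) {N : Type u} [AddCommGroup N] [Module Γ(X, U) N]
    (δ : Γ(X, U) → N) (hadd : ∀ a b, δ (a + b) = δ a + δ b) (hmul : ∀ a b, δ (a * b) = a • δ b + b • δ a)
    (hbase : ∀ r, δ (f.appLE V U h r) = 0) :
    ∃ l : Γ(Ω, U) →ₗ[Γ(X, U)] N, ∀ a, l (d.app U a) = δ a := by
  letI := (f.appLE V U h).hom.toAlgebra
  obtain ⟨e, he⟩ := SchBasics.exists_chartEquiv hd hU hV h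
  letI : Module Γ(S, V) N := Module.compHom N (f.appLE V U h).hom
  haveI : IsScalarTower Γ(S, V) Γ(X, U) N := IsScalarTower.of_algebraMap_smul fun _ _ => rfl
  let D : Derivation Γ(S, V) Γ(X, U) N := Derivation.mk'
    { toFun := δ, map_add' := hadd
      map_smul' := fun r a => by
        show δ ((f.appLE V U h).hom r * a) = (f.appLE V U h).hom r • δ a
        rw [hmul, hbase, smul_zero, add_zero] }
    hmul
  refine ⟨D.liftKaehlerDifferential.comp e.symm.toLinearMap, fun a => ?_⟩
  show D.liftKaehlerDifferential (e.symm (d.app U a)) = δ a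
  rw [← he, e.symm_apply_apply, Derivation.liftKaehlerDifferential_comp_D]
  rfl

/-- The inverse of the unit isomorphism for the identity pullback is the pullback of sections. -/
theorem pullbackId_inv_app (M : X.Modules) (W : X.Opens) (s : Γ(M, W)) :
    ((Scheme.Modules.pullbackId X).inv.app M).app W s = OmegaSh.pullSect (𝟙 X) M W s := by
  have h := unit_conjugateEquiv Adjunction.id (Scheme.Modules.pullbackPushforwardAdjunction (𝟙 X))
    (Scheme.Modules.pullbackId X).hom M
  rw [Scheme.Modules.conjugateEquiv_pullbackId_hom] at h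
  have h2 : ((Scheme.Modules.pullbackId X).hom.app M).app W (OmegaSh.pullSect (𝟙 X) M W s) = s :=
    (congr($(congrArg (fun φ => Scheme.Modules.Hom.app φ W) h) s)).symm
  conv_lhs => rw [← h2]
  exact congr($(congrArg (fun φ => Scheme.Modules.Hom.app φ W)
    ((Scheme.Modules.pullbackId X).hom_inv_id_app M)) (OmegaSh.pullSect (𝟙 X) M W s))

/-- A three term sequence exact on sections over charts is exact, in image-kernel form. -/
theorem image_eq_kernel_of_basis {M N P : X.Modules} (a : M ⟶ N) (b : N ⟶ P)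
    (h : ∀ (O : X.Opens) (p : X), p ∈ O → ∃ W : X.Opens, p ∈ W ∧ W ≤ O ∧ Function.Surjective (b.app W) ∧
      (∀ y, b.app W (a.app W y) = 0) ∧ ∀ x, b.app W x = 0 → ∃ y, a.app W y = x) :
    Epi b ∧ imageSubobject a = kernelSubobject b := by
  have w : a ≫ b = 0 := Om3.comp_eq_zero_of_basis a b fun O p hp => by
    obtain ⟨W, h1, h2, -, h3, -⟩ := h O p hp
    exact ⟨W, h1, h2, h3⟩
  refine ⟨Om3.epi_of_basis b fun O p hp => ?_, ((ShortComplex.mk a b w).exact_iff_image_eq_kernel).1
    (Om3.exact_of_basis (ShortComplex.mk a b w) fun O p hp => ?_)⟩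
  · obtain ⟨W, h1, h2, h3, -, -⟩ := h O p hp
    exact ⟨W, h1, h2, h3⟩
  · obtain ⟨W, h1, h2, -, -, h4⟩ := h O p hp
    exact ⟨W, h1, h2, h4⟩

/-- The linear map given by a morphism on sections over an open. -/
def appLin {M N : X.Modules} (a : M ⟶ N) (W : X.Opens) : Γ(M, W) →ₗ[Γ(X, W)] Γ(N, W) where
  toFun s := a.app W s
  map_add' x y := map_add _ x y
  map_smul' r x := Scheme.Modules.Hom.app_smul a r x

theorem appLin_apply {M N : X.Modules} (a : M ⟶ N) (W : X.Opens) (s : Γ(M, W)) :
    appLin a W s = a.app W s := rfl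

end Groth.Agent.PP93
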