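import Groth.Agent.PP93.ChartBC
import Groth.Agent.PP93.Finite
import Groth.Agent.PP93.DiffGen
import Groth.Agent.Om3.BaseChange
import Groth.Agent.Div89.WeakAss

/-!
Sheaves of principal parts commute with base change.
-/

set_option autoImplicit false
set_option backward.isDefEq.respectTransparency false
set_option linter.style.haveILetI false

noncomputable section

universe u

open CategoryTheory CategoryTheory.Limits AlgebraicGeometry TopologicalSpace Opposite TensorProduct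

namespace Groth.Agent.PP93

open Groth.Agent QC70

/-- A map out of a module spanned by the image of a lattice which becomes an isomorphism on the base
change is bijective. -/
theorem bijective_of_baseChange {R R' : Type u} [CommRing R] [CommRing R'] [Algebra R R'] {M : Type u}
    [AddCommGroup M] [Module R M] {G N : Type u} [AddCommGroup G] [Module R' G] [Module R G]
    [IsScalarTower R R' G] [AddCommGroup N] [Module R' N]
    (p : M →ₗ[R] G) (hp : Submodule.span R' (Set.range p) = ⊤) (c : G →ₗ[R'] N)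
    (t : R' ⊗[R] M ≃ₗ[R'] N) (s : Set M) (hs : Submodule.span R s = ⊤)
    (h : ∀ x ∈ s, c (p x) = t (1 ⊗ₜ x)) : Function.Bijective c := by
  have h1 : c.comp (p.liftBaseChange R') = t.toLinearMap := by
    refine LinearMap.ext fun z => ?_
    induction z using TensorProduct.induction_on with
    | zero => rw [map_zero, map_zero]
    | add x y hx hy => rw [map_add, map_add, hx, hy]
    | tmul a x =>
      have hx : x ∈ Submodule.span R s := hs ▸ trivial
      rw [show a ⊗ₜ[R] x = a • ((1 : R') ⊗ₜ[R] x) by rw [TensorProduct.smul_tmul', smul_eq_mul, mul_one],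
        map_smul, map_smul]
      congr 1
      show c (p.liftBaseChange R' (1 ⊗ₜ x)) = t (1 ⊗ₜ x)
      rw [LinearMap.liftBaseChange_tmul, one_smul]
      induction hx using Submodule.span_induction with
      | mem y hy => exact h y hy
      | zero => rw [map_zero, map_zero, TensorProduct.tmul_zero, map_zero]
      | add y z _ _ hy hz => rw [map_add, map_add, TensorProduct.tmul_add, map_add, hy, hz]
      | smul r y _ hy =>
        rw [map_smul, TensorProduct.tmul_smul, ← algebraMap_smul R' r, ← algebraMap_smul R' r, map_smul,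
          map_smul, hy]
  have h2 : Function.Surjective (p.liftBaseChange R') := by
    rw [← LinearMap.range_eq_top, eq_top_iff, ← hp, Submodule.span_le]
    rintro _ ⟨x, rfl⟩
    exact ⟨1 ⊗ₜ x, by rw [LinearMap.liftBaseChange_tmul, one_smul]⟩
  have h3 : Function.Bijective (c ∘ p.liftBaseChange R') := by
    rw [show (c ∘ p.liftBaseChange R') = t from funext fun z => congr($h1 z)]
    exact t.bijective
  exact ⟨fun a b hab => by
    obtain ⟨a, rfl⟩ := h2 a
    obtain ⟨b, rfl⟩ := h2 b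
    rw [h3.1 hab], h3.2.of_comp⟩

theorem bijective_pMap_app {X S X' S' : Scheme.{u}} {f : X ⟶ S} {f' : X' ⟶ S'} {u : X' ⟶ X} {n : ℕ}
    {φ : (Scheme.Modules.pullback u).obj (PrinPart.P f n) ⟶ PrinPart.P f' n}
    (hφ : PrinPart.IsPMap f f' u n φ)
    {V : S.Opens} (hV : IsAffineOpen V) {U : S'.Opens} (hU : IsAffineOpen U)
    {W : X.Opens} (hW : IsAffineOpen W) (hWV : W ≤ f ⁻¹ᵁ V)
    {P : X'.Opens} (hP : IsAffineOpen P) (ePW : P ≤ u ⁻¹ᵁ W) (ePU : P ≤ f' ⁻¹ᵁ U)
    (hK : letI := (f.appLE V W hWV).hom.toAlgebra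
      letI := (f'.appLE U P ePU).hom.toAlgebra
      letI := (u.appLE W P ePW).hom.toAlgebra
      ∃ t : Γ(X', P) ⊗[Γ(X, W)] PP16.P n Γ(S, V) Γ(X, W) ≃ₗ[Γ(X', P)] PP16.P n Γ(S', U) Γ(X', P),
        ∀ b, t (1 ⊗ₜ PP16.dn n Γ(S, V) Γ(X, W) b) = PP16.dn n Γ(S', U) Γ(X', P) (u.appLE W P ePW b)) :
    Function.Bijective (φ.app P) := by
  haveI : (PrinPart.P f n).IsQuasicoherent := isQCoh_PMod f n _ (Div89.isQCoh_structureModule X)
  algebraize [(f.appLE V W hWV).hom, (u.appLE W P ePW).hom, (f'.appLE U P ePU).hom]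
  obtain ⟨t, ht⟩ := hK
  obtain ⟨e, he⟩ := exists_chartEquivP f n hW hV hWV
  obtain ⟨e', he'⟩ := exists_chartEquivP f' n hP hU ePU
  let G := (Scheme.Modules.pullback u).obj (PrinPart.P f n)
  let pz : Γ(PrinPart.P f n, W) → Γ(G, P) := fun m => res G ePW (OmegaSh.pullSect u (PrinPart.P f n) W m)
  have hcz : ∀ b, φ.app P (pz (PrinPart.dn f n W b)) = PrinPart.dn f' n P (u.appLE W P ePW b) := fun b => by
    show φ.app P (res G ePW _) = _
    rw [QC70.app_res φ, hφ, Scheme.Hom.appLE, ConcreteCategory.comp_apply]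
    exact (PrinPart.dP_map f' n (Coh.structureModule X') ePW
      (OmegaSh.strSect X' (u ⁻¹ᵁ W) (u.app W b))).symm
  have hpzs : ∀ r m, pz (r • m) = algebraMap Γ(X, W) Γ(X', P) r • pz m := fun r m => by
    show res G ePW (OmegaSh.pullSect u (PrinPart.P f n) W (r • m)) = _
    rw [OmegaSh.pullSect_smul, res_smul]
    rfl
  letI : Module Γ(X, W) Γ(G, P) := Module.compHom _ (algebraMap Γ(X, W) Γ(X', P))
  haveI : IsScalarTower Γ(X, W) Γ(X', P) Γ(G, P) := IsScalarTower.of_algebraMap_smul fun _ _ => rfl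
  let pzL : PP16.P n Γ(S, V) Γ(X, W) →ₗ[Γ(X, W)] Γ(G, P) :=
    { toFun := fun z => pz (e z)
      map_add' := fun a b => by
        show res G ePW (OmegaSh.pullSect u (PrinPart.P f n) W (e (a + b))) = _
        rw [map_add, map_add, res_add]
      map_smul' := fun r a => by
        rw [map_smul]
        exact hpzs r (e a) }
  refine bijective_of_baseChange pzL ?_ (appLin φ P) (t.trans e') _ (PPH.span_range_dn n Γ(S, V) Γ(X, W)) ?_
  · have h : Set.range pzL = Set.range pz := e.surjective.range_comp pz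
    rw [h]
    exact SchBasics.span_pullSect u (PrinPart.P f n) hP hW ePW
  · rintro _ ⟨b, rfl⟩
    show φ.app P (pz (e _)) = e' (t (1 ⊗ₜ PP16.dn n Γ(S, V) Γ(X, W) b))
    rw [he, hcz, ht b, he']

theorem isIso_pMap_of_isPullback {X S X' S' : Scheme.{u}} (f : X ⟶ S) (g : S' ⟶ S)
    (u : X' ⟶ X) (f' : X' ⟶ S') (hsq : IsPullback u f' f g) (n : ℕ)
    (φ : (Scheme.Modules.pullback u).obj (PrinPart.P f n) ⟶ PrinPart.P f' n)
    (hφ : PrinPart.IsPMap f f' u n φ) : IsIso φ := by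
  haveI : (PrinPart.P f n).IsQuasicoherent := isQCoh_PMod f n _ (Div89.isQCoh_structureModule X)
  haveI : (PrinPart.P f' n).IsQuasicoherent := isQCoh_PMod f' n _ (Div89.isQCoh_structureModule X')
  haveI : ((Scheme.Modules.pullback u).obj (PrinPart.P f n)).IsQuasicoherent :=
    QCPull72.isQuasicoherent_pullback u _
  have hex : ∀ x : X', ∃ (V : S.Opens) (U : S'.Opens) (W : X.Opens), IsAffineOpen V ∧ IsAffineOpen U ∧
      IsAffineOpen W ∧ U ≤ g ⁻¹ᵁ V ∧ W ≤ f ⁻¹ᵁ V ∧ x ∈ u ⁻¹ᵁ W ⊓ f' ⁻¹ᵁ U := by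
    intro x
    obtain ⟨_, ⟨V, hV, rfl⟩, hxV, -⟩ := S.isBasis_affineOpens.exists_subset_of_mem_open
      (show g (f' x) ∈ (⊤ : S.Opens) from trivial) (⊤ : S.Opens).isOpen
    obtain ⟨_, ⟨U, hU, rfl⟩, hxU, hUle⟩ := S'.isBasis_affineOpens.exists_subset_of_mem_open
      (show f' x ∈ g ⁻¹ᵁ V from hxV) (g ⁻¹ᵁ V).isOpen
    have hfx : f (u x) = g (f' x) := by
      rw [← Scheme.Hom.comp_apply, ← Scheme.Hom.comp_apply, hsq.w]
    obtain ⟨_, ⟨W, hW, rfl⟩, hxW, hWle⟩ := X.isBasis_affineOpens.exists_subset_of_mem_open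
      (show u x ∈ f ⁻¹ᵁ V by show f (u x) ∈ V; rw [hfx]; exact hxV) (f ⁻¹ᵁ V).isOpen
    exact ⟨V, U, W, hV, hU, hW, hUle, hWle, hxW, hxU⟩
  choose V U W hV hU hW hUV hWV hx using hex
  have hP : ∀ x, IsAffineOpen (u ⁻¹ᵁ W x ⊓ f' ⁻¹ᵁ U x) := fun x => by
    haveI : IsAffine (U x) := hU x
    haveI : IsAffine (W x) := hW x
    haveI : IsAffine (V x) := hV x
    exact .of_isIso (Scheme.Hom.isPullback_resLE hsq (hUV x) (hWV x) rfl).isoPullback.hom
  refine EGA73.isIso_of_bijective_cover φ (fun x => u ⁻¹ᵁ W x ⊓ f' ⁻¹ᵁ U x) hP (fun x => ⟨x, hx x⟩)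
    fun x => ?_
  let P : X'.Opens := u ⁻¹ᵁ W x ⊓ f' ⁻¹ᵁ U x
  have ePW : P ≤ u ⁻¹ᵁ W x := inf_le_left
  have ePU : P ≤ f' ⁻¹ᵁ U x := inf_le_right
  have hpush := (isIso_pushoutSection_iff hsq (hUV x) (hWV x) (rfl : P = _)).mp
    (isIso_pushoutSection_of_isAffineOpen hsq (hUV x) (hWV x) rfl (hV x) (hU x) (hW x))
  algebraize [(f.appLE (V x) (W x) (hWV x)).hom, (g.appLE (V x) (U x) (hUV x)).hom,
    (u.appLE (W x) P ePW).hom, (f'.appLE (U x) P ePU).hom,
    ((g.appLE (V x) (U x) (hUV x)) ≫ (f'.appLE (U x) P ePU)).hom]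
  haveI : IsScalarTower Γ(S, V x) Γ(S', U x) Γ(X', P) := IsScalarTower.of_algebraMap_eq fun _ => rfl
  haveI : IsScalarTower Γ(S, V x) Γ(X, W x) Γ(X', P) :=
    IsScalarTower.of_algebraMap_eq fun r => (congr($(hpush.w) r)).symm
  haveI : Algebra.IsPushout Γ(S, V x) Γ(X, W x) Γ(S', U x) Γ(X', P) :=
    CommRingCat.isPushout_iff_isPushout.mp hpush
  obtain ⟨t, ht⟩ := exists_baseChangeEquiv n Γ(S, V x) Γ(X, W x) Γ(S', U x) Γ(X', P)
  refine bijective_pMap_app hφ (hV x) (hU x) (hW x) (hWV x) (hP x) ePW ePU ⟨t, fun b => ?_⟩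
  rw [ht]
  exact PP16.map_dn n Γ(S, V x) Γ(X, W x) Γ(S', U x) Γ(X', P) b

end Groth.Agent.PP93
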