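import Groth.Agent.PP93.Nbhd
import Groth.Agent.DCK91.PullStalk

/-!
The module of principal parts is generated on the left by the image of the canonical operator.
-/

set_option autoImplicit false
set_option backward.isDefEq.respectTransparency false

noncomputable section

universe u

open CategoryTheory Limits AlgebraicGeometry TopologicalSpace Opposite
open Groth.Agent.QC70

namespace Groth.Agent.PP93

variable {X S : Scheme.{u}} (f : X ⟶ S) (n : ℕ) (F : X.Modules)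

/-- `pr2^* F`. -/
abbrev M₂ : (PrinPart.nbhd f n).Modules := (Scheme.Modules.pullback (PrinPart.pr2 f n)).obj F

/-- `pr2♯` over `pr1⁻¹`. -/
abbrev d2 (U : X.Opens) : Γ(X, U) ⟶ Γ(PrinPart.nbhd f n, PrinPart.pr1 f n ⁻¹ᵁ U) :=
  (PrinPart.pr2 f n).appLE U (PrinPart.pr1 f n ⁻¹ᵁ U) (PrinPart.preimage_pr1 f n U).le

variable {F} in
/-- `d^n` as a section of the inverse image. -/
def dM (U : X.Opens) (t : Γ(F, U)) : Γ(M₂ f n F, PrinPart.pr1 f n ⁻¹ᵁ U) := PrinPart.dP f n F U t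

variable {F} in
/-- `d^n` is semilinear over `pr2♯`. -/
theorem dP_smul (U : X.Opens) (b : Γ(X, U)) (t : Γ(F, U)) :
    dM f n U (b • t) = d2 f n U b • dM f n U t := by
  unfold dM
  rw [PrinPart.dP_apply, PrinPart.dP_apply, OmegaSh.pullSect_smul, Scheme.Modules.map_smul]
  rfl

theorem exists_affine_le (U : X.Opens) (x : X) (hx : x ∈ U) :
    ∃ (W : X.Opens) (V : S.Opens), x ∈ W ∧ W ≤ U ∧ IsAffineOpen W ∧ IsAffineOpen V ∧ W ≤ f ⁻¹ᵁ V := by
  obtain ⟨_, ⟨(V : S.Opens), hV, rfl⟩, hxV, -⟩ :=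
    S.isBasis_affineOpens.exists_subset_of_mem_open (Set.mem_univ (f x)) isOpen_univ
  obtain ⟨_, ⟨(W : X.Opens), hW, rfl⟩, hxW, hWU⟩ :=
    X.isBasis_affineOpens.exists_subset_of_mem_open (show x ∈ ((U ⊓ f ⁻¹ᵁ V : X.Opens) : Set X) from ⟨hx, hxV⟩)
      (U ⊓ f ⁻¹ᵁ V).2
  exact ⟨W, V, hxW, fun z hz => (hWU hz).1, hW, hV, fun z hz => (hWU hz).2⟩

/-- The left module of principal parts is generated by the image of `d^n`. -/
theorem hom_ext_of_dP (G : X.Modules) (a b : PrinPart.PMod f n F ⟶ G)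
    (h : ∀ (U : X.Opens) (t : Γ(F, U)),
      a.app U (PrinPart.dP f n F U t) = b.app U (PrinPart.dP f n F U t)) : a = b := by
  suffices hd : ∀ d : PrinPart.PMod f n F ⟶ G,
      (∀ (U : X.Opens) (t : Γ(F, U)), d.app U (PrinPart.dP f n F U t) = 0) → d = 0 by
    refine sub_eq_zero.1 (hd (a - b) fun U t => ?_)
    rw [Scheme.Modules.Hom.sub_app]
    exact sub_eq_zero.2 (h U t)
  intro d hd
  let p1 := PrinPart.pr1 f n
  let M := M₂ f n F
  let Q : ∀ U : X.Opens, Γ(M, p1 ⁻¹ᵁ U) → Prop := fun U s =>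
    ∀ (U' : X.Opens) (hU' : U' ≤ U) (r : Γ(PrinPart.nbhd f n, p1 ⁻¹ᵁ U')),
      d.app U' (r • res M (p1.preimage_mono hU') s) = 0
  have hres : ∀ (U U' : X.Opens) (hU' : U' ≤ U) (s : Γ(M, p1 ⁻¹ᵁ U)), Q U s →
      Q U' (res M (p1.preimage_mono hU') s) := fun U U' hU' s hs U'' hU'' r => by
    rw [res_res]; exact hs U'' (hU''.trans hU') r
  have hsmul : ∀ (U : X.Opens) (c : Γ(PrinPart.nbhd f n, p1 ⁻¹ᵁ U)) (s : Γ(M, p1 ⁻¹ᵁ U)), Q U s →
      Q U (c • s) := fun U c s hs U' hU' r => by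
    rw [res_smul, smul_smul]; exact hs U' hU' _
  have hadd : ∀ (U : X.Opens) (s t : Γ(M, p1 ⁻¹ᵁ U)), Q U s → Q U t → Q U (s + t) :=
    fun U s t hs ht U' hU' r => by
      rw [res_add (M := M), smul_add]
      exact (map_add (d.app U').hom _ _).trans (by rw [show (d.app U').hom _ = 0 from hs U' hU' r,
        show (d.app U').hom _ = 0 from ht U' hU' r, add_zero])
  have hbase : ∀ (U : X.Opens) (t : Γ(F, U)), Q U (dM f n U t) := by
    intro U t U' hU' r
    have hres' : res M (p1.preimage_mono hU') (dM f n U t) =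
        dM f n U' (F.presheaf.map (homOfLE hU').op t) := (PrinPart.dP_map f n F hU' t).symm
    rw [hres']
    generalize F.presheaf.map (homOfLE hU').op t = t'
    refine section_ext G _ _ fun x hx => ?_
    obtain ⟨W, V, hxW, hWU, hW, hV, hWV⟩ := exists_affine_le f U' x hx
    refine ⟨W, hWU, hxW, ?_⟩
    rw [show res G hWU (0 : Γ(G, U')) = 0 from map_zero _, ← app_res d hWU]
    change d.app W (res M (p1.preimage_mono hWU) (r • _)) = 0
    rw [res_smul (M := M)]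
    have hr := mem_closure_mul f n hW hV hWV (resO (PrinPart.nbhd f n) (p1.preimage_mono hWU) r)
    have ht : res M (p1.preimage_mono hWU) (dM f n U' t') =
        dM f n W (F.presheaf.map (homOfLE hWU).op t') := (PrinPart.dP_map f n F hWU t').symm
    rw [ht]
    generalize F.presheaf.map (homOfLE hWU).op t' = t''
    generalize resO (PrinPart.nbhd f n) (p1.preimage_mono hWU) r = r' at hr ⊢
    induction hr using AddSubgroup.closure_induction with
    | mem c hc =>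
      obtain ⟨⟨c₁, c₂⟩, rfl⟩ := hc
      rw [mul_smul, ← dP_smul]
      exact (Scheme.Modules.Hom.app_smul d c₁ (PrinPart.dP f n F W (c₂ • t''))).trans
        (by rw [hd]; exact smul_zero _)
    | zero => rw [zero_smul]; exact map_zero (d.app W).hom
    | add c c' _ _ hc hc' =>
      rw [add_smul]
      exact (map_add (d.app W).hom _ _).trans (by
        rw [show (d.app W).hom _ = 0 from hc, show (d.app W).hom _ = 0 from hc', add_zero])
    | neg c _ hc =>
      rw [neg_smul]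
      exact (map_neg (d.app W).hom _).trans (by rw [show (d.app W).hom _ = 0 from hc, neg_zero])
  -- every section of the inverse image lies in `Q` near every point
  have key : ∀ (z : PrinPart.nbhd f n) (e : M.presheaf.stalk z),
      ∃ (U : X.Opens) (hz : z ∈ p1 ⁻¹ᵁ U) (s : Γ(M, p1 ⁻¹ᵁ U)),
        germM M (p1 ⁻¹ᵁ U) z hz s = e ∧ Q U s := by
    intro z e
    letI := ((PrinPart.pr2 f n).stalkMap z).hom.toAlgebra
    letI := Module.compHom (M.presheaf.stalk z) ((PrinPart.pr2 f n).stalkMap z).hom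
    haveI : IsScalarTower (X.presheaf.stalk (PrinPart.pr2 f n z)) ((PrinPart.nbhd f n).presheaf.stalk z)
        (M.presheaf.stalk z) := IsScalarTower.of_algebraMap_smul fun r e => rfl
    refine (DCK91.isBaseChange_pullη (PrinPart.pr2 f n) F z).inductionOn e
      (fun e => ∃ (U : X.Opens) (hz : z ∈ p1 ⁻¹ᵁ U) (s : Γ(M, p1 ⁻¹ᵁ U)),
        germM M (p1 ⁻¹ᵁ U) z hz s = e ∧ Q U s) ?_ (fun m => ?_) (fun c e' he => ?_) (fun e₁ e₂ he₁ he₂ => ?_)
    · refine ⟨⊤, trivial, 0, germM_zero _, fun U' hU' r => ?_⟩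
      rw [show res M (p1.preimage_mono hU') (0 : Γ(M, p1 ⁻¹ᵁ ⊤)) = 0 from map_zero _, smul_zero]
      exact map_zero (d.app U').hom
    · obtain ⟨U, hzU, t, rfl⟩ := germM_exist m
      have hz : z ∈ p1 ⁻¹ᵁ U := (PrinPart.preimage_pr1 f n U).ge hzU
      refine ⟨U, hz, dM f n U t, ?_, hbase U t⟩
      rw [DCK91.pullη_germ]
      exact germM_res (M := M) (PrinPart.preimage_pr1 f n U).le hz _
    · obtain ⟨U, hz, s, rfl, hs⟩ := he
      obtain ⟨O, hzO, c, rfl⟩ := TopCat.Presheaf.exists_germ_eq (PrinPart.nbhd f n).presheaf c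
      let U' : X.Opens := U ⊓ PrinPart.toNbhd f n ⁻¹ᵁ O
      have hle : p1 ⁻¹ᵁ U' ≤ O := fun w hw => (exists_opens_eq f n O).le hw.2
      have hz' : z ∈ p1 ⁻¹ᵁ U' := ⟨hz, (exists_opens_eq f n O).ge hzO⟩
      refine ⟨U', hz', resO (PrinPart.nbhd f n) hle c • res M (p1.preimage_mono inf_le_left) s, ?_,
        hsmul _ _ _ (hres U U' inf_le_left s hs)⟩
      rw [germM_smul, germM_res, germ_resO]
    · obtain ⟨U₁, hz₁, s₁, rfl, hs₁⟩ := he₁
      obtain ⟨U₂, hz₂, s₂, rfl, hs₂⟩ := he₂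
      have hz' : z ∈ p1 ⁻¹ᵁ (U₁ ⊓ U₂) := ⟨hz₁, hz₂⟩
      refine ⟨U₁ ⊓ U₂, hz', res M (p1.preimage_mono inf_le_left) s₁ + res M (p1.preimage_mono inf_le_right) s₂,
        ?_, hadd _ _ _ (hres U₁ _ inf_le_left s₁ hs₁) (hres U₂ _ inf_le_right s₂ hs₂)⟩
      rw [germM_add, germM_res, germM_res]
  refine Scheme.Modules.hom_ext _ _ fun U => ?_
  ext s
  change d.app U s = 0
  refine section_ext G _ _ fun x hx => ?_
  let z := PrinPart.toNbhd f n x
  have hzU : z ∈ p1 ⁻¹ᵁ U := by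
    change p1 (PrinPart.toNbhd f n x) ∈ U
    rw [← Scheme.Hom.comp_apply, PrinPart.toNbhd_pr1]; exact hx
  obtain ⟨U', hzU', s', hs', hQ⟩ := key z (germM M (p1 ⁻¹ᵁ U) z hzU s)
  have hxU' : x ∈ U' := by
    have := hzU'
    change p1 (PrinPart.toNbhd f n x) ∈ U' at this
    rwa [← Scheme.Hom.comp_apply, PrinPart.toNbhd_pr1] at this
  obtain ⟨O, hzO, i₁, i₂, e⟩ := TopCat.Presheaf.germ_eq M.presheaf z hzU' hzU s' s hs'
  let W : X.Opens := U ⊓ U' ⊓ PrinPart.toNbhd f n ⁻¹ᵁ O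
  refine ⟨W, inf_le_left.trans inf_le_left, ⟨⟨hx, hxU'⟩, hzO⟩, ?_⟩
  rw [show res G (inf_le_left.trans inf_le_left : W ≤ U) (0 : Γ(G, U)) = 0 from map_zero _, ← app_res d]
  have hWO : p1 ⁻¹ᵁ W ≤ O := fun w hw => (exists_opens_eq f n O).le hw.2
  have hW' : W ≤ U' := inf_le_left.trans inf_le_right
  have h1 := hQ W hW' 1
  rw [one_smul] at h1
  refine Eq.trans (congrArg (d.app W) ?_) h1
  have e' := congrArg (res M hWO) e
  change res M hWO (res M i₁.le s') = res M hWO (res M i₂.le s) at e'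
  rw [res_res, res_res] at e'
  exact e'.symm

end Groth.Agent.PP93
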