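import Groth.Agent.PP93.Kernel
import Groth.Agent.PP93.Ext
import Groth.Agent.PP93.UnitGen

/-!
Global sections of the principal parts of an affine morphism of affine schemes.
-/

set_option autoImplicit false
set_option backward.isDefEq.respectTransparency false
set_option linter.style.haveILetI false

noncomputable section

universe u

open CategoryTheory Limits AlgebraicGeometry TopologicalSpace Opposite TensorProduct
open Groth.Agent.QC70

namespace Groth.Agent.PP93

variable {X S : Scheme.{u}} (f : X ⟶ S)

theorem dn_eq (n : ℕ) (U : X.Opens) (b : Γ(X, U)) :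
    (PrinPart.dn f n U b : Γ(M₂ f n (Coh.structureModule X), PrinPart.pr1 f n ⁻¹ᵁ U)) =
      d2 f n U b • unitGen (PrinPart.pr2 f n) (PrinPart.pr1 f n ⁻¹ᵁ U) := by
  have h1 : OmegaSh.strSect X U b = b • OmegaSh.strSect X U 1 :=
    (congrArg (OmegaSh.strSect X U) (mul_one b).symm).trans (OmegaSh.strSect_mul U b 1)
  have h2 : dM f n U (OmegaSh.strSect X U 1) = unitGen (PrinPart.pr2 f n) (PrinPart.pr1 f n ⁻¹ᵁ U) := by
    rw [show OmegaSh.strSect X U 1 = res (Coh.structureModule X) le_top (OmegaSh.strSect X ⊤ 1) from ?_]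
    · unfold dM
      rw [show PrinPart.dP f n (Coh.structureModule X) U (res (Coh.structureModule X) le_top (OmegaSh.strSect X ⊤ 1)) =
        res (M₂ f n (Coh.structureModule X)) ((PrinPart.pr1 f n).preimage_mono le_top)
          (PrinPart.dP f n (Coh.structureModule X) ⊤ (OmegaSh.strSect X ⊤ 1)) from PrinPart.dP_map f n _ le_top _,
        PrinPart.dP_apply]
      exact res_res (M := M₂ f n (Coh.structureModule X)) (PrinPart.preimage_pr1 f n ⊤).le
        ((PrinPart.pr1 f n).preimage_mono le_top) _
    · change OmegaSh.strSect X U 1 = OmegaSh.strSect X U (resO X le_top 1)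
      rw [show resO X (le_top : U ≤ ⊤) (1 : Γ(X, ⊤)) = 1 from map_one _]
  change dM f n U (OmegaSh.strSect X U b) = _
  rw [h1, dP_smul, h2]

/-- Transport of the tensor square along ring isomorphisms. -/
theorem exists_tensorEquiv {A B A' B' : Type*} [CommRing A] [CommRing B] [Algebra A B] [CommRing A']
    [CommRing B'] [Algebra A' B'] (eA : A ≃+* A') (eB : B ≃+* B')
    (h : ∀ a, algebraMap A' B' (eA a) = eB (algebraMap A B a)) :
    ∃ θ : B ⊗[A] B ≃+* B' ⊗[A'] B', (∀ b c, θ (b ⊗ₜ c) = eB b ⊗ₜ eB c) ∧
      ∀ m : ℕ, ∀ z, θ z ∈ KaehlerDifferential.ideal A' B' ^ m ↔ z ∈ KaehlerDifferential.ideal A B ^ m := by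
  let φ : B ⊗[A] B →+ B' ⊗[A'] B' :=
    TensorProduct.liftAddHom
      { toFun := fun b =>
          { toFun := fun c => eB b ⊗ₜ[A'] eB c
            map_zero' := by simp
            map_add' := fun x y => by simp [TensorProduct.tmul_add] }
        map_zero' := by ext c; simp
        map_add' := fun x y => by ext c; simp [TensorProduct.add_tmul] }
      (fun r b c => by
        change eB (r • b) ⊗ₜ[A'] eB c = eB b ⊗ₜ[A'] eB (r • c)
        rw [Algebra.smul_def, Algebra.smul_def, map_mul, map_mul, ← h, ← Algebra.smul_def, ← Algebra.smul_def,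
          TensorProduct.smul_tmul])
  have hφ : ∀ b c, φ (b ⊗ₜ c) = eB b ⊗ₜ eB c := fun b c => rfl
  have h' : ∀ a', eB.symm (algebraMap A' B' a') = algebraMap A B (eA.symm a') := fun a' => by
    apply eB.injective; rw [← h]; simp
  let φ' : B' ⊗[A'] B' →+ B ⊗[A] B :=
    TensorProduct.liftAddHom
      { toFun := fun b =>
          { toFun := fun c => eB.symm b ⊗ₜ[A] eB.symm c
            map_zero' := by simp
            map_add' := fun x y => by simp [TensorProduct.tmul_add] }
        map_zero' := by ext c; simp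
        map_add' := fun x y => by ext c; simp [TensorProduct.add_tmul] }
      (fun r b c => by
        change eB.symm (r • b) ⊗ₜ[A] eB.symm c = eB.symm b ⊗ₜ[A] eB.symm (r • c)
        rw [Algebra.smul_def, Algebra.smul_def, map_mul, map_mul, h', ← Algebra.smul_def, ← Algebra.smul_def,
          TensorProduct.smul_tmul])
  have hφ' : ∀ b c, φ' (b ⊗ₜ c) = eB.symm b ⊗ₜ eB.symm c := fun b c => rfl
  let θ : B ⊗[A] B ≃+* B' ⊗[A'] B' :=
    { toFun := φ
      invFun := φ'
      left_inv := fun z => by
        induction z using TensorProduct.induction_on with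
        | zero => simp
        | add x y hx hy => rw [map_add, map_add, hx, hy]
        | tmul b c => rw [hφ, hφ', RingEquiv.symm_apply_apply, RingEquiv.symm_apply_apply]
      right_inv := fun z => by
        induction z using TensorProduct.induction_on with
        | zero => simp
        | add x y hx hy => rw [map_add, map_add, hx, hy]
        | tmul b c => rw [hφ', hφ, RingEquiv.apply_symm_apply, RingEquiv.apply_symm_apply]
      map_mul' := fun x y => by
        induction x using TensorProduct.induction_on with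
        | zero => simp
        | add x x' hx hx' => simp only [add_mul, map_add, hx, hx']
        | tmul b c =>
          induction y using TensorProduct.induction_on with
          | zero => simp
          | add y y' hy hy' => simp only [mul_add, map_add, hy, hy']
          | tmul b' c' => simp only [Algebra.TensorProduct.tmul_mul_tmul, hφ, map_mul]
      map_add' := map_add φ }
  refine ⟨θ, hφ, fun m z => mem_pow_iff_of_bijective θ.toRingHom θ.bijective _ _ ?_ m z⟩
  ext z
  rw [Ideal.mem_comap]
  have hl : ∀ z, Algebra.TensorProduct.lmul' A' (θ z) = eB (Algebra.TensorProduct.lmul' A z) := by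
    intro z
    induction z using TensorProduct.induction_on with
    | zero => simp
    | add x y hx hy => rw [map_add, map_add, map_add, map_add, hx, hy]
    | tmul b c =>
      rw [show θ (b ⊗ₜ c) = eB b ⊗ₜ eB c from rfl, Algebra.TensorProduct.lmul'_apply_tmul,
        Algebra.TensorProduct.lmul'_apply_tmul, map_mul]
  change Algebra.TensorProduct.lmul' A' (θ z) = 0 ↔ Algebra.TensorProduct.lmul' A z = 0
  rw [hl, map_eq_zero_iff _ eB.injective]

theorem globalSections (A B : Type u) [CommRing A] [CommRing B] [Algebra A B] (n : ℕ)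
    (ψ : B ⊗[A] B →+
      Γ(PrinPart.P (Spec.map (CommRingCat.ofHom (algebraMap A B))) n, (⊤ : (Spec (CommRingCat.of B)).Opens)))
    (hψ : ∀ b b' : B, ψ (b ⊗ₜ[A] b') =
      (Scheme.ΓSpecIso (CommRingCat.of B)).inv b •
        PrinPart.dn (Spec.map (CommRingCat.ofHom (algebraMap A B))) n ⊤
          ((Scheme.ΓSpecIso (CommRingCat.of B)).inv b')) :
    Function.Surjective ψ ∧ ψ.ker = (KaehlerDifferential.ideal A B ^ (n + 1)).toAddSubgroup := by
  let f := Spec.map (CommRingCat.ofHom (algebraMap A B))
  have hle : (⊤ : (Spec (CommRingCat.of B)).Opens) ≤ f ⁻¹ᵁ (⊤ : (Spec (CommRingCat.of A)).Opens) := le_top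
  letI := (f.appLE ⊤ ⊤ hle).hom.toAlgebra
  obtain ⟨r, hrs, hr, hker⟩ := exists_nbhdHom f n (isAffineOpen_top (Spec (CommRingCat.of B)))
    (isAffineOpen_top (Spec (CommRingCat.of A))) hle
  obtain ⟨θ, hθ, hθI⟩ := exists_tensorEquiv
    (Scheme.ΓSpecIso (CommRingCat.of A)).commRingCatIsoToRingEquiv.symm
    (Scheme.ΓSpecIso (CommRingCat.of B)).commRingCatIsoToRingEquiv.symm
    (fun a => (congr($(Scheme.ΓSpecIso_inv_naturality (CommRingCat.ofHom (algebraMap A B))) a)).symm.trans rfl)
  let g := unitGen (PrinPart.pr2 f n) (PrinPart.pr1 f n ⁻¹ᵁ (⊤ : (Spec (CommRingCat.of B)).Opens))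
  have hb := bijective_smul_unitGen (PrinPart.pr2 f n) (PrinPart.pr1 f n ⁻¹ᵁ (⊤ : (Spec (CommRingCat.of B)).Opens))
  have key : ∀ z, ψ z = r (θ z) • g := by
    intro z
    induction z using TensorProduct.induction_on with
    | zero => rw [map_zero, map_zero, map_zero, zero_smul]
    | add x y hx hy => rw [map_add, map_add, map_add, add_smul, hx, hy]
    | tmul b b' =>
      rw [hψ, hθ, hr, mul_smul, ← dn_eq]
      rfl
  constructor
  · intro m
    obtain ⟨c, hc⟩ := hb.2 m
    obtain ⟨w, rfl⟩ := hrs c
    obtain ⟨z, rfl⟩ := θ.surjective w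
    exact ⟨z, (key z).trans hc⟩
  · ext z
    rw [AddMonoidHom.mem_ker, key, Submodule.mem_toAddSubgroup, ← hθI, ← hker]
    constructor
    · intro h0
      exact hb.1 (h0.trans (zero_smul _ g).symm)
    · intro h0
      rw [h0, zero_smul]

end Groth.Agent.PP93
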