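import Groth.Agent.PPH.BaseChange
import Groth.Agent.PP93.Global

/-!
Sections of principal parts on affine charts, and their base change.
-/

set_option autoImplicit false
set_option backward.isDefEq.respectTransparency false
set_option linter.style.haveILetI false

noncomputable section

universe u

open CategoryTheory CategoryTheory.Limits AlgebraicGeometry TopologicalSpace Opposite TensorProduct

namespace Groth.Agent.PP93

open Groth.Agent QC70

/-- Base change of the rings of principal parts along a pushout square, as modules. -/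
theorem exists_baseChangeEquiv (n : ℕ) (A B A' B' : Type u) [CommRing A] [CommRing B] [Algebra A B]
    [CommRing A'] [CommRing B'] [Algebra A' B'] [Algebra A A'] [Algebra B B'] [Algebra A B']
    [IsScalarTower A A' B'] [IsScalarTower A B B'] [Algebra.IsPushout A B A' B'] :
    ∃ t : B' ⊗[B] PP16.P n A B ≃ₗ[B'] PP16.P n A' B',
      ∀ x, t (1 ⊗ₜ x) = PP16.map n A B A' B' x := by
  haveI : SMulCommClass B A' B' := ⟨fun a b c => by
    rw [Algebra.smul_def, Algebra.smul_def, Algebra.smul_def, Algebra.smul_def]; ring⟩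
  haveI : SMulCommClass B A B' := ⟨fun a b c => by
    rw [Algebra.smul_def, Algebra.smul_def, Algebra.smul_def, Algebra.smul_def]; ring⟩
  let T := B' ⊗[B] PP16.P n A B
  haveI : IsScalarTower A A' T := inferInstance
  haveI : IsScalarTower A' B' T := inferInstance
  haveI : IsScalarTower A B' T := inferInstance
  haveI : IsScalarTower A B T := ⟨fun a b t => by
    induction t using TensorProduct.induction_on with
    | zero => simp only [smul_zero]
    | add x y hx hy => simp only [smul_add, hx, hy]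
    | tmul x y => simp only [TensorProduct.smul_tmul', smul_assoc]⟩
  let mb := PPH.mapB n A B A' B'
  let fwd : T →ₐ[B'] PP16.P n A' B' :=
    Algebra.TensorProduct.lift (Algebra.ofId B' _) mb fun _ _ => Commute.all _ _
  let ι : PP16.P n A B →ₐ[B] T := Algebra.TensorProduct.includeRight
  have hfwd : ∀ x, fwd (ι x) = PP16.map n A B A' B' x := fun x => by
    show fwd (1 ⊗ₜ x) = _
    rw [Algebra.TensorProduct.lift_tmul, map_one, one_mul]
    rfl
  obtain ⟨e, he⟩ := PPH.exists_algEquiv_of_isPushout n (A := A) (B := B) (A' := A') (B' := B') T ι fwd hfwd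
    (fun g h hgh => Algebra.TensorProduct.ext (by ext) (AlgHom.ext hgh))
  exact ⟨e.toLinearEquiv, he⟩

variable {X S : Scheme.{u}} (f : X ⟶ S)

/-- Sections of the principal parts over an affine chart. -/
theorem exists_chartEquivP (n : ℕ) {W : X.Opens} {V : S.Opens} (hW : IsAffineOpen W) (hV : IsAffineOpen V)
    (h : W ≤ f ⁻¹ᵁ V) :
    letI := (f.appLE V W h).hom.toAlgebra
    ∃ e : PP16.P n Γ(S, V) Γ(X, W) ≃ₗ[Γ(X, W)] Γ(PrinPart.P f n, W),
      ∀ b, e (PP16.dn n Γ(S, V) Γ(X, W) b) = PrinPart.dn f n W b := by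
  letI := (f.appLE V W h).hom.toAlgebra
  obtain ⟨r, hrs, hr, hker⟩ := exists_nbhdHom f n hW hV h
  let O := Γ(PrinPart.nbhd f n, PrinPart.pr1 f n ⁻¹ᵁ W)
  let J := KaehlerDifferential.ideal Γ(S, V) Γ(X, W) ^ (n + 1)
  let rq : PP16.P n Γ(S, V) Γ(X, W) →+* O := Ideal.Quotient.lift J r fun a ha => (hker a).2 ha
  let g := unitGen (PrinPart.pr2 f n) (PrinPart.pr1 f n ⁻¹ᵁ W)
  have hb := bijective_smul_unitGen (PrinPart.pr2 f n) (PrinPart.pr1 f n ⁻¹ᵁ W)
  have hrq : Function.Bijective rq := by
    refine ⟨?_, fun y => ?_⟩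
    · rw [injective_iff_map_eq_zero]
      intro a ha
      obtain ⟨z, rfl⟩ := Ideal.Quotient.mk_surjective a
      exact Ideal.Quotient.eq_zero_iff_mem.2 ((hker z).1 ha)
    · obtain ⟨z, rfl⟩ := hrs y
      exact ⟨Ideal.Quotient.mk _ z, rfl⟩
  let l : PP16.P n Γ(S, V) Γ(X, W) →ₗ[Γ(X, W)] Γ(PrinPart.P f n, W) :=
    { toFun := fun x => ((rq x • g : Γ(M₂ f n (Coh.structureModule X), PrinPart.pr1 f n ⁻¹ᵁ W)) : Γ(PrinPart.P f n, W))
      map_add' := fun x y => by rw [map_add]; exact add_smul (M := Γ(M₂ f n (Coh.structureModule X), PrinPart.pr1 f n ⁻¹ᵁ W)) _ _ g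
      map_smul' := fun b x => by
        have hb : rq (algebraMap Γ(X, W) _ b) = (PrinPart.pr1 f n).app W b := by
          show r (b ⊗ₜ 1) = _
          rw [hr, map_one, mul_one]
        rw [Algebra.smul_def, map_mul, hb, mul_smul]
        rfl }
  refine ⟨LinearEquiv.ofBijective l (hb.comp hrq), fun b => ?_⟩
  show r (1 ⊗ₜ b) • g = _
  rw [hr, map_one, one_mul]
  exact (dn_eq f n W b).symm

end Groth.Agent.PP93
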