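import Groth.Agent.PP93.Kernel
import Groth.Agent.PP93.Alg
import Groth.Agent.PP93.Ext
import Groth.Agent.QC70.Closure

/-!
Differential operators of order at most `n` are detected by alternating sums.
-/

set_option autoImplicit false
set_option backward.isDefEq.respectTransparency false
set_option linter.style.haveILetI false

noncomputable section

universe u

open CategoryTheory Limits AlgebraicGeometry TopologicalSpace Opposite TensorProduct
open Groth.Agent.QC70

namespace Groth.Agent.PP93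

variable {X S : Scheme.{u}} (f : X ⟶ S) {F G : X.Modules}

/-- A morphism of abelian sheaves, linear over the base. -/
def IsLinearOverBase (D : F.presheaf ⟶ G.presheaf) : Prop :=
  ∀ (V : S.Opens) (s : Γ(S, V)) (U : X.Opens) (hU : U ≤ f ⁻¹ᵁ V) (t : Γ(F, U)),
    D.app (op U) (X.presheaf.map (homOfLE hU).op (f.app V s) • t) =
      X.presheaf.map (homOfLE hU).op (f.app V s) • D.app (op U) t

/-- The value of an operator on sections. -/
abbrev opApp (D : F.presheaf ⟶ G.presheaf) (U : X.Opens) : Γ(F, U) →+ Γ(G, U) := (D.app (op U)).hom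

theorem opApp_res (D : F.presheaf ⟶ G.presheaf) {U V : X.Opens} (h : V ≤ U) (t : Γ(F, U)) :
    opApp D V (res F h t) = res G h (opApp D U t) :=
  congr($(D.naturality (homOfLE h).op) t)

theorem isBaseLinear_opApp {D : F.presheaf ⟶ G.presheaf} (hlin : IsLinearOverBase f D)
    {W : X.Opens} {V : S.Opens} (h : W ≤ f ⁻¹ᵁ V) :
    letI := (f.appLE V W h).hom.toAlgebra
    IsBaseLinear Γ(S, V) (A := Γ(X, W)) (opApp D W) :=
  fun r t => hlin V r W h t

theorem altSum_res (D : F.presheaf ⟶ G.presheaf) {U V : X.Opens} (h : V ≤ U) {n : ℕ}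
    (a : Fin (n + 1) → Γ(X, U)) (t : Γ(F, U)) :
    res G h (altSum (opApp D U) a t) = altSum (opApp D V) (fun i => resO X h (a i)) (res F h t) := by
  change (G.presheaf.map (homOfLE h).op).hom _ = _
  rw [altSum, altSum, map_sum]
  refine Finset.sum_congr rfl fun H _ => ?_
  rw [map_zsmul]
  congr 1
  change res G h _ = _
  rw [res_smul, ← opApp_res, res_smul]
  simp only [resO, map_prod]

/-- An affine open over an affine open of the base. -/
def Good (W : X.Opens) : Prop := IsAffineOpen W ∧ ∃ V : S.Opens, IsAffineOpen V ∧ W ≤ f ⁻¹ᵁ V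

theorem exists_good_le (U : X.Opens) (x : X) (hx : x ∈ U) :
    ∃ W : X.Opens, x ∈ W ∧ W ≤ U ∧ Good f W := by
  obtain ⟨W, V, hxW, hWU, hW, hV, hWV⟩ := exists_affine_le f U x hx
  exact ⟨W, hxW, hWU, hW, V, hV, hWV⟩

theorem isLinearOverBase_of_isDiffOpLE {n : ℕ} {D : F.presheaf ⟶ G.presheaf}
    (hD : PrinPart.IsDiffOpLE f F G n D) : IsLinearOverBase f D := by
  obtain ⟨u, hu⟩ := hD
  intro V s U hU t
  rw [hu, hu, ← Scheme.Modules.Hom.app_smul]
  congr 1
  refine (dP_smul f n U _ t).trans ?_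
  have e : d2 f n U (X.presheaf.map (homOfLE hU).op (f.app V s)) =
      (PrinPart.pr1 f n).app U (X.presheaf.map (homOfLE hU).op (f.app V s)) := by
    change (f.appLE V U hU ≫ (PrinPart.pr2 f n).appLE U _ _) s =
      (f.appLE V U hU ≫ (PrinPart.pr1 f n).app U) s
    rw [Scheme.Hom.app_eq_appLE, Scheme.Hom.appLE_comp_appLE, Scheme.Hom.appLE_comp_appLE,
      OmegaSh.appLE_congr_hom (PrinPart.pr1_comp f n).symm]
  rw [e]
  rfl

theorem altSum_eq_zero_of_good {n : ℕ} {D : F.presheaf ⟶ G.presheaf}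
    (hD : PrinPart.IsDiffOpLE f F G n D) {W : X.Opens} (hW : Good f W)
    (a : Fin (n + 1) → Γ(X, W)) (t : Γ(F, W)) : altSum (opApp D W) a t = 0 := by
  have hlin := isLinearOverBase_of_isDiffOpLE f hD
  obtain ⟨u, hu⟩ := hD
  obtain ⟨hWa, V, hV, hWV⟩ := hW
  letI := (f.appLE V W hWV).hom.toAlgebra
  obtain ⟨r, -, hr, hker⟩ := exists_nbhdHom f n hWa hV hWV
  have hb := isBaseLinear_opApp f hlin hWV
  have key : ∀ z t, pairing (opApp D W) hb z t = u.app W (show Γ(PrinPart.PMod f n F, W) from r z • dM f n W t) := by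
    intro z t
    induction z using TensorProduct.induction_on with
    | zero => rw [map_zero, map_zero, zero_smul]; exact (map_zero (u.app W).hom).symm
    | add x y hx hy =>
      rw [map_add, map_add, AddMonoidHom.add_apply, hx, hy, add_smul]
      exact (map_add (u.app W).hom _ _).symm
    | tmul a b =>
      rw [hr, mul_smul, ← dP_smul, pairing_tmul]
      refine Eq.trans ?_ (Scheme.Modules.Hom.app_smul u a (PrinPart.dP f n F W (b • t))).symm
      rw [← hu]
  have hk : Kills (opApp D W) hb n := fun w hw => by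
    ext t
    rw [key, (hker w).2 hw, zero_smul]
    exact map_zero (u.app W).hom
  exact (kills_iff _ hb n).1 hk a t

theorem altSum_eq_zero {n : ℕ} {D : F.presheaf ⟶ G.presheaf}
    (h : ∀ W, Good f W → ∀ (a : Fin (n + 1) → Γ(X, W)) (t : Γ(F, W)), altSum (opApp D W) a t = 0)
    (U : X.Opens) (a : Fin (n + 1) → Γ(X, U)) (t : Γ(F, U)) : altSum (opApp D U) a t = 0 := by
  refine section_ext G _ _ fun x hx => ?_
  obtain ⟨W, hxW, hWU, hW⟩ := exists_good_le f U x hx
  exact ⟨W, hWU, hxW, by rw [altSum_res, h W hW, res_zero]⟩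

section Converse

variable (n : ℕ) (D : F.presheaf ⟶ G.presheaf)

/-- `ψ (pr1 a * pr2 b) t = a • D (b • t)`. -/
def IsPsi (W : X.Opens) (ψ : Γ(PrinPart.nbhd f n, PrinPart.pr1 f n ⁻¹ᵁ W) →+ (Γ(F, W) →+ Γ(G, W))) : Prop :=
  ∀ a b t, ψ ((PrinPart.pr1 f n).app W a * d2 f n W b) t = a • opApp D W (b • t)

variable {f n D}

theorem exists_isPsi (hlin : IsLinearOverBase f D)
    (h : ∀ (U : X.Opens) (a : Fin (n + 1) → Γ(X, U)) (t : Γ(F, U)), altSum (opApp D U) a t = 0)
    {W : X.Opens} (hW : Good f W) : ∃ ψ, IsPsi f n D W ψ := by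
  obtain ⟨hWa, V, hV, hWV⟩ := hW
  letI := (f.appLE V W hWV).hom.toAlgebra
  obtain ⟨r, hrs, hr, hker⟩ := exists_nbhdHom f n hWa hV hWV
  have hb := isBaseLinear_opApp f hlin hWV
  have hk : Kills (opApp D W) hb n := (kills_iff _ hb n).2 (h W)
  let ψ := AddMonoidHom.liftOfSurjective r.toAddMonoidHom hrs ⟨pairing (opApp D W) hb, fun w hw => hk w ((hker w).1 hw)⟩
  refine ⟨ψ, fun a b t => ?_⟩
  rw [← hr, show ψ (r (a ⊗ₜ b)) = pairing (opApp D W) hb (a ⊗ₜ b) from
    AddMonoidHom.liftOfRightInverse_comp_apply _ _ _ _ _]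
  rfl

theorem psi_induction {W : X.Opens} (hW : Good f W)
    {motive : Γ(PrinPart.nbhd f n, PrinPart.pr1 f n ⁻¹ᵁ W) → Prop}
    (mul : ∀ a b, motive ((PrinPart.pr1 f n).app W a * d2 f n W b))
    (zero : motive 0) (add : ∀ x y, motive x → motive y → motive (x + y))
    (neg : ∀ x, motive x → motive (-x)) (c : Γ(PrinPart.nbhd f n, PrinPart.pr1 f n ⁻¹ᵁ W)) : motive c := by
  obtain ⟨hWa, V, hV, hWV⟩ := hW
  have hc := mem_closure_mul f n hWa hV hWV c
  induction hc using AddSubgroup.closure_induction with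
  | mem c hc => obtain ⟨⟨a, b⟩, rfl⟩ := hc; exact mul a b
  | zero => exact zero
  | add x y _ _ hx hy => exact add x y hx hy
  | neg x _ hx => exact neg x hx

theorem d2_res {U V : X.Opens} (h : V ≤ U) (b : Γ(X, U)) :
    resO (PrinPart.nbhd f n) ((PrinPart.pr1 f n).preimage_mono h) (d2 f n U b) = d2 f n V (resO X h b) := by
  change (d2 f n U ≫ (PrinPart.nbhd f n).presheaf.map _) b = (X.presheaf.map _ ≫ d2 f n V) b
  rw [Scheme.Hom.appLE_map, Scheme.Hom.map_appLE]

theorem pr1_res {U V : X.Opens} (h : V ≤ U) (b : Γ(X, U)) :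
    resO (PrinPart.nbhd f n) ((PrinPart.pr1 f n).preimage_mono h) ((PrinPart.pr1 f n).app U b) =
      (PrinPart.pr1 f n).app V (resO X h b) :=
  (congr($((PrinPart.pr1 f n).naturality (homOfLE h).op) b)).symm

theorem isPsi_res {W W' : X.Opens} (hW : Good f W) (h : W' ≤ W) {ψ ψ'}
    (hψ : IsPsi f n D W ψ) (hψ' : IsPsi f n D W' ψ') (c t) :
    res G h (ψ c t) = ψ' (resO (PrinPart.nbhd f n) ((PrinPart.pr1 f n).preimage_mono h) c) (res F h t) := by
  revert t
  induction c using psi_induction hW with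
  | mul a b =>
    intro t
    rw [hψ, resO, map_mul, show _ * _ = (PrinPart.pr1 f n).app W' (resO X h a) * d2 f n W' (resO X h b) from
      congrArg₂ (· * ·) (pr1_res h a) (d2_res h b), hψ', res_smul, ← opApp_res, res_smul]
  | zero => intro t; simp
  | add x y hx hy =>
    intro t
    simp only [map_add, AddMonoidHom.add_apply, resO, res] at hx hy ⊢
    rw [hx, hy]
  | neg x hx =>
    intro t
    simp only [map_neg, AddMonoidHom.neg_apply, resO, res] at hx ⊢
    rw [hx]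

theorem isPsi_mul_d2 {W : X.Opens} (hW : Good f W) {ψ} (hψ : IsPsi f n D W ψ) (c) (r : Γ(X, W)) (t) :
    ψ (c * d2 f n W r) t = ψ c (r • t) := by
  revert t
  induction c using psi_induction hW with
  | mul a b => intro t; rw [mul_assoc, ← map_mul, hψ, hψ, mul_smul]
  | zero => intro t; simp
  | add x y hx hy => intro t; simp [add_mul, hx, hy]
  | neg x hx => intro t; simp [neg_mul, hx]

theorem isPsi_pr1_mul {W : X.Opens} (hW : Good f W) {ψ} (hψ : IsPsi f n D W ψ) (c) (r : Γ(X, W)) (t) :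
    ψ ((PrinPart.pr1 f n).app W r * c) t = r • ψ c t := by
  revert t
  induction c using psi_induction hW with
  | mul a b => intro t; rw [← mul_assoc, ← map_mul, hψ, hψ, mul_smul]
  | zero => intro t; simp
  | add x y hx hy => intro t; simp [mul_add, smul_add, hx, hy]
  | neg x hx => intro t; simp [mul_neg, smul_neg, hx]

/-- The pairing on germs, as a relation. -/
def PsiRel (ψ : ∀ W, Good f W → (Γ(PrinPart.nbhd f n, PrinPart.pr1 f n ⁻¹ᵁ W) →+ (Γ(F, W) →+ Γ(G, W))))
    (z : PrinPart.nbhd f n) (c : (PrinPart.nbhd f n).presheaf.stalk z)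
    (m : F.presheaf.stalk (PrinPart.pr2 f n z)) (g : G.presheaf.stalk (PrinPart.pr2 f n z)) : Prop :=
  ∃ (W : X.Opens) (hW : Good f W) (hz : z ∈ PrinPart.pr1 f n ⁻¹ᵁ W) (hx : PrinPart.pr2 f n z ∈ W)
    (c₀ : Γ(PrinPart.nbhd f n, PrinPart.pr1 f n ⁻¹ᵁ W)) (t₀ : Γ(F, W)),
    (PrinPart.nbhd f n).presheaf.germ _ z hz c₀ = c ∧ germM F W _ hx t₀ = m ∧
      germM G W _ hx (ψ W hW c₀ t₀) = g

theorem mem_pr1 {z : PrinPart.nbhd f n} {W : X.Opens} (hx : PrinPart.pr2 f n z ∈ W) :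
    z ∈ PrinPart.pr1 f n ⁻¹ᵁ W := (PrinPart.preimage_pr1 f n W).ge hx

theorem exists_good_nhd (z : PrinPart.nbhd f n) {U : X.Opens} (hU : PrinPart.pr2 f n z ∈ U)
    {O : (PrinPart.nbhd f n).Opens} (hO : z ∈ O) :
    ∃ W : X.Opens, W ≤ U ∧ PrinPart.pr1 f n ⁻¹ᵁ W ≤ O ∧ PrinPart.pr2 f n z ∈ W ∧ Good f W := by
  obtain ⟨W, hxW, hWU, hW⟩ := exists_good_le f (U ⊓ PrinPart.toNbhd f n ⁻¹ᵁ O) (PrinPart.pr2 f n z)
    ⟨hU, by
      change PrinPart.toNbhd f n (PrinPart.pr2 f n z) ∈ O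
      rw [← PrinPart.pr1_apply, toNbhd_pr1_apply]
      exact hO⟩
  exact ⟨W, hWU.trans inf_le_left, fun w hw => (exists_opens_eq f n O).le (hWU hw).2, hxW, hW⟩

variable {ψ : ∀ W, Good f W → (Γ(PrinPart.nbhd f n, PrinPart.pr1 f n ⁻¹ᵁ W) →+ (Γ(F, W) →+ Γ(G, W)))}

theorem psiRel_res (hψ : ∀ W hW, IsPsi f n D W (ψ W hW)) {z : PrinPart.nbhd f n} {W W' : X.Opens}
    (hW : Good f W) (hW' : Good f W') (h : W' ≤ W) (hx : PrinPart.pr2 f n z ∈ W') (c t) :
    germM G W' _ hx (ψ W' hW' (resO (PrinPart.nbhd f n) ((PrinPart.pr1 f n).preimage_mono h) c) (res F h t)) =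
      germM G W _ (h hx) (ψ W hW c t) := by
  rw [← isPsi_res hW h (hψ W hW) (hψ W' hW'), germM_res]

theorem psiRel_unique (hψ : ∀ W hW, IsPsi f n D W (ψ W hW)) {z : PrinPart.nbhd f n} {c m g g'}
    (h : PsiRel ψ z c m g) (h' : PsiRel ψ z c m g') : g = g' := by
  obtain ⟨W, hW, hz, hx, c₀, t₀, hc, hm, rfl⟩ := h
  obtain ⟨W', hW', hz', hx', c₀', t₀', hc', hm', rfl⟩ := h'
  obtain ⟨O, hzO, i₁, i₂, ec⟩ := TopCat.Presheaf.germ_eq _ z hz hz' c₀ c₀' (hc.trans hc'.symm)
  obtain ⟨O', hxO', j₁, j₂, em⟩ := TopCat.Presheaf.germ_eq _ (PrinPart.pr2 f n z) hx hx' t₀ t₀' (hm.trans hm'.symm)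
  obtain ⟨W'', hWU, hWO, hxW'', hW''⟩ := exists_good_nhd z hxO' hzO
  have h₁ : W'' ≤ W := hWU.trans j₁.le
  have h₂ : W'' ≤ W' := hWU.trans j₂.le
  rw [← psiRel_res hψ hW hW'' h₁ hxW'', ← psiRel_res hψ hW' hW'' h₂ hxW'']
  congr 2
  · have := congrArg (resO (PrinPart.nbhd f n) hWO) ec
    change resO _ hWO (resO _ i₁.le c₀) = resO _ hWO (resO _ i₂.le c₀') at this
    rw [resO_resO, resO_resO] at this
    rw [this]
  · have := congrArg (res F hWU) em
    change res F hWU (res F j₁.le t₀) = res F hWU (res F j₂.le t₀') at this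
    rwa [res_res, res_res] at this

theorem psiRel_exists (z : PrinPart.nbhd f n) (c) (m) : ∃ g, PsiRel ψ z c m g := by
  obtain ⟨O, hzO, c, rfl⟩ := TopCat.Presheaf.exists_germ_eq (PrinPart.nbhd f n).presheaf c
  obtain ⟨U, hxU, t, rfl⟩ := germM_exist m
  obtain ⟨W, hWU, hWO, hxW, hW⟩ := exists_good_nhd z hxU hzO
  exact ⟨_, W, hW, mem_pr1 hxW, hxW, resO (PrinPart.nbhd f n) hWO c, res F hWU t,
    germ_resO hWO (mem_pr1 hxW) c, germM_res hWU hxW t, rfl⟩

theorem exists_germ_map (hψ : ∀ W hW, IsPsi f n D W (ψ W hW)) (z : PrinPart.nbhd f n) :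
    letI := ((PrinPart.pr2 f n).stalkMap z).hom.toAlgebra
    ∃ L : ((PrinPart.nbhd f n).presheaf.stalk z) ⊗[X.presheaf.stalk (PrinPart.pr2 f n z)]
        F.presheaf.stalk (PrinPart.pr2 f n z) →+ G.presheaf.stalk (PrinPart.pr2 f n z),
      ∀ (W : X.Opens) (hW : Good f W) (hx : PrinPart.pr2 f n z ∈ W) (c) (t : Γ(F, W)),
        L ((PrinPart.nbhd f n).presheaf.germ _ z (mem_pr1 hx) c ⊗ₜ germM F W _ hx t) =
          germM G W _ hx (ψ W hW c t) := by
  letI := ((PrinPart.pr2 f n).stalkMap z).hom.toAlgebra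
  let val := fun c m => Classical.choose (psiRel_exists (ψ := ψ) z c m)
  have hval : ∀ c m g, PsiRel ψ z c m g → val c m = g := fun c m g h =>
    psiRel_unique hψ (Classical.choose_spec (psiRel_exists (ψ := ψ) z c m)) h
  have hmk : ∀ (W : X.Opens) (hW : Good f W) (hx : PrinPart.pr2 f n z ∈ W) c (t : Γ(F, W)),
      val ((PrinPart.nbhd f n).presheaf.germ _ z (mem_pr1 hx) c) (germM F W _ hx t) =
        germM G W _ hx (ψ W hW c t) := fun W hW hx c t =>
    hval _ _ _ ⟨W, hW, mem_pr1 hx, hx, c, t, rfl, rfl, rfl⟩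
  have haddl : ∀ c c' m, val (c + c') m = val c m + val c' m := by
    intro c c' m
    obtain ⟨O, hzO, c, rfl⟩ := TopCat.Presheaf.exists_germ_eq (PrinPart.nbhd f n).presheaf c
    obtain ⟨O', hzO', c', rfl⟩ := TopCat.Presheaf.exists_germ_eq (PrinPart.nbhd f n).presheaf c'
    obtain ⟨U, hxU, t, rfl⟩ := germM_exist m
    obtain ⟨W, hWU, hWO, hxW, hW⟩ := exists_good_nhd z hxU (show z ∈ O ⊓ O' from ⟨hzO, hzO'⟩)
    rw [← germ_resO (hWO.trans inf_le_left) (mem_pr1 hxW) c, ← germ_resO (hWO.trans inf_le_right) (mem_pr1 hxW) c',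
      ← map_add, ← germM_res hWU hxW t, hmk W hW, hmk W hW, hmk W hW, map_add, AddMonoidHom.add_apply, germM_add]
  have haddr : ∀ c m m', val c (m + m') = val c m + val c m' := by
    intro c m m'
    obtain ⟨O, hzO, c, rfl⟩ := TopCat.Presheaf.exists_germ_eq (PrinPart.nbhd f n).presheaf c
    obtain ⟨U, hxU, t, rfl⟩ := germM_exist m
    obtain ⟨U', hxU', t', rfl⟩ := germM_exist m'
    obtain ⟨W, hWU, hWO, hxW, hW⟩ := exists_good_nhd z (show PrinPart.pr2 f n z ∈ U ⊓ U' from ⟨hxU, hxU'⟩) hzO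
    rw [← germM_res (hWU.trans inf_le_left) hxW t, ← germM_res (hWU.trans inf_le_right) hxW t',
      ← germM_add, ← germ_resO hWO (mem_pr1 hxW) c, hmk W hW, hmk W hW, hmk W hW, map_add, germM_add]
  let B : (PrinPart.nbhd f n).presheaf.stalk z →+
      (F.presheaf.stalk (PrinPart.pr2 f n z) →+ G.presheaf.stalk (PrinPart.pr2 f n z)) :=
    AddMonoidHom.mk' (fun c => AddMonoidHom.mk' (val c) (haddr c)) (fun c c' => AddMonoidHom.ext (haddl c c'))
  refine ⟨TensorProduct.liftAddHom B (fun r c m => ?_), fun W hW hx c t => hmk W hW hx c t⟩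
  change val (((PrinPart.pr2 f n).stalkMap z).hom r * c) m = val c (r • m)
  obtain ⟨O, hzO, c, rfl⟩ := TopCat.Presheaf.exists_germ_eq (PrinPart.nbhd f n).presheaf c
  obtain ⟨U, hxU, t, rfl⟩ := germM_exist m
  obtain ⟨U', hxU', r, rfl⟩ := TopCat.Presheaf.exists_germ_eq X.presheaf r
  obtain ⟨W, hWU, hWO, hxW, hW⟩ := exists_good_nhd z (show PrinPart.pr2 f n z ∈ U ⊓ U' from ⟨hxU, hxU'⟩) hzO
  rw [← germ_resO (hWU.trans inf_le_right) hxW r, ← germM_res (hWU.trans inf_le_left) hxW t,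
    ← germM_smul, ← germ_resO hWO (mem_pr1 hxW) c]
  rw [show (ConcreteCategory.hom ((PrinPart.pr2 f n).stalkMap z))
      (X.presheaf.germ W _ hxW (resO X (hWU.trans inf_le_right) r)) =
      (PrinPart.nbhd f n).presheaf.germ _ z (mem_pr1 hxW) (d2 f n W (resO X (hWU.trans inf_le_right) r)) from by
    rw [Scheme.Hom.germ_stalkMap_apply]
    exact (germ_resO (PrinPart.preimage_pr1 f n W).le (mem_pr1 hxW) _).symm]
  rw [← map_mul, hmk W hW, hmk W hW, mul_comm, isPsi_mul_d2 hW (hψ W hW)]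

theorem exists_hom_of_psi (hψ : ∀ W hW, IsPsi f n D W (ψ W hW)) : PrinPart.IsDiffOpLE f F G n D := by
  let p1 := PrinPart.pr1 f n
  let M := M₂ f n F
  have hL : ∀ z : PrinPart.nbhd f n, ∃ L : M.presheaf.stalk z →+ G.presheaf.stalk (PrinPart.pr2 f n z),
      ∀ (W : X.Opens) (hW : Good f W) (hx : PrinPart.pr2 f n z ∈ W) (c) (t : Γ(F, W)),
        L (germM M (p1 ⁻¹ᵁ W) z (mem_pr1 hx) (c • dM f n W t)) = germM G W _ hx (ψ W hW c t) := by
    intro z
    letI := ((PrinPart.pr2 f n).stalkMap z).hom.toAlgebra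
    letI := Module.compHom (M.presheaf.stalk z) ((PrinPart.pr2 f n).stalkMap z).hom
    haveI : IsScalarTower (X.presheaf.stalk (PrinPart.pr2 f n z)) ((PrinPart.nbhd f n).presheaf.stalk z)
        (M.presheaf.stalk z) := IsScalarTower.of_algebraMap_smul fun r e => rfl
    obtain ⟨L, hL⟩ := exists_germ_map hψ z
    let e := (DCK91.isBaseChange_pullη (PrinPart.pr2 f n) F z).equiv
    refine ⟨L.comp e.symm.toLinearMap.toAddMonoidHom, fun W hW hx c t => ?_⟩
    refine Eq.trans (congrArg L ?_) (hL W hW hx c t)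
    apply e.injective
    refine (e.apply_symm_apply _).trans ?_
    rw [IsBaseChange.equiv_tmul, DCK91.pullη_germ, germM_smul]
    exact congrArg _ (germM_res (M := M) (PrinPart.preimage_pr1 f n W).le (mem_pr1 hx) _)
  choose L hL using hL
  let Ok : ∀ (U : X.Opens), Γ(M, p1 ⁻¹ᵁ U) → Γ(G, U) → Prop := fun U s v =>
    ∀ (z : PrinPart.nbhd f n) (hx : PrinPart.pr2 f n z ∈ U),
      germM G U _ hx v = L z (germM M (p1 ⁻¹ᵁ U) z (mem_pr1 hx) s)
  have ok_res : ∀ (U V : X.Opens) (h : V ≤ U) s v, Ok U s v →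
      Ok V (res M (p1.preimage_mono h) s) (res G h v) := fun U V h s v hsv z hx => by
    rw [germM_res, germM_res]; exact hsv z (h hx)
  have key : ∀ (z : PrinPart.nbhd f n) (e : M.presheaf.stalk z) (c : (PrinPart.nbhd f n).presheaf.stalk z),
      ∃ (W : X.Opens) (hx : PrinPart.pr2 f n z ∈ W) (s : Γ(M, p1 ⁻¹ᵁ W)) (v : Γ(G, W)),
        germM M (p1 ⁻¹ᵁ W) z (mem_pr1 hx) s = c • e ∧ Ok W s v := by
    intro z e
    letI := ((PrinPart.pr2 f n).stalkMap z).hom.toAlgebra
    letI := Module.compHom (M.presheaf.stalk z) ((PrinPart.pr2 f n).stalkMap z).hom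
    haveI : IsScalarTower (X.presheaf.stalk (PrinPart.pr2 f n z)) ((PrinPart.nbhd f n).presheaf.stalk z)
        (M.presheaf.stalk z) := IsScalarTower.of_algebraMap_smul fun r e => rfl
    refine (DCK91.isBaseChange_pullη (PrinPart.pr2 f n) F z).inductionOn e
      (fun e => ∀ c : (PrinPart.nbhd f n).presheaf.stalk z,
        ∃ (W : X.Opens) (hx : PrinPart.pr2 f n z ∈ W) (s : Γ(M, p1 ⁻¹ᵁ W)) (v : Γ(G, W)),
          germM M (p1 ⁻¹ᵁ W) z (mem_pr1 hx) s = c • e ∧ Ok W s v) ?_ (fun m => ?_) (fun c' e' he => ?_)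
      (fun e₁ e₂ he₁ he₂ => ?_)
    · intro c
      refine ⟨⊤, trivial, 0, 0, by rw [smul_zero]; exact germM_zero _, fun z' hx' => ?_⟩
      rw [germM_zero, germM_zero, map_zero]
    · intro c
      obtain ⟨O, hzO, c, rfl⟩ := TopCat.Presheaf.exists_germ_eq (PrinPart.nbhd f n).presheaf c
      obtain ⟨U, hxU, t, rfl⟩ := germM_exist m
      obtain ⟨W, hWU, hWO, hxW, hW⟩ := exists_good_nhd z hxU hzO
      refine ⟨W, hxW, resO (PrinPart.nbhd f n) hWO c • dM f n W (res F hWU t),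
        ψ W hW (resO (PrinPart.nbhd f n) hWO c) (res F hWU t), ?_, fun z' hx' => (hL z' W hW hx' _ _).symm⟩
      rw [germM_smul, germ_resO, ← germM_res hWU hxW t, DCK91.pullη_germ]
      exact congrArg _ (germM_res (M := M) (PrinPart.preimage_pr1 f n W).le (mem_pr1 hxW) _)
    · intro c
      rw [smul_smul]
      exact he (c * c')
    · intro c
      obtain ⟨W₁, hx₁, s₁, v₁, h₁, ok₁⟩ := he₁ c
      obtain ⟨W₂, hx₂, s₂, v₂, h₂, ok₂⟩ := he₂ c
      refine ⟨W₁ ⊓ W₂, ⟨hx₁, hx₂⟩, res M (p1.preimage_mono inf_le_left) s₁ + res M (p1.preimage_mono inf_le_right) s₂,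
        res G inf_le_left v₁ + res G inf_le_right v₂, ?_, fun z' hx' => ?_⟩
      · rw [germM_add, germM_res, germM_res, h₁, h₂, smul_add]
      · rw [germM_add, germM_add, map_add, ok_res _ _ inf_le_left _ _ ok₁ z' hx', ok_res _ _ inf_le_right _ _ ok₂ z' hx']
  have huniq : ∀ U s v v', Ok U s v → Ok U s v' → v = v' := fun U s v v' h h' => by
    refine TopCat.Presheaf.section_ext ⟨G.presheaf, G.isSheaf⟩ U v v' fun x hx => ?_
    obtain ⟨z, rfl⟩ : ∃ z, PrinPart.pr2 f n z = x :=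
      ⟨PrinPart.toNbhd f n x, by rw [← Scheme.Hom.comp_apply, PrinPart.toNbhd_pr2]; rfl⟩
    exact (h z hx).trans (h' z hx).symm
  have hex : ∀ U (s : Γ(M, p1 ⁻¹ᵁ U)), ∃ v, Ok U s v := by
    intro U s
    have hloc : ∀ x : U, ∃ (W : X.Opens) (hW : W ≤ U) (v : Γ(G, W)), x.1 ∈ W ∧
        Ok W (res M (p1.preimage_mono hW) s) v := by
      intro x
      let z := PrinPart.toNbhd f n x.1
      have hx' : PrinPart.pr2 f n z = x.1 := by
        rw [← Scheme.Hom.comp_apply, PrinPart.toNbhd_pr2]; rfl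
      have hxU : PrinPart.pr2 f n z ∈ U := hx' ▸ x.2
      obtain ⟨W, hxW, s', v, hs', hok⟩ := key z (germM M (p1 ⁻¹ᵁ U) z (mem_pr1 hxU) s) 1
      rw [one_smul] at hs'
      obtain ⟨O, hzO, i₁, i₂, e⟩ := TopCat.Presheaf.germ_eq M.presheaf z (mem_pr1 hxW) (mem_pr1 hxU) s' s hs'
      obtain ⟨W', hW'U, hW'O, hxW', -⟩ := exists_good_nhd z (show PrinPart.pr2 f n z ∈ W ⊓ U from ⟨hxW, hxU⟩) hzO
      refine ⟨W', hW'U.trans inf_le_right, res G (hW'U.trans inf_le_left) v, hx' ▸ hxW', ?_⟩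
      have := ok_res W W' (hW'U.trans inf_le_left) s' v hok
      have e' := congrArg (res M hW'O) e
      change res M hW'O (res M i₁.le s') = res M hW'O (res M i₂.le s) at e'
      rw [res_res, res_res] at e'
      rwa [e'] at this
    choose W hW v hxW hok using hloc
    obtain ⟨w, hw⟩ := exists_glue G W hW (fun y hy => Opens.mem_iSup.2 ⟨⟨y, hy⟩, hxW ⟨y, hy⟩⟩) v
      (fun i j => huniq _ (res M (p1.preimage_mono (inf_le_left.trans (hW i))) s) _ _
        (by simpa only [res_res] using ok_res _ (W i ⊓ W j) inf_le_left _ _ (hok i))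
        (by simpa only [res_res] using ok_res _ (W i ⊓ W j) inf_le_right _ _ (hok j)))
    refine ⟨w, fun z hx => ?_⟩
    have hxi : PrinPart.pr2 f n z ∈ W ⟨_, hx⟩ := hxW ⟨_, hx⟩
    rw [← germM_res (hW ⟨_, hx⟩) hxi w, hw, ← germM_res (p1.preimage_mono (hW ⟨_, hx⟩)) (mem_pr1 hxi) s]
    exact hok _ z hxi
  choose uf huf using hex
  have huadd : ∀ U (s s' : Γ(M, p1 ⁻¹ᵁ U)), uf U (s + s') = uf U s + uf U s' := fun U s s' =>
    huniq U _ _ _ (huf U _) fun z hx => by rw [germM_add, germM_add, map_add, huf U s z hx, huf U s' z hx]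
  have hsmul : ∀ U (a : Γ(X, U)) (s : Γ(M, p1 ⁻¹ᵁ U)), uf U (p1.app U a • s) = a • uf U s := by
    intro U a s
    refine huniq U _ _ _ (huf U _) fun z hx => ?_
    rw [germM_smul, huf U s z hx, germM_smul]
    generalize germM M (p1 ⁻¹ᵁ U) z (mem_pr1 hx) s = e
    letI := ((PrinPart.pr2 f n).stalkMap z).hom.toAlgebra
    letI := Module.compHom (M.presheaf.stalk z) ((PrinPart.pr2 f n).stalkMap z).hom
    haveI : IsScalarTower (X.presheaf.stalk (PrinPart.pr2 f n z)) ((PrinPart.nbhd f n).presheaf.stalk z)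
        (M.presheaf.stalk z) := IsScalarTower.of_algebraMap_smul fun r e => rfl
    suffices ∀ c : (PrinPart.nbhd f n).presheaf.stalk z,
        X.presheaf.germ U _ hx a • L z (c • e) =
          L z ((PrinPart.nbhd f n).presheaf.germ _ z (mem_pr1 hx) (p1.app U a) • c • e) by
      simpa using this 1
    refine (DCK91.isBaseChange_pullη (PrinPart.pr2 f n) F z).inductionOn e
      (fun e => ∀ c : (PrinPart.nbhd f n).presheaf.stalk z, X.presheaf.germ U _ hx a • L z (c • e) =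
        L z ((PrinPart.nbhd f n).presheaf.germ _ z (mem_pr1 hx) (p1.app U a) • c • e))
      (fun c => by simp only [smul_zero, map_zero]) (fun m => ?_) (fun c' e' he c => ?_)
      (fun e₁ e₂ he₁ he₂ c => by simp only [smul_add, map_add, he₁ c, he₂ c])
    · intro c
      obtain ⟨O, hzO, c, rfl⟩ := TopCat.Presheaf.exists_germ_eq (PrinPart.nbhd f n).presheaf c
      obtain ⟨U₁, hxU₁, t, rfl⟩ := germM_exist m
      obtain ⟨W, hWU, hWO, hxW, hW⟩ := exists_good_nhd z (show PrinPart.pr2 f n z ∈ U₁ ⊓ U from ⟨hxU₁, hx⟩) hzO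
      have ht : DCK91.pullη (PrinPart.pr2 f n) F z (germM F U₁ _ hxU₁ t) =
          germM M (p1 ⁻¹ᵁ W) z (mem_pr1 hxW) (dM f n W (res F (hWU.trans inf_le_left) t)) := by
        rw [← germM_res (hWU.trans inf_le_left) hxW t, DCK91.pullη_germ]
        exact (germM_res (M := M) (PrinPart.preimage_pr1 f n W).le (mem_pr1 hxW) _).symm
      rw [ht, ← germ_resO hWO (mem_pr1 hxW) c, ← germM_smul,
        ← germ_resO (p1.preimage_mono (hWU.trans inf_le_right)) (mem_pr1 hxW) (p1.app U a), pr1_res,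
        ← germM_smul, smul_smul, hL z W hW hxW, hL z W hW hxW, isPsi_pr1_mul hW (hψ W hW),
        ← germ_resO (hWU.trans inf_le_right) hxW a, ← germM_smul]
    · rw [smul_smul c c' e']
      exact he (c * c')
  have hres : ∀ (U V : X.Opens) (h : V ≤ U) (s : Γ(M, p1 ⁻¹ᵁ U)),
      uf V (res M (p1.preimage_mono h) s) = res G h (uf U s) :=
    fun U V h s => huniq V _ _ _ (huf V _) (ok_res U V h s _ (huf U s))
  let uNat : (PrinPart.PMod f n F).presheaf ⟶ G.presheaf :=
    { app := fun U => AddCommGrpCat.ofHom (AddMonoidHom.mk' (uf U.unop) (huadd U.unop))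
      naturality := fun U V i => by
        ext s
        exact hres U.unop V.unop i.unop.le s }
  refine ⟨⟨PresheafOfModules.homMk uNat fun U a s => hsmul U.unop a s⟩, fun U t => ?_⟩
  change opApp D U t = uf U (dM f n U t)
  refine TopCat.Presheaf.section_ext ⟨G.presheaf, G.isSheaf⟩ U _ _ fun x hx => ?_
  obtain ⟨W, hxW, hWU, hW⟩ := exists_good_le f U x hx
  have e : opApp D W (res F hWU t) = uf W (dM f n W (res F hWU t)) := by
    refine huniq W (dM f n W (res F hWU t)) _ _ (fun z hz => ?_) (huf W _)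
    have h1 := hL z W hW hz 1 (res F hWU t)
    rw [one_smul] at h1
    rw [h1]
    have h2 := hψ W hW 1 1 (res F hWU t)
    rw [map_one, map_one, one_mul, one_smul, one_smul] at h2
    rw [h2]
  have e2 : dM f n W (res F hWU t) = res M (p1.preimage_mono hWU) (dM f n U t) := PrinPart.dP_map f n F hWU t
  rw [e2, hres U W hWU, opApp_res] at e
  exact (germM_res hWU hxW _).symm.trans ((congrArg (germM G W x hxW) e).trans (germM_res hWU hxW _))

end Converse

/-- Differential operators of order at most `n` are those linear over the base with vanishing alternating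
sums. -/
theorem isDiffOpLE_iff {n : ℕ} {D : F.presheaf ⟶ G.presheaf} (hlin : IsLinearOverBase f D) :
    PrinPart.IsDiffOpLE f F G n D ↔
      ∀ (U : X.Opens) (a : Fin (n + 1) → Γ(X, U)) (t : Γ(F, U)), altSum (opApp D U) a t = 0 := by
  refine ⟨fun hD => altSum_eq_zero f fun W hW a t => altSum_eq_zero_of_good f hD hW a t, fun h => ?_⟩
  exact exists_hom_of_psi (ψ := fun W hW => Classical.choose (exists_isPsi hlin h hW))
    fun W hW => Classical.choose_spec (exists_isPsi hlin h hW)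

/-- Composites add orders. -/
theorem isDiffOpLE_comp {H : X.Modules} {n n' : ℕ} (D : F.presheaf ⟶ G.presheaf) (D' : G.presheaf ⟶ H.presheaf)
    (hD : PrinPart.IsDiffOpLE f F G n D) (hD' : PrinPart.IsDiffOpLE f G H n' D') :
    PrinPart.IsDiffOpLE f F H (n + n') (D ≫ D') := by
  have l1 := isLinearOverBase_of_isDiffOpLE f hD
  have l2 := isLinearOverBase_of_isDiffOpLE f hD'
  have l : IsLinearOverBase f (D ≫ D') := fun V s U hU t =>
    (congrArg (D'.app (op U)) (l1 V s U hU t)).trans (l2 V s U hU _)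
  rw [isDiffOpLE_iff f l]
  refine altSum_eq_zero f fun W hW a t => ?_
  obtain ⟨hWa, V, hV, hWV⟩ := hW
  letI := (f.appLE V W hWV).hom.toAlgebra
  have b1 := isBaseLinear_opApp f l1 hWV
  have b2 := isBaseLinear_opApp f l2 hWV
  have k1 : Kills (opApp D W) b1 n := (kills_iff _ b1 n).2 fun a t => (isDiffOpLE_iff f l1).1 hD W a t
  have k2 : Kills (opApp D' W) b2 n' := (kills_iff _ b2 n').2 fun a t => (isDiffOpLE_iff f l2).1 hD' W a t
  exact (kills_iff _ (isBaseLinear_comp _ _ b1 b2) _).1 (kills_comp _ _ b1 b2 k1 k2) a t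

end Groth.Agent.PP93
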