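import Groth.Agent.PP93.OrdOne
import Groth.Agent.Var76.OmegaUniv

/-!
The comultiplication of principal parts, and the splitting of the first order principal parts.
-/

set_option autoImplicit false
set_option backward.isDefEq.respectTransparency false

noncomputable section

universe u

open CategoryTheory Limits AlgebraicGeometry TopologicalSpace Opposite
open Groth.Agent.QC70

namespace Groth.Agent.PP93

variable {X S : Scheme.{u}} (f : X ⟶ S)

theorem isDiffOpLE_dPHom (n : ℕ) (F : X.Modules) :
    PrinPart.IsDiffOpLE f F (PrinPart.PMod f n F) n (PrinPart.dPHom f n F) :=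
  ⟨𝟙 _, fun _ _ => rfl⟩

theorem existsUnique_delta (n n' : ℕ) :
    ∃! δ : PrinPart.P f (n + n') ⟶ PrinPart.PMod f n' (PrinPart.P f n),
      ∀ (U : X.Opens) (t : Γ(X, U)),
        δ.app U (PrinPart.dn f (n + n') U t) = PrinPart.dP f n' (PrinPart.P f n) U (PrinPart.dn f n U t) := by
  obtain ⟨u, hu⟩ := isDiffOpLE_comp f _ _ (isDiffOpLE_dPHom f n (Coh.structureModule X))
    (isDiffOpLE_dPHom f n' (PrinPart.P f n))
  refine ⟨u, fun U t => (hu U (OmegaSh.strSect X U t)).symm, fun δ hδ => ?_⟩
  refine hom_ext_of_dP f _ _ _ δ u fun U t => ?_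
  obtain ⟨t, rfl⟩ : ∃ t', OmegaSh.strSect X U t' = t := ⟨OmegaSh.fnSect X U t, rfl⟩
  exact (hδ U t).trans (hu U (OmegaSh.strSect X U t))

theorem isIso_desc_one [QuasiSeparated f]
    (e : Coh.structureModule X ⟶ PrinPart.P f 1)
    (he : ∀ (U : X.Opens) (s : Γ(X, U)), e.app U (OmegaSh.strSect X U s) = s • PrinPart.dn f 1 U 1)
    (ι : Omega.sheaf f ⟶ PrinPart.P f 1)
    (hι : ∀ (U : X.Opens) (s : Γ(X, U)),
      ι.app U ((OmegaSh.dOmega f).app U s) = PrinPart.dn f 1 U s - s • PrinPart.dn f 1 U 1) :
    IsIso (coprod.desc e ι) := by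
  let C := Coh.structureModule X ⨿ Omega.sheaf f
  let i₁ : Coh.structureModule X ⟶ C := coprod.inl
  let i₂ : Omega.sheaf f ⟶ C := coprod.inr
  let d := OmegaSh.dOmega f
  let D : (Coh.structureModule X).presheaf ⟶ C.presheaf :=
    { app := fun U => AddCommGrpCat.ofHom ((i₁.app U.unop).hom +
        (i₂.app U.unop).hom.comp ((d.app U.unop).comp (OmegaSh.fnSect X U.unop)))
      naturality := fun U V j => by
        ext a
        change i₁.app V.unop (res (Coh.structureModule X) j.unop.le a) +
            i₂.app V.unop (d.app V.unop (OmegaSh.fnSect X V.unop (res (Coh.structureModule X) j.unop.le a))) =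
          res C j.unop.le (i₁.app U.unop a + i₂.app U.unop (d.app U.unop (OmegaSh.fnSect X U.unop a)))
        rw [res_add (M := C), ← app_res i₁, ← app_res i₂]
        congr 2
        exact d.d_map j (OmegaSh.fnSect X U.unop a) }
  have hD : ∀ (U : X.Opens) (a : Γ(X, U)),
      D.app (op U) (OmegaSh.strSect X U a) = i₁.app U (OmegaSh.strSect X U a) + i₂.app U (d.app U a) :=
    fun U a => rfl
  have hsm : ∀ (U : X.Opens) (r : Γ(X, U)) (t : Γ(X, U)),
      r • OmegaSh.strSect X U t = OmegaSh.strSect X U (r * t) := fun U r t => (OmegaSh.strSect_mul U r t).symm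
  have hlin : IsLinearOverBase f D := by
    intro V s U hU t
    obtain ⟨t, rfl⟩ : ∃ t', OmegaSh.strSect X U t' = t := ⟨OmegaSh.fnSect X U t, rfl⟩
    let r := X.presheaf.map (homOfLE hU).op (f.app V s)
    have h0 : d.app U r = 0 := by
      refine (d.d_map (homOfLE hU).op (f.app V s)).trans ?_
      exact (congrArg _ (d.d_app s)).trans (map_zero _)
    change D.app (op U) (r • OmegaSh.strSect X U t) = r • D.app (op U) (OmegaSh.strSect X U t)
    rw [hsm, hD, hD, ← hsm, Scheme.Modules.Hom.app_smul,
      show d.app U (r * t) = r • d.app U t + t • d.app U r from d.d_mul r t, h0, smul_zero, add_zero,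
      Scheme.Modules.Hom.app_smul, smul_add]
  have hord : PrinPart.IsDiffOpLE f (Coh.structureModule X) C 1 D := by
    rw [isDiffOpLE_iff f hlin]
    intro U a t
    obtain ⟨t, rfl⟩ : ∃ t', OmegaSh.strSect X U t' = t := ⟨OmegaSh.fnSect X U t, rfl⟩
    have hu : (Finset.univ : Finset (Finset (Fin 2))) = {∅, {0}, {1}, {0, 1}} := by decide
    have e0 : (∅ : Finset (Fin 2))ᶜ = {0, 1} := by decide
    have e1 : ({0} : Finset (Fin 2))ᶜ = {1} := by decide
    have e2 : ({1} : Finset (Fin 2))ᶜ = {0} := by decide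
    have e3 : ({0, 1} : Finset (Fin 2))ᶜ = ∅ := by decide
    rw [altSum, hu, Finset.sum_insert (by decide), Finset.sum_insert (by decide),
      Finset.sum_insert (by decide), Finset.sum_singleton, e0, e1, e2, e3]
    simp only [Finset.prod_empty, Finset.prod_singleton, Finset.prod_pair (show (0 : Fin 2) ≠ 1 by decide),
      Finset.card_empty, Finset.card_singleton, Finset.card_pair (show (0 : Fin 2) ≠ 1 by decide),
      one_smul, pow_zero, pow_one, hsm, opApp]
    have h2 : ((-1 : ℤ) ^ 2) = 1 := by norm_num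
    erw [hD U, hD U, hD U, hD U]
    simp only [h2, one_smul, neg_smul]
    simp only [← hsm, Scheme.Modules.Hom.app_smul, smul_add, smul_smul]
    rw [show d.app U (a 0 * a 1 * t) = (a 0 * a 1) • d.app U t + t • d.app U (a 0 * a 1) from d.d_mul _ _,
      show d.app U (a 0 * a 1) = a 0 • d.app U (a 1) + a 1 • d.app U (a 0) from d.d_mul _ _,
      show d.app U (a 1 * t) = a 1 • d.app U t + t • d.app U (a 1) from d.d_mul _ _,
      show d.app U (a 0 * t) = a 0 • d.app U t + t • d.app U (a 0) from d.d_mul _ _]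
    simp only [map_add, Scheme.Modules.Hom.app_smul, smul_add, smul_smul]
    rw [mul_comm t (a 0), mul_comm t (a 1), mul_comm (a 1) (a 0)]
    simp only [mul_one, one_mul]
    abel
  obtain ⟨v, hv⟩ := hord
  have hvn : ∀ (U : X.Opens) (a : Γ(X, U)), v.app U (PrinPart.dn f 1 U a) =
      i₁.app U (OmegaSh.strSect X U a) + i₂.app U (d.app U a) := fun U a => (hv U _).symm.trans (hD U a)
  refine ⟨v, ?_, ?_⟩
  · have h1 : e ≫ v = i₁ := by
      refine Scheme.Modules.hom_ext _ _ fun U => ?_
      ext s
      obtain ⟨s, rfl⟩ : ∃ s', OmegaSh.strSect X U s' = s := ⟨OmegaSh.fnSect X U s, rfl⟩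
      change v.app U (e.app U (OmegaSh.strSect X U s)) = i₁.app U _
      rw [he, Scheme.Modules.Hom.app_smul, hvn, show d.app U 1 = 0 from d.d_one (op U), map_zero, add_zero,
        ← Scheme.Modules.Hom.app_smul, hsm, mul_one]
    have h2 : ι ≫ v = i₂ := by
      refine (Var76.OmegaUniv.isUniversal f C (d.postcomp i₂.val)).unique ?_ rfl
      refine PresheafOfModules.Derivation.ext ?_
      funext U
      refine AddMonoidHom.ext fun (s : Γ(X, U.unop)) => ?_
      change v.app U.unop (ι.app U.unop (d.app U.unop s)) = i₂.app U.unop (d.app U.unop s)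
      rw [hι, map_sub, Scheme.Modules.Hom.app_smul, hvn, hvn, show d.app U.unop 1 = 0 from d.d_one U, map_zero,
        add_zero, ← Scheme.Modules.Hom.app_smul, hsm, mul_one]
      abel
    apply coprod.hom_ext
    · rw [coprod.inl_desc_assoc, h1, Category.comp_id]
    · rw [coprod.inr_desc_assoc, h2, Category.comp_id]
  · refine hom_ext_of_dP f _ _ _ _ _ fun U t => ?_
    obtain ⟨s, rfl⟩ : ∃ s', OmegaSh.strSect X U s' = t := ⟨OmegaSh.fnSect X U t, rfl⟩
    change (coprod.desc e ι).app U (v.app U (PrinPart.dn f 1 U s)) = PrinPart.dn f 1 U s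
    rw [hvn, map_add,
      show (coprod.desc e ι).app U (i₁.app U (OmegaSh.strSect X U s)) = e.app U (OmegaSh.strSect X U s) from
        congr(Scheme.Modules.Hom.app $(coprod.inl_desc e ι) U (OmegaSh.strSect X U s)),
      show (coprod.desc e ι).app U (i₂.app U (d.app U s)) = ι.app U (d.app U s) from
        congr(Scheme.Modules.Hom.app $(coprod.inr_desc e ι) U (d.app U s)), he, hι]
    abel

end Groth.Agent.PP93
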