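import Groth.Agent.Var76.OmegaUniv
import Groth.Agent.Omega57.Sect
import Groth.Agent.Omega57.Pull
import Groth.Agent.QC70.Ideal

/-!
Derivations into a tilde on an affine scheme are derivations of rings.
-/

set_option autoImplicit false
set_option backward.isDefEq.respectTransparency false
set_option linter.style.haveILetI false

noncomputable section

universe u

open CategoryTheory Limits AlgebraicGeometry TopologicalSpace Opposite
open Groth.Agent.QC70

namespace Groth.Agent.PP93

variable {A B : Type u} [CommRing A] [CommRing B] [Algebra A B]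

local notation "SB" => Spec (CommRingCat.of B)

/-- The structure map. -/
abbrev strB : Spec (CommRingCat.of B) ⟶ Spec (CommRingCat.of A) :=
  Spec.map (CommRingCat.ofHom (algebraMap A B))

/-- Elements of the ring as global functions. -/
abbrev glob (b : B) : Γ(SB, ⊤) := (Scheme.ΓSpecIso (CommRingCat.of B)).inv b

theorem smul_top_def {R : CommRingCat.{u}} {N : (Spec R).Modules} (r : R) (x : Γ(N, (⊤ : (Spec R).Opens))) :
    r • x = (Scheme.ΓSpecIso R).inv r • x := by
  rw [Scheme.Modules.smul_Spec_def]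
  congr 1

theorem exists_hom_tilde {R : CommRingCat.{u}} (M : (Spec R).Modules) [M.IsQuasicoherent] (L : ModuleCat.{u} R)
    (g₀ : Γ(M, (⊤ : (Spec R).Opens)) →+ L)
    (hg₀ : ∀ (r : R) x, g₀ ((Scheme.ΓSpecIso R).inv r • x) = r • g₀ x) :
    ∃ α : M ⟶ tilde L, ∀ x, α.app ⊤ x = toTop L (g₀ x) := by
  haveI : IsIso M.fromTildeΓ := (isQuasicoherent_iff_isIso_fromTildeΓ M).mp inferInstance
  let g : Γ(M, (⊤ : (Spec R).Opens)) →ₗ[R] L :=
    { toFun := g₀
      map_add' := map_add g₀
      map_smul' := fun r x => by rw [RingHom.id_apply, smul_top_def]; exact hg₀ r x }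
  let π : ModuleCat.of R Γ(M, (⊤ : (Spec R).Opens)) ⟶ L := ModuleCat.ofHom g
  refine ⟨inv M.fromTildeΓ ≫ tilde.map π, fun x => ?_⟩
  let t := toTop (ModuleCat.of R Γ(M, (⊤ : (Spec R).Opens))) x
  have h1 : M.fromTildeΓ.app ⊤ t = x := by
    refine (congr($(Scheme.Modules.toOpen_fromTildeΓ_app M ⊤) x)).trans ?_
    exact congr($((modulesSpecToSheaf.obj M).1.map_id _) x)
  have h2 : (inv M.fromTildeΓ).app ⊤ x = t := by
    refine (congrArg _ h1.symm).trans ?_
    show (M.fromTildeΓ ≫ inv M.fromTildeΓ).app ⊤ t = _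
    rw [IsIso.hom_inv_id]
    rfl
  show (tilde.map π).app ⊤ ((inv M.fromTildeΓ).app ⊤ x) = _
  rw [h2]
  exact congr($(tilde.toOpen_map_app π ⊤) x)

variable (A B) in
theorem der_tilde (L : Type u) [AddCommGroup L] [Module B L] [Module A L] [IsScalarTower A B L] :
    (∀ D : OmegaSh.Der (strB (A := A) (B := B)) (tilde (ModuleCat.of (CommRingCat.of B) L)),
      ∃ δ : Derivation A B L, ∀ t : B, D.app ⊤ ((Scheme.ΓSpecIso (CommRingCat.of B)).inv t) =
        (tilde.isoTop (ModuleCat.of (CommRingCat.of B) L)).hom (δ t)) ∧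
    ∀ δ : Derivation A B L,
      ∃! D : OmegaSh.Der (strB (A := A) (B := B)) (tilde (ModuleCat.of (CommRingCat.of B) L)),
        ∀ t : B, D.app ⊤ ((Scheme.ΓSpecIso (CommRingCat.of B)).inv t) =
          (tilde.isoTop (ModuleCat.of (CommRingCat.of B) L)).hom (δ t) := by
  let f := strB (A := A) (B := B)
  let T := ModuleCat.of (CommRingCat.of B) L
  let e := (tilde.isoTop T).toLinearEquiv
  have hg : ∀ (a : A), glob (algebraMap A B a) = f.app ⊤ ((Scheme.ΓSpecIso (CommRingCat.of A)).inv a) := fun a =>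
    congr($(Scheme.ΓSpecIso_inv_naturality (CommRingCat.ofHom (algebraMap A B))) a)
  constructor
  · intro D
    let d₀ : B →+ L := e.symm.toLinearMap.toAddMonoidHom.comp
      ((D.app ⊤).comp (Scheme.ΓSpecIso (CommRingCat.of B)).inv.hom.toAddMonoidHom)
    have hd₀ : ∀ t, e (d₀ t) = D.app ⊤ (glob t) := fun t => e.apply_symm_apply _
    have hmul : ∀ a b : B, d₀ (a * b) = a • d₀ b + b • d₀ a := by
      intro a b
      apply e.injective
      rw [map_add, map_smul, map_smul, hd₀, hd₀, hd₀, show glob (a * b) = glob a * glob b from map_mul _ a b]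
      refine (D.d_mul (glob a) (glob b)).trans ?_
      exact congrArg₂ (· + ·) (smul_top_def (R := CommRingCat.of B) (N := tilde T) a (D.app ⊤ (glob b))).symm
        (smul_top_def (R := CommRingCat.of B) (N := tilde T) b (D.app ⊤ (glob a))).symm
    have halg : ∀ a : A, d₀ (algebraMap A B a) = 0 := by
      intro a
      apply e.injective
      rw [hd₀, hg, map_zero]
      exact D.d_app (X := op ⊤) _
    let δ : Derivation A B L := Derivation.mk'
      { toFun := d₀
        map_add' := map_add d₀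
        map_smul' := fun a b => by
          rw [RingHom.id_apply, Algebra.smul_def, hmul, halg, smul_zero, add_zero, algebraMap_smul] }
      hmul
    exact ⟨δ, fun t => (hd₀ t).symm⟩
  · intro δ
    haveI : (Omega.sheaf f).IsQuasicoherent := Omega57.isQuasicoherent_omega f
    have htop : IsAffineOpen (⊤ : (SB).Opens) := isAffineOpen_top _
    have hle : (⊤ : (SB).Opens) ≤ f ⁻¹ᵁ (⊤ : (Spec (CommRingCat.of A)).Opens) := le_top
    haveI := Omega57.isIso_toSect f htop (isAffineOpen_top (Spec (CommRingCat.of A))) hle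
    letI := (f.appLE ⊤ ⊤ hle).hom.toAlgebra
    let toS : Ω[Γ(SB, ⊤)⁄Γ(Spec (CommRingCat.of A), ⊤)] ≃+ Γ(Omega.sheaf f, (⊤ : (SB).Opens)) :=
      AddEquiv.ofBijective (OmAff.toSect f ⊤ ⊤ hle).hom.toAddMonoidHom
        (ConcreteCategory.bijective_of_isIso (OmAff.toSect f ⊤ ⊤ hle))
    have htoS : ∀ b, toS (KaehlerDifferential.D _ _ b) = OmegaSh.dSect f ⊤ b := fun b => OmAff.toSect_d f ⊤ ⊤ hle b
    have htoSsmul : ∀ (r : Γ(SB, ⊤)) w, toS (r • w) = r • toS w := fun r w =>
      map_smul (OmAff.toSect f ⊤ ⊤ hle).hom r w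
    let ev : Γ(SB, ⊤) →+* B := (Scheme.ΓSpecIso (CommRingCat.of B)).hom.hom
    letI : Module Γ(SB, ⊤) L := Module.compHom L ev
    letI : Module Γ(Spec (CommRingCat.of A), ⊤) L :=
      Module.compHom L (ev.comp (f.appLE ⊤ ⊤ hle).hom)
    haveI : IsScalarTower Γ(Spec (CommRingCat.of A), ⊤) Γ(SB, ⊤) L :=
      IsScalarTower.of_algebraMap_smul fun r x => rfl
    have hev : ∀ b, ev (glob b) = b := fun b =>
      congr($((Scheme.ΓSpecIso (CommRingCat.of B)).inv_hom_id) b)
    have hev' : ∀ r, glob (ev r) = r := fun r =>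
      congr($((Scheme.ΓSpecIso (CommRingCat.of B)).hom_inv_id) r)
    let δ' : Derivation Γ(Spec (CommRingCat.of A), ⊤) Γ(SB, ⊤) L := Derivation.mk'
      { toFun := fun s => δ (ev s)
        map_add' := fun x y => by rw [map_add, map_add]
        map_smul' := fun a s => by
          obtain ⟨a, rfl⟩ := (ConcreteCategory.bijective_of_isIso (Scheme.ΓSpecIso (CommRingCat.of A)).inv).2 a
          have h1 : ev (f.appLE ⊤ ⊤ hle ((Scheme.ΓSpecIso (CommRingCat.of A)).inv a)) = algebraMap A B a := by
            have h2 := hg a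
            rw [Scheme.Hom.app_eq_appLE] at h2
            exact (congrArg ev h2.symm).trans (hev _)
          change δ (ev (f.appLE ⊤ ⊤ hle _ * s)) = ev (f.appLE ⊤ ⊤ hle _) • δ (ev s)
          rw [map_mul, RingHom.id_apply, h1, δ.leibniz, δ.map_algebraMap, smul_zero, add_zero] }
      (fun x y => by
        change δ (ev (x * y)) = ev x • δ (ev y) + ev y • δ (ev x)
        rw [map_mul, δ.leibniz])
    let g : Γ(Omega.sheaf f, (⊤ : (SB).Opens)) →+ T :=
      δ'.liftKaehlerDifferential.toAddMonoidHom.comp toS.symm.toAddMonoidHom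
    obtain ⟨α, hα⟩ := exists_hom_tilde (Omega.sheaf f) T g (fun r x => by
      obtain ⟨w, rfl⟩ := toS.surjective x
      change δ'.liftKaehlerDifferential (toS.symm (glob r • toS w)) = r • δ'.liftKaehlerDifferential (toS.symm (toS w))
      rw [← htoSsmul, AddEquiv.symm_apply_apply, AddEquiv.symm_apply_apply, map_smul]
      change ev (glob r) • (δ'.liftKaehlerDifferential w : L) = _
      rw [hev])
    have hval : ∀ t : B, ((OmegaSh.dOmega f).postcomp α.val).d (X := op ⊤) (glob t) = e (δ t) := by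
      intro t
      change α.app ⊤ (OmegaSh.dSect f ⊤ (glob t)) = _
      rw [hα, ← htoS]
      change toTop T (δ'.liftKaehlerDifferential (toS.symm (toS _))) = _
      rw [AddEquiv.symm_apply_apply, Derivation.liftKaehlerDifferential_comp_D]
      change toTop T (δ (ev (glob t))) = _
      rw [hev]
      rfl
    refine ⟨(OmegaSh.dOmega f).postcomp α.val, hval, fun D hD => ?_⟩
    obtain ⟨β, hβ, -⟩ := Var76.OmegaUniv.isUniversal f _ D
    suffices β = α by rw [← hβ, this]
    refine Omega57.hom_ext_top htop β α fun m => ?_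
    obtain ⟨w, rfl⟩ := toS.surjective m
    have hw : w ∈ Submodule.span Γ(SB, ⊤) (Set.range (KaehlerDifferential.D Γ(Spec (CommRingCat.of A), ⊤) Γ(SB, ⊤))) := by
      rw [KaehlerDifferential.span_range_derivation]; trivial
    induction hw using Submodule.span_induction with
    | mem y hy =>
      obtain ⟨b, rfl⟩ := hy
      obtain ⟨t, rfl⟩ : ∃ t, glob t = b := ⟨ev b, hev' b⟩
      rw [htoS]
      refine Eq.trans ?_ (hval t).symm
      have := congrArg (fun d : OmegaSh.Der f (tilde T) => d.d (X := op ⊤) (glob t)) hβ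
      exact this.trans (hD t)
    | zero => rw [map_zero, map_zero, map_zero]
    | add y z _ _ hy hz => rw [map_add, map_add, map_add, hy, hz]
    | smul r y _ hy => rw [htoSsmul, Scheme.Modules.Hom.app_smul, Scheme.Modules.Hom.app_smul, hy]

end Groth.Agent.PP93
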