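import Groth.Agent.PP93.Finite
import Groth.Agent.LimTop61.ModDescent
import Mathlib.AlgebraicGeometry.Morphisms.FinitePresentation
import Mathlib.RingTheory.Finiteness.ModuleFinitePresentation

/-!
Principal parts of a finitely presented module are finitely presented.
-/

set_option autoImplicit false
set_option backward.isDefEq.respectTransparency false
set_option linter.style.haveILetI false

noncomputable section

universe u

open CategoryTheory CategoryTheory.Limits AlgebraicGeometry TopologicalSpace Opposite TensorProduct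

namespace Groth.Agent.PP93

open Groth.Agent QC70

variable {X S : Scheme.{u}} (f : X ⟶ S) (n : ℕ)

theorem finitePresentation_comp_of_ker {A B C : Type u} [CommRing A] [CommRing B] [Algebra A B] [CommRing C]
    [Algebra.FinitePresentation A B] (r : B ⊗[A] B →+* C) (hr : Function.Surjective r) (m : ℕ)
    (h : ∀ z, r z = 0 ↔ z ∈ KaehlerDifferential.ideal A B ^ (m + 1)) :
    (r.comp (Algebra.TensorProduct.includeLeftRingHom : B →+* B ⊗[A] B)).FinitePresentation := by
  refine RingHom.FinitePresentation.comp_surjective ?_ hr ?_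
  · show RingHom.FinitePresentation (algebraMap B (B ⊗[A] B))
    exact RingHom.finitePresentation_algebraMap.2 inferInstance
  · rw [show RingHom.ker r = KaehlerDifferential.ideal A B ^ (m + 1) from Ideal.ext h]
    exact (KaehlerDifferential.ideal_fg A B).pow

theorem isFP_PMod [LocallyOfFinitePresentation f] (F : X.Modules) (hF : CohB1.IsFP F) :
    CohB1.IsFP (PrinPart.PMod f n F) := by
  haveI := hF
  haveI hFq : F.IsQuasicoherent := by
    obtain ⟨σ, -⟩ := SheafOfModules.IsFinitePresentation.exists_quasicoherentData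
      (R := X.ringCatSheaf) (M := F)
    exact σ.isQuasicoherent
  haveI : (PrinPart.PMod f n F).IsQuasicoherent := isQCoh_PMod f n F hFq
  haveI h2 : CohB1.IsFP ((Scheme.Modules.pullback (PrinPart.pr2 f n)).obj F) :=
    LimTop61.isFP_pullback (PrinPart.pr2 f n) F
  have hW : ∀ x : X, ∃ (W : X.Opens) (V : S.Opens), x ∈ W ∧ IsAffineOpen W ∧ IsAffineOpen V ∧ W ≤ f ⁻¹ᵁ V := by
    intro x
    obtain ⟨_, ⟨(V : S.Opens), hV, rfl⟩, hxV, -⟩ :=
      S.isBasis_affineOpens.exists_subset_of_mem_open (Set.mem_univ (f x)) isOpen_univ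
    obtain ⟨_, ⟨(W : X.Opens), hW, rfl⟩, hxW, hWV⟩ :=
      X.isBasis_affineOpens.exists_subset_of_mem_open (show x ∈ ((f ⁻¹ᵁ V : X.Opens) : Set X) from hxV)
        (f ⁻¹ᵁ V).2
    exact ⟨W, V, hxW, hW, hV, hWV⟩
  choose W V hxW hW hV hWV using hW
  refine Props58.LocFree.isFP_of_sections _ W
    (IsOpenCover.mk (top_le_iff.1 fun x _ => Opens.mem_iSup.2 ⟨x, hxW x⟩)) hW fun x => ?_
  let O := Γ(PrinPart.nbhd f n, PrinPart.pr1 f n ⁻¹ᵁ W x)
  let M := Γ((Scheme.Modules.pullback (PrinPart.pr2 f n)).obj F, PrinPart.pr1 f n ⁻¹ᵁ W x)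
  haveI : Module.FinitePresentation O M :=
    Props58.LocFree.finitePresentation_sections _ (isAffineOpen_preimage_pr1 f n (hW x) (hV x) (hWV x))
  letI := ((PrinPart.pr1 f n).app (W x)).hom.toAlgebra
  haveI : Module.Finite Γ(X, W x) O := finite_app_pr1 f n (hW x) (hV x) (hWV x)
  haveI : Algebra.FinitePresentation Γ(X, W x) O := by
    letI := (f.appLE (V x) (W x) (hWV x)).hom.toAlgebra
    haveI : Algebra.FinitePresentation Γ(S, V x) Γ(X, W x) :=
      f.finitePresentation_appLE (hV x) (hW x) (hWV x)
    obtain ⟨r, hrs, hr, hker⟩ := exists_nbhdHom f n (hW x) (hV x) (hWV x)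
    have e : r.comp Algebra.TensorProduct.includeLeftRingHom = ((PrinPart.pr1 f n).app (W x)).hom := by
      refine RingHom.ext fun a => ?_
      change r (a ⊗ₜ 1) = _
      rw [hr, map_one, mul_one]
    have := finitePresentation_comp_of_ker r hrs n hker
    rw [e] at this
    exact this
  haveI := Module.FinitePresentation.of_finite_of_finitePresentation Γ(X, W x) O
  letI : Module Γ(X, W x) M := Module.compHom M ((PrinPart.pr1 f n).app (W x)).hom
  haveI : IsScalarTower Γ(X, W x) O M := IsScalarTower.of_algebraMap_smul fun r e => rfl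
  exact Module.FinitePresentation.trans Γ(X, W x) M O

end Groth.Agent.PP93
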