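import Groth.Agent.PP93.Lift
import Groth.Agent.Div89.Comap

/-!
The symmetry of the infinitesimal neighbourhood of the diagonal.
-/

set_option autoImplicit false
set_option backward.isDefEq.respectTransparency false

noncomputable section

universe u

open CategoryTheory Limits AlgebraicGeometry TopologicalSpace Opposite

namespace Groth.Agent.PP93

variable {X S : Scheme.{u}} (f : X ⟶ S) (n : ℕ)

theorem symm_mem_coborderRange (z : ↥(pullback f f))
    (hz : z ∈ (pullback.diagonal f).coborderRange) :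
    (pullbackSymmetry f f).hom z ∈ (pullback.diagonal f).coborderRange := by
  let s := (pullbackSymmetry f f).hom
  let D : Set ↥(pullback f f) := Set.range (pullback.diagonal f)
  have hs : pullback.diagonal f ≫ s = pullback.diagonal f := by
    apply pullback.hom_ext <;> simp [s]
  have hD : s '' D = D := by
    ext w
    constructor
    · rintro ⟨_, ⟨x, rfl⟩, rfl⟩
      exact ⟨x, by rw [← Scheme.Hom.comp_apply, hs]⟩
    · rintro ⟨x, rfl⟩
      exact ⟨_, ⟨x, rfl⟩, by rw [← Scheme.Hom.comp_apply, hs]⟩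
  change s z ∈ coborder D
  change z ∈ coborder D at hz
  simp only [coborder, Set.mem_compl_iff, Set.mem_sdiff] at hz ⊢
  rintro ⟨h1, h2⟩
  refine hz ⟨?_, fun h => h2 ?_⟩
  · rw [← hD] at h1
    let h : ↥(pullback f f) ≃ₜ ↥(pullback f f) := Scheme.homeoOfIso (pullbackSymmetry f f)
    have h3 : h z ∈ closure (h '' D) := h1
    rw [← h.image_closure, h.injective.mem_set_image] at h3
    exact h3
  · rw [← hD]; exact ⟨z, h, rfl⟩

theorem exists_symmetry :
    ∃ σ : PrinPart.nbhd f n ⟶ PrinPart.nbhd f n,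
      σ ≫ PrinPart.nbhdι f n = PrinPart.nbhdι f n ≫ (pullbackSymmetry f f).hom ∧
      σ ≫ σ = 𝟙 (PrinPart.nbhd f n) ∧
      σ ≫ PrinPart.pr1 f n = PrinPart.pr2 f n ∧ σ ≫ PrinPart.pr2 f n = PrinPart.pr1 f n ∧
      PrinPart.toNbhd f n ≫ σ = PrinPart.toNbhd f n := by
  let C := (pullback.diagonal f).coborderRange
  let s := (pullbackSymmetry f f).hom
  let s' : (C : Scheme.{u}) ⟶ (C : Scheme.{u}) :=
    IsOpenImmersion.lift C.ι (C.ι ≫ s) (by
      rw [Scheme.Opens.range_ι]
      rintro _ ⟨z, rfl⟩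
      rw [Scheme.Hom.comp_apply]
      exact symm_mem_coborderRange f _ z.2)
  have hs' : s' ≫ C.ι = C.ι ≫ s := IsOpenImmersion.lift_fac _ _ _
  let i := PrinPart.diagCl f
  have hi : i ≫ s' = i := by
    rw [← cancel_mono C.ι, Category.assoc, hs', ← Category.assoc]
    rw [Scheme.Hom.liftCoborder_ι]
    apply pullback.hom_ext <;> simp [s]
  let I := i.ker ^ (n + 1)
  let ι := PrinPart.infNbhdι i n
  have hK : i.ker.comap s' ≤ i.ker := by
    rw [← Scheme.IdealSheafData.le_map_iff_comap_le, Scheme.IdealSheafData.map_ker, hi]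
  have hI : I ≤ I.map s' := by
    rw [Scheme.IdealSheafData.le_map_iff_comap_le, Div89.comap_pow]
    exact fun U => Ideal.pow_right_mono (hK U) _
  let σ : PrinPart.nbhd f n ⟶ PrinPart.nbhd f n := Scheme.IdealSheafData.subschemeMap I I s' hI
  have hσ : σ ≫ ι = ι ≫ s' := Scheme.IdealSheafData.subschemeMap_subschemeι _ _ _ _
  have e : σ ≫ PrinPart.nbhdι f n = PrinPart.nbhdι f n ≫ s := by
    simp only [PrinPart.nbhdι, Category.assoc]
    rw [reassoc_of% hσ, hs']
  haveI : IsImmersion (PrinPart.nbhdι f n) := by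
    dsimp only [PrinPart.nbhdι, PrinPart.infNbhdι]; infer_instance
  refine ⟨σ, e, ?_, ?_, ?_, ?_⟩
  · rw [← cancel_mono (PrinPart.nbhdι f n), Category.assoc, e, reassoc_of% e, Category.id_comp]
    apply pullback.hom_ext <;> simp [s]
  · rw [PrinPart.pr1, PrinPart.pr2, reassoc_of% e]; simp [s]
  · rw [PrinPart.pr1, PrinPart.pr2, reassoc_of% e]; simp [s]
  · rw [← cancel_mono (PrinPart.nbhdι f n), Category.assoc, e, ← Category.assoc, PrinPart.toNbhd_ι]
    apply pullback.hom_ext <;> simp [s]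

end Groth.Agent.PP93
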