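import Groth.Agent.PP93.PushHomeo
import Groth.Agent.PP93.Symm
import Groth.Agent.Approx60.FlatDesc
import Groth.Agent.Desc59.QCohDesc
import Mathlib.Algebra.Homology.ShortComplex.ExactFunctor

/-!
Flat principal parts give an exact functor of principal parts.
-/

set_option autoImplicit false
set_option backward.isDefEq.respectTransparency false
set_option linter.style.haveILetI false

noncomputable section

universe u

open CategoryTheory Limits AlgebraicGeometry TopologicalSpace Opposite
open Groth.Agent.QC70

namespace Groth.Agent.PP93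

variable {X S : Scheme.{u}} (f : X ⟶ S) (n : ℕ)

theorem flat_pr1 (hP : FlatMod.IsFlat (PrinPart.P f n)) : Flat (PrinPart.pr1 f n) := by
  let M := (Scheme.Modules.pullback (PrinPart.pr2 f n)).obj (Coh.structureModule X)
  refine Approx60.flat_of_isFlatOver_structure _ fun z =>
    Stage62.isFlatOverAt_of_iso (PrinPart.pr1 f n) (PicLoc.pullbackStructureIso (PrinPart.pr2 f n)) z ?_
  have hb : Function.Bijective (DCK91.pushStalk (PrinPart.pr1 f n) z M) :=
    haveI : IsIso (TopCat.Presheaf.stalkPushforward AddCommGrpCat.{u} (PrinPart.pr1 f n).base M.presheaf z) :=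
      TopCat.Presheaf.stalkPushforward.stalkPushforward_iso_of_isInducing AddCommGrpCat.{u}
        (pr1_isInducing f n) _ z
    ConcreteCategory.bijective_of_isIso
      (TopCat.Presheaf.stalkPushforward AddCommGrpCat.{u} (PrinPart.pr1 f n).base M.presheaf z)
  have hflat := hP (PrinPart.pr1 f n z)
  unfold FlatMod.IsFlatAt at hflat
  unfold FlatMod.IsFlatOverAt
  letI := FlatMod.moduleStalkOver (PrinPart.pr1 f n) M z
  let l : (PrinPart.P f n).presheaf.stalk (PrinPart.pr1 f n z) →ₗ[X.presheaf.stalk (PrinPart.pr1 f n z)]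
      M.presheaf.stalk z :=
    { toFun := DCK91.pushStalk (PrinPart.pr1 f n) z M
      map_add' := map_add _
      map_smul' := fun r e => DCK91.pushStalk_smul (PrinPart.pr1 f n) z M r e }
  let e := LinearEquiv.ofBijective l hb
  exact Module.Flat.of_linearEquiv e.symm

theorem flat_pr2 (hP : FlatMod.IsFlat (PrinPart.P f n)) : Flat (PrinPart.pr2 f n) := by
  haveI := flat_pr1 f n hP
  obtain ⟨σ, -, hσ, h1, -, -⟩ := exists_symmetry (f := f) (n := n)
  haveI : IsIso σ := ⟨σ, hσ, hσ⟩
  rw [← h1]
  infer_instance

theorem preservesFiniteLimits_principalParts (hP : FlatMod.IsFlat (PrinPart.P f n)) :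
    PreservesFiniteLimits
      ((Scheme.Modules.pullback (PrinPart.pr2 f n)) ⋙ (Scheme.Modules.pushforward (PrinPart.pr1 f n))) := by
  haveI := flat_pr2 f n hP
  let F := Scheme.Modules.pullback (PrinPart.pr2 f n)
  haveI : F.IsLeftAdjoint := (Scheme.Modules.pullbackPushforwardAdjunction _).isLeftAdjoint
  haveI : (Scheme.Modules.pushforward (PrinPart.pr1 f n)).IsRightAdjoint :=
    (Scheme.Modules.pullbackPushforwardAdjunction _).isRightAdjoint
  haveI : F.Additive := Functor.additive_of_preserves_binary_products _
  haveI : PreservesFiniteLimits F := by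
    rw [Functor.preservesFiniteLimits_iff_forall_exact_map_and_mono]
    intro T hT
    haveI := hT.mono_f
    haveI := hT.epi_g
    exact ⟨((T.map F).exact_and_epi_g_iff_g_is_cokernel.2
      ⟨CokernelCofork.mapIsColimit _ hT.gIsCokernel F⟩).1, Desc59.QCohDesc.mono_pullback _ T.f⟩
  exact comp_preservesFiniteLimits _ _

end Groth.Agent.PP93
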