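import Groth.Prelude.Def_OmegaPn
import Groth.Agent.Omega57.PullOpen
import Groth.Agent.Curves2.IdealFrame
import Groth.Agent.MP99.Basic
import Groth.Agent.Div89.Comap

/-!
The canonical map of graded pieces is an epimorphism for a base change.
-/

set_option autoImplicit false
set_option backward.isDefEq.respectTransparency false

noncomputable section

universe u

open CategoryTheory Limits AlgebraicGeometry TopologicalSpace Opposite
open Groth.Agent.QC70

namespace Groth.Agent.PP93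

theorem epi_grMap {Y X Y' X' : Scheme.{u}} (f : Y ⟶ X) [IsClosedImmersion f]
    (v : X' ⟶ X) (u : Y' ⟶ Y) (f' : Y' ⟶ X') (hsq : IsPullback u f' f v) (n : ℕ)
    (φ : (Scheme.Modules.pullback u).obj (PrinPart.grMod f n) ⟶ PrinPart.grMod f' n)
    (hφ : PrinPart.IsGrMap f' f v u n φ) : Epi φ := by
  constructor
  intro G a b hab
  let I := f.ker ^ n
  let I' := f'.ker ^ n
  have hk : f.ker.comap v = f'.ker := by
    rw [← Scheme.IdealSheafData.ker_fst_of_isClosedImmersion, ← Scheme.Hom.ker_comp_of_isIso hsq.flip.isoPullback.hom,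
      hsq.flip.isoPullback_hom_fst]
  have hI : I.comap v = I' := by rw [Div89.comap_pow, hk]
  have hle : I ≤ I'.map v := Scheme.IdealSheafData.le_map_iff_comap_le.2 hI.le
  let w := Scheme.IdealSheafData.subschemeMap I' I v hle
  have hw : w ≫ I.subschemeι = I'.subschemeι ≫ v := Scheme.IdealSheafData.subschemeMap_subschemeι _ _ _ _
  have hlift : ∀ (U : X.Opens) (s : Γ(ClSub.idealMod I, U)),
      ∃ s' : Γ(ClSub.idealMod I', v ⁻¹ᵁ U),
        OmegaSh.idealSect I' (v ⁻¹ᵁ U) s' = v.app U (OmegaSh.idealSect I U s) := by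
    intro U s
    refine Omega57.exists_idealSect_eq I' _ _ ?_
    have h0 := Omega57.subschemeι_idealSect I U s
    change (v.app U ≫ I'.subschemeι.app (v ⁻¹ᵁ U)) _ = 0
    rw [← Scheme.Hom.comp_app, Scheme.Hom.congr_app hw.symm U, Scheme.Hom.comp_app, ConcreteCategory.comp_apply,
      ConcreteCategory.comp_apply, h0, map_zero, map_zero]
  let adj := Scheme.Modules.pullbackPushforwardAdjunction f'
  apply (adj.homEquiv _ _).injective
  refine Scheme.Modules.hom_ext _ _ fun O => ?_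
  ext m
  refine section_ext _ _ _ fun p hp => ?_
  obtain ⟨_, ⟨(U : X.Opens), hU, rfl⟩, hpU, -⟩ :=
    X.isBasis_affineOpens.exists_subset_of_mem_open (Set.mem_univ (v p)) isOpen_univ
  obtain ⟨_, ⟨(U' : X'.Opens), hU', rfl⟩, hpU', hle'⟩ :=
    X'.isBasis_affineOpens.exists_subset_of_mem_open
      (show p ∈ ((O ⊓ v ⁻¹ᵁ U : X'.Opens) : Set X') from ⟨hp, hpU⟩) (O ⊓ v ⁻¹ᵁ U).2
  have hUO : U' ≤ O := fun z hz => (hle' hz).1
  have hUv : U' ≤ v ⁻¹ᵁ U := fun z hz => (hle' hz).2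
  refine ⟨U', hUO, hpU', ?_⟩
  rw [← app_res, ← app_res]
  generalize res (ClSub.idealMod I') hUO m = m'
  -- sections over `U'` are spanned by images of sections of `I`
  suffices H : ∀ r ∈ I'.ideal ⟨U', hU'⟩, ∃ m : Γ(ClSub.idealMod I', U'),
      OmegaSh.idealSect I' U' m = r ∧
        ((adj.homEquiv _ _) a).app U' m = ((adj.homEquiv _ _) b).app U' m by
    obtain ⟨m₁, hm₁, h⟩ := H _ (Curves2.idealSect_mem_ideal I' ⟨U', hU'⟩ m')
    rwa [Omega57.idealSect_injective I' U' hm₁] at h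
  intro r hr
  rw [← hI, MP99.ideal_comap I v ⟨U, hU⟩ ⟨U', hU'⟩ hUv, Ideal.map] at hr
  induction hr using Submodule.span_induction with
  | mem r hr =>
    obtain ⟨c, hc, rfl⟩ := hr
    obtain ⟨s, rfl⟩ := Curves2.exists_idealSect_of_mem I ⟨U, hU⟩ hc
    obtain ⟨s', hs'⟩ := hlift U s
    refine ⟨res (ClSub.idealMod I') hUv s', ?_, ?_⟩
    · rw [Curves2.idealSect_res, hs']
      rfl
    · rw [Adjunction.homEquiv_unit, Adjunction.homEquiv_unit]
      change a.app (f' ⁻¹ᵁ U') (OmegaSh.pullSect f' (ClSub.idealMod I') U' (res _ hUv s')) =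
        b.app (f' ⁻¹ᵁ U') (OmegaSh.pullSect f' (ClSub.idealMod I') U' (res _ hUv s'))
      rw [show OmegaSh.pullSect f' (ClSub.idealMod I') U' (res _ hUv s') =
          res (PrinPart.grMod f' n) (f'.preimage_mono hUv) (PrinPart.grSect f' n (v ⁻¹ᵁ U) s') from
        OmegaSh.pullSect_map f' (ClSub.idealMod I') hUv s']
      have h₁ : f' ⁻¹ᵁ U' ≤ u ⁻¹ᵁ (f ⁻¹ᵁ U) := by
        rw [← Scheme.Hom.comp_preimage, hsq.w, Scheme.Hom.comp_preimage]
        exact f'.preimage_mono hUv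
      simp only [res]
      rw [← hφ.2 U s s' hs' (f' ⁻¹ᵁ U') h₁ (f'.preimage_mono hUv)]
      change a.app _ (res _ h₁ _) = b.app _ (res _ h₁ _)
      rw [app_res a, app_res b]
      exact congrArg (res G h₁) congr(Scheme.Modules.Hom.app $hab (u ⁻¹ᵁ (f ⁻¹ᵁ U))
        (OmegaSh.pullSect u (PrinPart.grMod f n) (f ⁻¹ᵁ U) (PrinPart.grSect f n U s)))
  | zero => exact ⟨0, map_zero _, by rw [map_zero, map_zero]⟩
  | add x y _ _ hx hy =>
    obtain ⟨mx, hmx, ex⟩ := hx
    obtain ⟨my, hmy, ey⟩ := hy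
    exact ⟨mx + my, by rw [map_add, hmx, hmy], by rw [map_add, map_add, ex, ey]⟩
  | smul c x _ hx =>
    obtain ⟨mx, hmx, ex⟩ := hx
    exact ⟨c • mx, by rw [Omega57.idealSect_smul, hmx, smul_eq_mul],
      by rw [Scheme.Modules.Hom.app_smul, Scheme.Modules.Hom.app_smul, ex]⟩

end Groth.Agent.PP93
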