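import Groth.Agent.PP93.GrEpi
import Groth.Agent.Om3.Chart
import Groth.Agent.SchBasics.PullSpan
import Groth.Agent.EGA73.GammaStarIso
import Mathlib.AlgebraicGeometry.Morphisms.Flat

/-!
The canonical map of graded pieces of a flat base change is an isomorphism.
-/

set_option autoImplicit false
set_option backward.isDefEq.respectTransparency false
set_option linter.style.haveILetI false

noncomputable section

universe u

open CategoryTheory Limits AlgebraicGeometry TopologicalSpace Opposite TensorProduct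
open Groth.Agent.QC70

namespace Groth.Agent.PP93

variable {Y X Y' X' : Scheme.{u}} {f : Y ⟶ X} [IsClosedImmersion f] {v : X' ⟶ X} {u : Y' ⟶ Y}
  {f' : Y' ⟶ X'} {n : ℕ} {φ : (Scheme.Modules.pullback u).obj (PrinPart.grMod f n) ⟶ PrinPart.grMod f' n}

theorem comap_ker_pow (hsq : IsPullback u f' f v) (n : ℕ) : (f.ker ^ n).comap v = f'.ker ^ n := by
  rw [Div89.comap_pow, ← Scheme.IdealSheafData.ker_fst_of_isClosedImmersion,
    ← Scheme.Hom.ker_comp_of_isIso hsq.flip.isoPullback.hom, hsq.flip.isoPullback_hom_fst]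

theorem injective_grMap_chart (hsq : IsPullback u f' f v) (hφ : PrinPart.IsGrMap f' f v u n φ)
    {U : X.Opens} (hU : IsAffineOpen U) {W : X'.Opens} (hW : IsAffineOpen W) (hle : W ≤ v ⁻¹ᵁ U)
    (hflat : (v.appLE U W hle).hom.Flat) : Function.Injective (φ.app (f' ⁻¹ᵁ W)) := by
  haveI : IsClosedImmersion f' := MorphismProperty.of_isPullback hsq ‹IsClosedImmersion f›
  let I := f.ker ^ n
  let I' := f'.ker ^ n
  let M := ClSub.idealMod I'
  let M' := ClSub.idealMod I
  haveI : M.IsQuasicoherent := Omega57.isQuasicoherent_idealMod _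
  haveI : M'.IsQuasicoherent := Omega57.isQuasicoherent_idealMod _
  haveI : (PrinPart.grMod f n).IsQuasicoherent := QCPull72.isQuasicoherent_pullback f M'
  have hP : IsAffineOpen (f' ⁻¹ᵁ W) := hW.preimage f'
  have hfU : IsAffineOpen (f ⁻¹ᵁ U) := hU.preimage f
  let P : Y'.Opens := f' ⁻¹ᵁ W
  have ePZ : P ≤ u ⁻¹ᵁ (f ⁻¹ᵁ U) := fun z hz => by
    show f (u z) ∈ U
    rw [← Scheme.Hom.comp_apply, hsq.w, Scheme.Hom.comp_apply]
    exact hle hz
  have hI : I.comap v = I' := comap_ker_pow hsq n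
  have hmem : ∀ s : Γ(M, W), OmegaSh.idealSect I' W s ∈ (I.ideal ⟨U, hU⟩).map (v.appLE U W hle).hom := fun s => by
    rw [← MP99.ideal_comap I v ⟨U, hU⟩ ⟨W, hW⟩ hle, hI]
    exact Curves2.idealSect_mem_ideal I' ⟨W, hW⟩ s
  have hlift : ∀ m : Γ(M', U), ∃ s : Γ(M, W),
      OmegaSh.idealSect I' W s = v.appLE U W hle (OmegaSh.idealSect I U m) := fun m =>
    Curves2.exists_idealSect_of_mem I' ⟨W, hW⟩ (by
      rw [← hI, MP99.ideal_comap I v ⟨U, hU⟩ ⟨W, hW⟩ hle]
      exact Ideal.mem_map_of_mem _ (Curves2.idealSect_mem_ideal I ⟨U, hU⟩ m))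
  have hlift' : ∀ m : Γ(M', U), ∃ s' : Γ(M, v ⁻¹ᵁ U),
      OmegaSh.idealSect I' (v ⁻¹ᵁ U) s' = v.app U (OmegaSh.idealSect I U m) := fun m => by
    let w := Scheme.IdealSheafData.subschemeMap I' I v (Scheme.IdealSheafData.le_map_iff_comap_le.2 hI.le)
    have hw : w ≫ I.subschemeι = I'.subschemeι ≫ v := Scheme.IdealSheafData.subschemeMap_subschemeι _ _ _ _
    refine Omega57.exists_idealSect_eq I' _ _ ?_
    change (v.app U ≫ I'.subschemeι.app (v ⁻¹ᵁ U)) _ = 0
    rw [← Scheme.Hom.comp_app, Scheme.Hom.congr_app hw.symm U, Scheme.Hom.comp_app, ConcreteCategory.comp_apply,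
      ConcreteCategory.comp_apply, Omega57.subschemeι_idealSect I U m, map_zero, map_zero]
  let G := (Scheme.Modules.pullback u).obj (PrinPart.grMod f n)
  let d : Γ(M', U) → Γ(G, P) := fun m => res G ePZ
    (OmegaSh.pullSect u (PrinPart.grMod f n) (f ⁻¹ᵁ U) (PrinPart.grSect f n U m))
  have hd : ∀ (m : Γ(M', U)) (s : Γ(M, W)),
      OmegaSh.idealSect I' W s = v.appLE U W hle (OmegaSh.idealSect I U m) →
        φ.app P (d m) = PrinPart.grSect f' n W s := fun m s hs => by
    obtain ⟨s', hs'⟩ := hlift' m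
    have h2 : s = res M hle s' := Omega57.idealSect_injective I' W (by
      rw [hs, Curves2.idealSect_res, hs']; rfl)
    show φ.app P (res G ePZ _) = _
    rw [app_res φ, h2]
    refine (hφ.2 U m s' hs' P ePZ (f'.preimage_mono hle)).trans ?_
    exact (OmegaSh.pullSect_map f' M hle s').symm
  let φL : Γ(G, P) →ₗ[Γ(Y', P)] Γ(PrinPart.grMod f' n, P) :=
    { toFun := fun s => φ.app P s, map_add' := fun a b => map_add _ a b,
      map_smul' := fun r s => Scheme.Modules.Hom.app_smul φ r s }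
  letI : Algebra Γ(X, U) Γ(X', W) := (v.appLE U W hle).hom.toAlgebra
  haveI : Module.Flat Γ(X, U) Γ(X', W) := hflat
  let ι' : Γ(M', U) →ₗ[Γ(X, U)] Γ(X, U) :=
    { toFun := fun m => OmegaSh.idealSect I U m, map_add' := fun a b => map_add _ a b,
      map_smul' := fun r m => Omega57.idealSect_smul _ _ r m }
  let μ : Γ(X', W) ⊗[Γ(X, U)] Γ(M', U) →ₗ[Γ(X', W)] Γ(X', W) :=
    ((Algebra.linearMap Γ(X, U) Γ(X', W)).comp ι').liftBaseChange Γ(X', W)
  have hμ : Function.Injective μ := by
    have h1 := Module.Flat.lTensor_preserves_injective_linearMap (M := Γ(X', W)) ι'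
      (Omega57.idealSect_injective I U)
    have h2 : ∀ x, μ x = TensorProduct.rid Γ(X, U) Γ(X', W) (ι'.lTensor Γ(X', W) x) := by
      intro x
      induction x with
      | zero => simp only [map_zero]
      | add y z hy hz => simp only [map_add, hy, hz]
      | tmul a m =>
        rw [LinearMap.liftBaseChange_tmul, LinearMap.lTensor_tmul, TensorProduct.rid_tmul,
          Algebra.smul_def (ι' m) a, smul_eq_mul, mul_comm]
        rfl
    intro x y hxy
    rw [h2, h2] at hxy
    exact h1 ((TensorProduct.rid Γ(X, U) Γ(X', W)).injective hxy)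
  letI modG : Module Γ(X', W) Γ(G, P) := Module.compHom _ (f'.app W).hom
  letI modG' : Module Γ(X, U) Γ(G, P) := Module.compHom _ ((f'.app W).hom.comp (v.appLE U W hle).hom)
  haveI : IsScalarTower Γ(X, U) Γ(X', W) Γ(G, P) := IsScalarTower.of_algebraMap_smul fun _ _ => rfl
  have hmor : ∀ r, f'.app W (v.appLE U W hle r) = Y'.presheaf.map (homOfLE ePZ).op (u.app _ (f.app U r)) := by
    intro r
    have key : ∀ (q : Y' ⟶ X) (h : P ≤ q ⁻¹ᵁ U), q = u ≫ f →
        f'.app W (v.appLE U W hle r) = q.appLE U P h r → 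
        f'.app W (v.appLE U W hle r) = Y'.presheaf.map (homOfLE ePZ).op (u.app _ (f.app U r)) := by
      rintro q h rfl hh
      rw [hh, Scheme.Hom.appLE, Scheme.Hom.comp_app, ConcreteCategory.comp_apply, ConcreteCategory.comp_apply]
      rfl
    refine key (f' ≫ v) (fun z hz => hle hz) hsq.w.symm ?_
    rw [← ConcreteCategory.comp_apply, Scheme.Hom.app_eq_appLE, Scheme.Hom.appLE_comp_appLE]
  let dL : Γ(M', U) →ₗ[Γ(X, U)] Γ(G, P) :=
    { toFun := d
      map_add' := fun a b => by
        show res G ePZ _ = _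
        rw [map_add, map_add, res_add]
      map_smul' := fun r m => by
        show res G ePZ _ = f'.app W (v.appLE U W hle r) • d m
        refine Eq.trans (congrArg (fun t => res G ePZ (OmegaSh.pullSect u (PrinPart.grMod f n) (f ⁻¹ᵁ U) t))
          (OmegaSh.pullSect_smul f M' U r m)) ?_
        refine Eq.trans (congrArg (res G ePZ)
          (OmegaSh.pullSect_smul u (PrinPart.grMod f n) (f ⁻¹ᵁ U) (f.app U r) _)) ?_
        rw [hmor]
        exact res_smul (M := G) _ _ _ }
  let ν : Γ(X', W) ⊗[Γ(X, U)] Γ(M', U) →ₗ[Γ(X', W)] Γ(G, P) := dL.liftBaseChange Γ(X', W)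
  have hex : ∀ s : Γ(M, W), ∃ x, μ x = OmegaSh.idealSect I' W s := by
    intro s
    have hs := hmem s
    generalize OmegaSh.idealSect I' W s = a at hs
    induction hs using Submodule.span_induction with
    | mem y hy =>
      obtain ⟨x, hx, rfl⟩ := hy
      obtain ⟨m, hm⟩ := Curves2.exists_idealSect_of_mem I ⟨U, hU⟩ hx
      refine ⟨1 ⊗ₜ m, ?_⟩
      rw [LinearMap.liftBaseChange_tmul, one_smul]
      show v.appLE U W hle (OmegaSh.idealSect I U m) = _
      rw [hm]
    | zero => exact ⟨0, map_zero _⟩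
    | add y z _ _ hy hz =>
      obtain ⟨a, rfl⟩ := hy; obtain ⟨b, rfl⟩ := hz
      exact ⟨a + b, map_add _ _ _⟩
    | smul r y _ hy =>
      obtain ⟨a, rfl⟩ := hy
      exact ⟨r • a, map_smul _ _ _⟩
  choose inv hinv using hex
  let gM : Γ(M, W) →+ Γ(G, P) := AddMonoidHom.mk' (fun s => ν (inv s)) fun a b => by
    rw [← map_add]
    exact congrArg ν (hμ (by rw [hinv, map_add, map_add, hinv, hinv]))
  obtain ⟨ℓ, hℓ⟩ := SchBasics.exists_linear_pullSect f' M G hP hW le_rfl gM fun r m => by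
    show ν (inv (r • m)) = f'.appLE W P le_rfl r • ν (inv m)
    rw [← Scheme.Hom.app_eq_appLE]
    refine Eq.trans ?_ (ν.map_smul r (inv m))
    exact congrArg ν (hμ (by rw [map_smul μ, hinv, hinv, Omega57.idealSect_smul, smul_eq_mul]))
  have hℓd : ∀ m, ℓ (φL (d m)) = d m := by
    intro m
    obtain ⟨s, hs⟩ := hlift m
    show ℓ (φ.app P (d m)) = _
    rw [hd m s hs]
    refine (congrArg ℓ (res_self (M := PrinPart.grMod f' n) _).symm).trans ((hℓ s).trans ?_)
    show ν (inv s) = d m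
    rw [show inv s = 1 ⊗ₜ m from hμ (by
      rw [hinv, hs, LinearMap.liftBaseChange_tmul, one_smul]; rfl), LinearMap.liftBaseChange_tmul, one_smul]
    rfl
  refine Function.LeftInverse.injective (g := ℓ) fun x => ?_
  have hx : x ∈ Submodule.span Γ(Y', P) (Set.range fun y => res G ePZ
      (OmegaSh.pullSect u (PrinPart.grMod f n) (f ⁻¹ᵁ U) y)) := by
    rw [SchBasics.span_pullSect u (PrinPart.grMod f n) hP hfU ePZ]; trivial
  show ℓ (φL x) = x
  induction hx using Submodule.span_induction with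
  | zero => rw [map_zero, map_zero]
  | add y z _ _ hy hz => rw [map_add, map_add, hy, hz]
  | smul r y _ hy => rw [map_smul, map_smul, hy]
  | mem y hy =>
    obtain ⟨c, rfl⟩ := hy
    have hc : c ∈ Submodule.span Γ(Y, f ⁻¹ᵁ U) (Set.range fun m : Γ(M', U) => PrinPart.grSect f n U m) := by
      have := SchBasics.span_pullSect f M' hfU hU le_rfl
      have h2 : (Set.range fun m : Γ(M', U) => PrinPart.grSect f n U m) = Set.range fun m : Γ(M', U) =>
          res (PrinPart.grMod f n) le_rfl (OmegaSh.pullSect f M' U m) :=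
        congrArg Set.range (funext fun m => (res_self (M := PrinPart.grMod f n) _).symm)
      rw [h2]
      exact this.ge trivial
    induction hc using Submodule.span_induction with
    | mem y hy => obtain ⟨m, rfl⟩ := hy; exact hℓd m
    | zero =>
      show ℓ (φL (res G ePZ _)) = res G ePZ _
      rw [map_zero, QC70.res_zero, map_zero, map_zero]
    | add y z _ _ hy hz =>
      show ℓ (φL (res G ePZ _)) = res G ePZ _
      rw [map_add, res_add, map_add, map_add]
      exact congrArg₂ (· + ·) hy hz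
    | smul r y _ hy =>
      show ℓ (φL (res G ePZ _)) = res G ePZ _
      rw [OmegaSh.pullSect_smul, res_smul, map_smul, map_smul]
      exact congrArg _ hy

theorem isIso_grMap_of_flat [Flat v] (hsq : IsPullback u f' f v) (hφ : PrinPart.IsGrMap f' f v u n φ) :
    IsIso φ := by
  haveI : IsClosedImmersion f' := MorphismProperty.of_isPullback hsq ‹IsClosedImmersion f›
  haveI := epi_grMap f v u f' hsq n φ hφ
  have : Mono φ := Om3.mono_of_basis φ fun O p hp => by
    obtain ⟨_, ⟨(U : X.Opens), hU, rfl⟩, hpU, -⟩ :=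
      X.isBasis_affineOpens.exists_subset_of_mem_open (Set.mem_univ (v (f' p))) isOpen_univ
    obtain ⟨T, hT, hTO⟩ := f'.isEmbedding.isInducing.isOpen_iff.1 O.2
    obtain ⟨_, ⟨(W : X'.Opens), hW, rfl⟩, hpW, hWle⟩ :=
      X'.isBasis_affineOpens.exists_subset_of_mem_open
        (show f' p ∈ ((⟨T, hT⟩ ⊓ v ⁻¹ᵁ U : X'.Opens) : Set X') from ⟨hTO.ge hp, hpU⟩) (⟨T, hT⟩ ⊓ v ⁻¹ᵁ U).2
    have hle : W ≤ v ⁻¹ᵁ U := fun z hz => (hWle hz).2
    exact ⟨f' ⁻¹ᵁ W, hpW, fun z hz => hTO.le (hWle hz).1,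
      injective_grMap_chart hsq hφ hU hW hle (v.flat_appLE hU hW hle)⟩
  exact isIso_of_mono_of_epi φ

end Groth.Agent.PP93
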