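import Groth.Agent.PP93.GrSectionAlg
import Groth.Agent.PP93.GrFlat
import Groth.Agent.PP93.DiffGen
import Groth.Agent.Om3.BaseChange
import Groth.Agent.FlatMor68.FlatFiniteRank

/-!
Graded pieces of the ideal of a section commute with base change.
-/

set_option autoImplicit false
set_option backward.isDefEq.respectTransparency false
set_option linter.style.haveILetI false

noncomputable section

universe u

open CategoryTheory Limits AlgebraicGeometry TopologicalSpace Opposite TensorProduct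
open Groth.Agent.QC70

namespace Groth.Agent.PP93

variable {Y X : Scheme.{u}} (g : X ⟶ Y) (f : Y ⟶ X) [IsClosedImmersion f] (hf : f ≫ g = 𝟙 Y)

/-- The augmentation of a chart of a section. -/
def chartAug {U : X.Opens} (hUg : U ≤ g ⁻¹ᵁ (f ⁻¹ᵁ U)) :
    letI := (g.appLE (f ⁻¹ᵁ U) U hUg).hom.toAlgebra
    Γ(X, U) →ₐ[Γ(Y, f ⁻¹ᵁ U)] Γ(Y, f ⁻¹ᵁ U) :=
  letI := (g.appLE (f ⁻¹ᵁ U) U hUg).hom.toAlgebra
  { (f.app U).hom with
    commutes' := fun r => by
      show f.app U (g.appLE (f ⁻¹ᵁ U) U hUg r) = r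
      have := hf
      rw [← ConcreteCategory.comp_apply, Scheme.Hom.app_eq_appLE, Scheme.Hom.appLE_comp_appLE,
        OmegaSh.id_appLE_eq_id hf]
      rfl }

include hf in
theorem ker_chartAug {U : X.Opens} (hU : IsAffineOpen U) (hUg : U ≤ g ⁻¹ᵁ (f ⁻¹ᵁ U)) (k : ℕ) :
    letI := (g.appLE (f ⁻¹ᵁ U) U hUg).hom.toAlgebra
    (f.ker ^ k).ideal ⟨U, hU⟩ = RingHom.ker (chartAug g f hf hUg) ^ k := by
  rw [Scheme.IdealSheafData.ideal_pow, Pi.pow_apply, Scheme.Hom.ker_apply]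
  rfl

theorem grSect_eq_zero_of_mem_pow (k : ℕ) {U : X.Opens} (hU : IsAffineOpen U)
    (s : Γ(ClSub.idealMod (f.ker ^ k), U))
    (hs : OmegaSh.idealSect (f.ker ^ k) U s ∈ (f.ker ^ (k + 1)).ideal ⟨U, hU⟩) :
    PrinPart.grSect f k U s = 0 := by
  suffices H : ∀ z ∈ (f.ker ^ (k + 1)).ideal ⟨U, hU⟩, ∃ t : Γ(ClSub.idealMod (f.ker ^ k), U),
      OmegaSh.idealSect (f.ker ^ k) U t = z ∧ PrinPart.grSect f k U t = 0 by
    obtain ⟨t, ht, ht0⟩ := H _ hs
    rwa [← Omega57.idealSect_injective _ _ ht]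
  intro z hz
  rw [Scheme.IdealSheafData.ideal_pow, Pi.pow_apply, pow_succ'] at hz
  induction hz using Submodule.mul_induction_on' with
  | mem_mul_mem a ha b hb =>
    rw [← Pi.pow_apply, ← Scheme.IdealSheafData.ideal_pow] at hb
    obtain ⟨t, ht⟩ := Curves2.exists_idealSect_of_mem (f.ker ^ k) ⟨U, hU⟩ hb
    refine ⟨a • t, by rw [Omega57.idealSect_smul, ht], ?_⟩
    rw [Scheme.Hom.ker_apply] at ha
    show OmegaSh.pullSect f _ U (a • t) = 0
    rw [OmegaSh.pullSect_smul, show f.app U a = 0 from ha, zero_smul]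
  | add a _ b _ ha hb =>
    obtain ⟨t, ht, ht0⟩ := ha
    obtain ⟨t', ht', ht0'⟩ := hb
    exact ⟨t + t', by rw [map_add, ht, ht'], by rw [map_add, ht0, ht0', add_zero]⟩

include hf in
theorem flat_gr_chart {U : X.Opens} (hU : IsAffineOpen U) (hUg : U ≤ g ⁻¹ᵁ (f ⁻¹ᵁ U)) (k : ℕ)
    (hflat : FlatMod.IsFlat (PrinPart.grMod f k)) :
    letI := (g.appLE (f ⁻¹ᵁ U) U hUg).hom.toAlgebra
    Module.Flat Γ(Y, f ⁻¹ᵁ U) (GrSec.gr (chartAug g f hf hUg) k) := by
  letI := (g.appLE (f ⁻¹ᵁ U) U hUg).hom.toAlgebra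
  let ε := chartAug g f hf hUg
  let M := ClSub.idealMod (f.ker ^ k)
  haveI : M.IsQuasicoherent := Omega57.isQuasicoherent_idealMod _
  haveI : (PrinPart.grMod f k).IsQuasicoherent := QCPull72.isQuasicoherent_pullback f M
  have hV : IsAffineOpen (f ⁻¹ᵁ U) := hU.preimage f
  haveI := FlatMor68.FlatFiniteRank.flat_sections_self _ hflat hV
  have hk := ker_chartAug g f hf hU hUg k
  have hsect : ∀ j : ↥(RingHom.ker ε ^ k), ∃ s : Γ(M, U), OmegaSh.idealSect (f.ker ^ k) U s = j :=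
    fun j => Curves2.exists_idealSect_of_mem (f.ker ^ k) ⟨U, hU⟩ (hk.ge j.2)
  choose sect hsect using hsect
  have huniq : ∀ (j : ↥(RingHom.ker ε ^ k)) s, OmegaSh.idealSect (f.ker ^ k) U s = (j : Γ(X, U)) → s = sect j := fun j s h =>
    Omega57.idealSect_injective _ _ (h.trans (hsect j).symm)
  let d : ↥(RingHom.ker ε ^ k) →ₗ[Γ(Y, f ⁻¹ᵁ U)] Γ(PrinPart.grMod f k, f ⁻¹ᵁ U) :=
    { toFun := fun j => PrinPart.grSect f k U (sect j)
      map_add' := fun i j => by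
        rw [← huniq (i + j) (sect i + sect j) (by rw [map_add, hsect, hsect]; rfl), map_add]
      map_smul' := fun b j => by
        rw [← huniq (b • j) (algebraMap Γ(Y, f ⁻¹ᵁ U) Γ(X, U) b • sect j)
          (by rw [Omega57.idealSect_smul, hsect]
              exact (Algebra.smul_def b (j : Γ(X, U))).symm)]
        show OmegaSh.pullSect f M U _ = _
        rw [OmegaSh.pullSect_smul]
        show (ε (algebraMap _ _ b)) • _ = b • _
        rw [AlgHom.commutes]
        rfl }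
  have hmem : ∀ s : Γ(M, U), OmegaSh.idealSect (f.ker ^ k) U s ∈ RingHom.ker ε ^ k := fun s =>
    hk.le (Curves2.idealSect_mem_ideal (f.ker ^ k) ⟨U, hU⟩ s)
  have hgr : ∀ (s : Γ(M, U)), (Ideal.Quotient.mk _ (OmegaSh.idealSect (f.ker ^ k) U s) : GrSec.Q ε (k + 1)) ∈
      GrSec.gr ε k := fun s => (GrSec.mem_gr_iff ε _).2 (hmem s)
  let gm : Γ(M, U) →+ GrSec.gr ε k := AddMonoidHom.mk' (fun s => ⟨_, hgr s⟩) fun a b =>
    Subtype.ext ((congrArg (Ideal.Quotient.mk _) (map_add _ a b)).trans (map_add _ _ _))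
  obtain ⟨l, hl⟩ := SchBasics.exists_linear_pullSect_module f M hV hU le_rfl (GrSec.gr ε k) gm fun r s => by
    refine Subtype.ext ?_
    rw [← Scheme.Hom.app_eq_appLE]
    show Ideal.Quotient.mk _ (OmegaSh.idealSect (f.ker ^ k) U (r • s)) =
      ε r • (Ideal.Quotient.mk (RingHom.ker ε ^ (k + 1)) (OmegaSh.idealSect (f.ker ^ k) U s) : GrSec.Q ε (k + 1))
    rw [Omega57.idealSect_smul, Algebra.smul_def]
    show _ = Ideal.Quotient.mk _ (algebraMap Γ(Y, f ⁻¹ᵁ U) Γ(X, U) (ε r)) * _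
    rw [← map_mul, Ideal.Quotient.eq, pow_succ']
    rw [← sub_mul]
    refine Ideal.mul_mem_mul ?_ (hmem s)
    rw [RingHom.mem_ker, map_sub, AlgHom.commutes]
    exact sub_self _
  refine GrSec.flat_gr ε d (fun j => ⟨fun hj => ?_, fun hj => ?_⟩) ?_
  · refine grSect_eq_zero_of_mem_pow f k hU _ ?_
    rw [hsect, ker_chartAug g f hf hU hUg]
    exact hj
  · have h1 := hl (sect j)
    rw [res_self (M := (Scheme.Modules.pullback f).obj M)] at h1
    have h2 : PrinPart.grSect f k U (sect j) = 0 := hj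
    rw [show OmegaSh.pullSect f M U (sect j) = PrinPart.grSect f k U (sect j) from rfl, h2, map_zero] at h1
    have h3 := congrArg Subtype.val h1.symm
    change (Ideal.Quotient.mk _ (OmegaSh.idealSect (f.ker ^ k) U (sect j)) : GrSec.Q ε (k + 1)) = 0 at h3
    rw [hsect] at h3
    exact Ideal.Quotient.eq_zero_iff_mem.1 h3
  · intro y
    have hy : y ∈ Submodule.span Γ(Y, f ⁻¹ᵁ U) (Set.range fun m : Γ(M, U) =>
        res (PrinPart.grMod f k) le_rfl (OmegaSh.pullSect f M U m)) :=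
      (SchBasics.span_pullSect f M hV hU le_rfl).ge trivial
    refine (Submodule.span_le.2 ?_ hy : y ∈ LinearMap.range d)
    rintro _ ⟨m, rfl⟩
    refine ⟨⟨_, hmem m⟩, ?_⟩
    show PrinPart.grSect f k U (sect _) = _
    rw [← huniq ⟨_, hmem m⟩ m rfl]
    exact (res_self (M := PrinPart.grMod f k) _).symm

variable {g f}

include hf in
theorem exists_section_chart {Y' X' : Scheme.{u}} {u : Y' ⟶ Y} {v : X' ⟶ X} {g' : X' ⟶ Y'}
    (hsq : IsPullback v g' g u) {f' : Y' ⟶ X'} (hf' : f' ≫ g' = 𝟙 Y') (hf'v : f' ≫ v = u ≫ f)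
    (O : Y'.Opens) (p : Y') (hp : p ∈ O) :
    ∃ (U : X.Opens) (P : Y'.Opens) (W : X'.Opens), IsAffineOpen U ∧ U ≤ g ⁻¹ᵁ (f ⁻¹ᵁ U) ∧ IsAffineOpen P ∧
      IsAffineOpen W ∧ W = v ⁻¹ᵁ U ⊓ g' ⁻¹ᵁ P ∧ P ≤ u ⁻¹ᵁ (f ⁻¹ᵁ U) ∧ f' ⁻¹ᵁ W = P ∧ p ∈ P ∧ P ≤ O := by
  obtain ⟨T, hT, hzT, -⟩ := exists_isAffineOpen_mem_and_subset (X := Y) (x := u p) (U := ⊤) trivial
  have hxT : f (u p) ∈ g ⁻¹ᵁ T := by
    show g (f (u p)) ∈ T
    rwa [← Scheme.Hom.comp_apply, hf]
  obtain ⟨V, hV, hxV, hVT⟩ := exists_isAffineOpen_mem_and_subset hxT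
  obtain ⟨a, haV, hza⟩ := hT.exists_basicOpen_le (V := f ⁻¹ᵁ V) ⟨u p, hxV⟩ hzT
  let U := X.basicOpen (g.appLE T V hVT a)
  have hUeq : U = V ⊓ g ⁻¹ᵁ Y.basicOpen a := Scheme.basicOpen_appLE g _ _ hVT a
  have hfU : f ⁻¹ᵁ U = Y.basicOpen a := by
    refine le_antisymm (fun y hy => ?_) (fun y hy => ?_)
    · have h2 : g (f y) ∈ Y.basicOpen a := (hUeq.le hy).2
      rwa [← Scheme.Hom.comp_apply, hf] at h2
    · refine hUeq.ge ⟨haV hy, ?_⟩
      show g (f y) ∈ Y.basicOpen a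
      rwa [← Scheme.Hom.comp_apply, hf]
  have hU : IsAffineOpen U := hV.basicOpen _
  have hUg : U ≤ g ⁻¹ᵁ (f ⁻¹ᵁ U) := by rw [hfU]; exact hUeq.le.trans inf_le_right
  obtain ⟨P, hP, hpP, hPle⟩ := exists_isAffineOpen_mem_and_subset
    (show p ∈ O ⊓ u ⁻¹ᵁ (f ⁻¹ᵁ U) from ⟨hp, hfU.ge hza⟩)
  have hPu : P ≤ u ⁻¹ᵁ (f ⁻¹ᵁ U) := fun y hy => (hPle hy).2
  let W := v ⁻¹ᵁ U ⊓ g' ⁻¹ᵁ P
  have hWP : f' ⁻¹ᵁ W = P := by
    refine le_antisymm (fun y hy => ?_) (fun y hy => ⟨?_, ?_⟩)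
    · have h2 : g' (f' y) ∈ P := hy.2
      rwa [← Scheme.Hom.comp_apply, hf'] at h2
    · show v (f' y) ∈ U
      rw [← Scheme.Hom.comp_apply, hf'v, Scheme.Hom.comp_apply]
      exact hPu hy
    · show g' (f' y) ∈ P
      rwa [← Scheme.Hom.comp_apply, hf']
  refine ⟨U, P, W, hU, hUg, hP, ?_, rfl, hPu, hWP, hpP, fun y hy => (hPle hy).1⟩
  haveI : IsAffine (U : Scheme.{u}) := hU
  haveI : IsAffine (P : Scheme.{u}) := hP
  haveI : IsAffine ((f ⁻¹ᵁ U) : Scheme.{u}) := hU.preimage f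
  exact .of_isIso (Scheme.Hom.isPullback_resLE hsq hPu hUg (rfl : W = _)).isoPullback.hom

include hf in
theorem isIso_grMap_section {Y' X' : Scheme.{u}} {u : Y' ⟶ Y} {v : X' ⟶ X} {g' : X' ⟶ Y'}
    (hsq : IsPullback v g' g u) {f' : Y' ⟶ X'} (hf' : f' ≫ g' = 𝟙 Y') (hf'v : f' ≫ v = u ≫ f) (n : ℕ)
    (hQ : ∀ (U : X.Opens) (_ : IsAffineOpen U) (hUg : U ≤ g ⁻¹ᵁ (f ⁻¹ᵁ U)),
      letI := (g.appLE (f ⁻¹ᵁ U) U hUg).hom.toAlgebra
      Module.Flat Γ(Y, f ⁻¹ᵁ U) (GrSec.Q (chartAug g f hf hUg) n))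
    {φ : (Scheme.Modules.pullback u).obj (PrinPart.grMod f n) ⟶ PrinPart.grMod f' n}
    (hφ : PrinPart.IsGrMap f' f v u n φ) : IsIso φ := by
  have hsq2 : IsPullback u f' f v := by
    refine (IsPullback.of_right (h₁₁ := f') (h₁₂ := g') (h₂₁ := f) (h₂₂ := g) (v₁₁ := u) (v₁₂ := v) (v₁₃ := u)
      ?_ hf'v hsq.flip).flip
    haveI : IsIso (f' ≫ g') := by rw [hf']; infer_instance
    haveI : IsIso (f ≫ g) := by rw [hf]; infer_instance
    exact IsPullback.of_horiz_isIso ⟨by rw [hf', hf, Category.id_comp, Category.comp_id]⟩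
  haveI : IsClosedImmersion f' := MorphismProperty.of_isPullback hsq2 ‹IsClosedImmersion f›
  haveI := epi_grMap f v u f' hsq2 n φ hφ
  let I := f.ker ^ n
  let I' := f'.ker ^ n
  let M := ClSub.idealMod I'
  let M' := ClSub.idealMod I
  haveI : M.IsQuasicoherent := Omega57.isQuasicoherent_idealMod _
  haveI : M'.IsQuasicoherent := Omega57.isQuasicoherent_idealMod _
  haveI : (PrinPart.grMod f n).IsQuasicoherent := QCPull72.isQuasicoherent_pullback f M'
  have : Mono φ := Om3.mono_of_basis φ fun O p hp => by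
    obtain ⟨U, P, W, hU, hUg, hP, hW, hWdef, hPu, hWP, hpP, hPO⟩ := exists_section_chart hf hsq hf' hf'v O p hp
    refine ⟨P, hpP, hPO, ?_⟩
    have eWU : W ≤ v ⁻¹ᵁ U := hWdef.le.trans inf_le_left
    have eWP : W ≤ g' ⁻¹ᵁ P := hWdef.le.trans inf_le_right
    have ePW : P ≤ f' ⁻¹ᵁ W := hWP.ge
    let e' : Γ(X', W) →+* Γ(Y', P) := (f'.appLE W P ePW).hom
    have hfU : IsAffineOpen (f ⁻¹ᵁ U) := hU.preimage f
    have hpush := (isIso_pushoutSection_iff hsq hPu hUg hWdef).mp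
      (isIso_pushoutSection_of_isAffineOpen hsq hPu hUg hWdef hfU hP hU)
    letI := (g.appLE (f ⁻¹ᵁ U) U hUg).hom.toAlgebra
    letI := (u.appLE (f ⁻¹ᵁ U) P hPu).hom.toAlgebra
    let ε := chartAug g f hf hUg
    haveI := hQ U hU hUg
    let T := Γ(Y', P) ⊗[Γ(Y, f ⁻¹ᵁ U)] GrSec.Q ε (n + 1)
    let l₁ : Γ(X, U) ⟶ CommRingCat.of T := CommRingCat.ofHom
      ((Algebra.TensorProduct.includeRight (R := Γ(Y, f ⁻¹ᵁ U)) (A := Γ(Y', P))
        (B := GrSec.Q ε (n + 1))).toRingHom.comp (Ideal.Quotient.mk _))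
    let l₂ : Γ(Y', P) ⟶ CommRingCat.of T := CommRingCat.ofHom
      (Algebra.TensorProduct.includeLeftRingHom)
    have hw : g.appLE (f ⁻¹ᵁ U) U hUg ≫ l₁ = u.appLE (f ⁻¹ᵁ U) P hPu ≫ l₂ := CommRingCat.hom_ext <|
      RingHom.ext fun b => ((Algebra.TensorProduct.includeRight (R := Γ(Y, f ⁻¹ᵁ U)) (A := Γ(Y', P))
        (B := GrSec.Q ε (n + 1))).commutes b).trans rfl
    let π : Γ(X', W) →+* T := (hpush.desc l₁ l₂ hw).hom
    let a : Γ(X, U) →+* Γ(X', W) := (v.appLE U W eWU).hom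
    have hπ : ∀ x, π (a x) = 1 ⊗ₜ Ideal.Quotient.mk _ x := fun x => congr($(hpush.inl_desc l₁ l₂ hw) x)
    have hea : ∀ x, e' (a x) = u.appLE (f ⁻¹ᵁ U) P hPu (f.app U x) := fun x => by
      show (v.appLE U W eWU ≫ f'.appLE W P ePW) x = (f.app U ≫ u.appLE (f ⁻¹ᵁ U) P hPu) x
      rw [Scheme.Hom.app_eq_appLE, Scheme.Hom.appLE_comp_appLE, Scheme.Hom.appLE_comp_appLE,
        OmegaSh.appLE_congr_hom hf'v]
    have he' : ∀ z, e' z = GrSec.augBC ε n Γ(Y', P) (π z) := by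
      have heq : f'.appLE W P ePW = CommRingCat.ofHom ((GrSec.augBC ε n Γ(Y', P)).toRingHom.comp π) := by
        refine hpush.hom_ext ?_ ?_
        · ext x
          show e' (a x) = GrSec.augBC ε n Γ(Y', P) (π (a x))
          rw [hπ, GrSec.augBC_tmul, one_mul, hea]
          rfl
        · ext x
          show e' (g'.appLE P W eWP x) = GrSec.augBC ε n Γ(Y', P) (π (g'.appLE P W eWP x))
          rw [show π (g'.appLE P W eWP x) = l₂ x from congr($(hpush.inr_desc l₁ l₂ hw) x)]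
          show (g'.appLE P W eWP ≫ f'.appLE W P ePW) x = x * algebraMap _ Γ(Y', P) (GrSec.aug ε n 1)
          rw [map_one, map_one, mul_one, Scheme.Hom.appLE_comp_appLE, OmegaSh.id_appLE_eq_id hf']
          rfl
      exact fun z => congr($heq z)
    -- the graded class of an element of the ideal
    have hk := ker_chartAug g f hf hU hUg n
    let G := (Scheme.Modules.pullback u).obj (PrinPart.grMod f n)
    let dsec : Γ(M', U) → Γ(G, P) := fun m => res G hPu
      (OmegaSh.pullSect u (PrinPart.grMod f n) (f ⁻¹ᵁ U) (PrinPart.grSect f n U m))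
    letI : Module Γ(Y, f ⁻¹ᵁ U) Γ(G, P) := Module.compHom _ (u.appLE (f ⁻¹ᵁ U) P hPu).hom
    haveI : IsScalarTower Γ(Y, f ⁻¹ᵁ U) Γ(Y', P) Γ(G, P) := IsScalarTower.of_algebraMap_smul fun _ _ => rfl
    have hdsmul : ∀ (r : Γ(X, U)) m, dsec (r • m) = u.appLE (f ⁻¹ᵁ U) P hPu (f.app U r) • dsec m := fun r m => by
      show res G hPu _ = _
      refine Eq.trans (congrArg (fun t => res G hPu (OmegaSh.pullSect u (PrinPart.grMod f n) (f ⁻¹ᵁ U) t))
          (OmegaSh.pullSect_smul f M' U r m)) ?_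
      refine Eq.trans (congrArg (res G hPu)
          (OmegaSh.pullSect_smul u (PrinPart.grMod f n) (f ⁻¹ᵁ U) (f.app U r) _)) ?_
      exact res_smul (M := G) _ _ _
    have hdadd : ∀ m m', dsec (m + m') = dsec m + dsec m' := fun m m' => by
      show res G hPu _ = _
      rw [map_add, map_add, res_add]
    have hsect : ∀ j : ↥(RingHom.ker ε ^ n), ∃ s : Γ(M', U), OmegaSh.idealSect I U s = j :=
      fun j => Curves2.exists_idealSect_of_mem I ⟨U, hU⟩ (hk.ge j.2)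
    choose sect hsect using hsect
    have huniq : ∀ (j : ↥(RingHom.ker ε ^ n)) s, OmegaSh.idealSect I U s = (j : Γ(X, U)) → s = sect j := fun j s h =>
      Omega57.idealSect_injective _ _ (h.trans (hsect j).symm)
    let d : ↥(RingHom.ker ε ^ n) →ₗ[Γ(Y, f ⁻¹ᵁ U)] Γ(G, P) :=
      { toFun := fun j => dsec (sect j)
        map_add' := fun i j => by
          rw [← huniq (i + j) (sect i + sect j) (by rw [map_add, hsect, hsect]; rfl), hdadd]
        map_smul' := fun b j => by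
          rw [← huniq (b • j) (algebraMap Γ(Y, f ⁻¹ᵁ U) Γ(X, U) b • sect j)
            (by rw [Omega57.idealSect_smul, hsect]
                exact (Algebra.smul_def b (j : Γ(X, U))).symm), hdsmul]
          show u.appLE _ _ hPu (ε (algebraMap _ _ b)) • _ = b • _
          rw [AlgHom.commutes]
          rfl }
    obtain ⟨γ, hγadd, hγmul, hγd⟩ := GrSec.exists_gr_descent ε a π hπ e' he' d fun j hj => by
      show res G hPu _ = 0
      rw [grSect_eq_zero_of_mem_pow f n hU _ (by rw [hsect, ker_chartAug g f hf hU hUg]; exact hj),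
        map_zero, QC70.res_zero]
    have hmem : ∀ s : Γ(M, W), OmegaSh.idealSect I' W s ∈ (RingHom.ker ε ^ n).map a := fun s => by
      rw [← hk, ← MP99.ideal_comap I v ⟨U, hU⟩ ⟨W, hW⟩ eWU, comap_ker_pow hsq2]
      exact Curves2.idealSect_mem_ideal I' ⟨W, hW⟩ s
    obtain ⟨ℓ, hℓ⟩ := SchBasics.exists_linear_pullSect f' M G hP hW ePW
      (AddMonoidHom.mk' (fun s => γ (OmegaSh.idealSect I' W s)) fun s t => by
        rw [map_add]; exact hγadd _ _ (hmem s) (hmem t))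
      fun r s => by
        show γ (OmegaSh.idealSect I' W (r • s)) = _
        rw [Omega57.idealSect_smul]
        exact hγmul r _ (hmem s)
    have hℓd : ∀ m, ℓ (φ.app P (dsec m)) = dsec m := fun m => by
      have hm : OmegaSh.idealSect I U m ∈ RingHom.ker ε ^ n :=
        hk.le (Curves2.idealSect_mem_ideal I ⟨U, hU⟩ m)
      obtain ⟨s', hs'⟩ : ∃ s' : Γ(M, v ⁻¹ᵁ U),
          OmegaSh.idealSect I' (v ⁻¹ᵁ U) s' = v.app U (OmegaSh.idealSect I U m) := by
        have hI : I.comap v = I' := comap_ker_pow hsq2 n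
        let w := Scheme.IdealSheafData.subschemeMap I' I v (Scheme.IdealSheafData.le_map_iff_comap_le.2 hI.le)
        have hw : w ≫ I.subschemeι = I'.subschemeι ≫ v := Scheme.IdealSheafData.subschemeMap_subschemeι _ _ _ _
        refine Omega57.exists_idealSect_eq I' _ _ ?_
        change (v.app U ≫ I'.subschemeι.app (v ⁻¹ᵁ U)) _ = 0
        rw [← Scheme.Hom.comp_app, Scheme.Hom.congr_app hw.symm U, Scheme.Hom.comp_app, ConcreteCategory.comp_apply,
          ConcreteCategory.comp_apply, Omega57.subschemeι_idealSect I U m, map_zero, map_zero]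
      have hval : φ.app P (dsec m) = res (PrinPart.grMod f' n) ePW (PrinPart.grSect f' n W (res M eWU s')) := by
        show φ.app P (res G hPu _) = _
        rw [app_res φ]
        refine (hφ.2 U m s' hs' P hPu (ePW.trans (f'.preimage_mono eWU))).trans ?_
        refine Eq.trans ?_ (congrArg (res (PrinPart.grMod f' n) ePW) (OmegaSh.pullSect_map f' M eWU s')).symm
        exact (res_res (M := PrinPart.grMod f' n) (f'.preimage_mono eWU) ePW _).symm
      rw [hval]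
      refine (hℓ _).trans ?_
      show γ (OmegaSh.idealSect I' W (res M eWU s')) = _
      rw [Curves2.idealSect_res, hs']
      refine (hγd ⟨_, hm⟩).trans ?_
      show dsec (sect ⟨_, hm⟩) = dsec m
      rw [← huniq ⟨_, hm⟩ m rfl]
    have hfP : ∀ x, x ∈ LinearMap.ker ((ℓ.comp (appLin φ P)) - LinearMap.id) := fun x => by
      have hx : x ∈ Submodule.span Γ(Y', P) (Set.range fun y => res G hPu
          (OmegaSh.pullSect u (PrinPart.grMod f n) (f ⁻¹ᵁ U) y)) :=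
        (SchBasics.span_pullSect u (PrinPart.grMod f n) hP hfU hPu).ge trivial
      refine Submodule.span_le.2 ?_ hx
      rintro _ ⟨c, rfl⟩
      have hc : c ∈ Submodule.span Γ(Y, f ⁻¹ᵁ U) (Set.range fun m : Γ(M', U) =>
          res (PrinPart.grMod f n) le_rfl (OmegaSh.pullSect f M' U m)) :=
        (SchBasics.span_pullSect f M' hfU hU le_rfl).ge trivial
      show ℓ (φ.app P (res G hPu (OmegaSh.pullSect u (PrinPart.grMod f n) (f ⁻¹ᵁ U) c))) - res G hPu _ = 0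
      induction hc using Submodule.span_induction with
      | mem y hy =>
        obtain ⟨m, rfl⟩ := hy
        dsimp only
        rw [res_self (M := PrinPart.grMod f n)]
        exact sub_eq_zero.2 (hℓd m)
      | zero => rw [map_zero, QC70.res_zero, map_zero, map_zero, sub_zero]
      | add y z _ _ hy hz =>
        rw [map_add, res_add, map_add, map_add, add_sub_add_comm, hy, hz, add_zero]
      | smul r y _ hy =>
        rw [OmegaSh.pullSect_smul, res_smul, Scheme.Modules.Hom.app_smul, map_smul, ← smul_sub, hy, smul_zero]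
    intro x y hxy
    have h1 : ℓ (φ.app P x) - x = 0 := hfP x
    have h2 : ℓ (φ.app P y) - y = 0 := hfP y
    rw [sub_eq_zero] at h1 h2
    rw [← h1, ← h2, hxy]
  exact isIso_of_mono_of_epi φ

end Groth.Agent.PP93
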