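import Mathlib
import Groth.Agent.CAlgH2.UnivInj

/-!
Graded pieces of the ideal of an augmentation, and their base change.
-/

set_option autoImplicit false

noncomputable section

universe u

open TensorProduct

namespace Groth.Agent.PP93.GrSec

variable {B A : Type u} [CommRing B] [CommRing A] [Algebra B A] (ε : A →ₐ[B] B)

/-- The augmentation ideal. -/
abbrev J : Ideal A := RingHom.ker ε

/-- The quotient by a power of the augmentation ideal. -/
abbrev Q (m : ℕ) : Type u := A ⧸ J ε ^ m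

/-- The transition between consecutive quotients. -/
def step (n : ℕ) : Q ε (n + 1) →ₐ[B] Q ε n :=
  Ideal.Quotient.factorₐ B (Ideal.pow_le_pow_right n.le_succ)

lemma step_mk (n : ℕ) (x : A) : step ε n (Ideal.Quotient.mk _ x) = Ideal.Quotient.mk _ x := rfl

/-- The graded piece, as the kernel of the transition. -/
abbrev gr (n : ℕ) : Submodule B (Q ε (n + 1)) := LinearMap.ker (step ε n).toLinearMap

lemma mem_gr_iff {n : ℕ} (x : A) : (Ideal.Quotient.mk _ x : Q ε (n + 1)) ∈ gr ε n ↔ x ∈ J ε ^ n :=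
  LinearMap.mem_ker.trans ((Ideal.Quotient.eq_zero_iff_mem (I := J ε ^ n)))

lemma exact_gr (n : ℕ) : Function.Exact (gr ε n).subtype (step ε n).toLinearMap :=
  LinearMap.exact_subtype_ker_map _

lemma step_surjective (n : ℕ) : Function.Surjective (step ε n).toLinearMap := fun q => by
  obtain ⟨x, rfl⟩ := Ideal.Quotient.mk_surjective q
  exact ⟨Ideal.Quotient.mk _ x, rfl⟩

theorem flat_Q : ∀ n : ℕ, (∀ k < n, Module.Flat B (gr ε k)) → Module.Flat B (Q ε n)
  | 0, _ => by
    haveI : Subsingleton (Q ε 0) :=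
      Ideal.Quotient.subsingleton_iff.2 (by rw [pow_zero, Ideal.one_eq_top])
    infer_instance
  | n + 1, h => by
    haveI := h n n.lt_succ_self
    haveI := flat_Q n fun k hk => h k (hk.trans n.lt_succ_self)
    exact CAlgH2.flat_middle Subtype.val_injective (exact_gr ε n) (step_surjective ε n)

theorem flat_Q_one : Module.Flat B (Q ε 1) := by
  have hs : Function.Surjective ε := fun b => ⟨algebraMap B A b, ε.commutes b⟩
  let e : (A ⧸ RingHom.ker ε) ≃ₐ[B] B := Ideal.quotientKerAlgEquivOfSurjective hs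
  let e1 : Q ε 1 ≃ₐ[B] A ⧸ RingHom.ker ε :=
    Ideal.quotientEquivAlgOfEq B (pow_one (RingHom.ker ε) : J ε ^ 1 = _)
  exact Module.Flat.of_linearEquiv (e1.trans e).toLinearEquiv

section Lift

variable {n : ℕ} {G : Type u} [AddCommGroup G] [Module B G] (d : ↥(J ε ^ n) →ₗ[B] G)

theorem exists_factor (hd : ∀ j : ↥(J ε ^ n), (j : A) ∈ J ε ^ (n + 1) → d j = 0) :
    ∃ dbar : gr ε n →ₗ[B] G, ∀ (j : ↥(J ε ^ n)) (k : gr ε n),
      (k : Q ε (n + 1)) = Ideal.Quotient.mk _ (j : A) → dbar k = d j := by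
  have hex : ∀ k : gr ε n, ∃ j : ↥(J ε ^ n), (k : Q ε (n + 1)) = Ideal.Quotient.mk _ (j : A) := fun k => by
    obtain ⟨x, hx⟩ := Ideal.Quotient.mk_surjective (k : Q ε (n + 1))
    exact ⟨⟨x, (mem_gr_iff ε x).1 (hx ▸ k.2)⟩, hx.symm⟩
  choose c hc using hex
  have key : ∀ (j : ↥(J ε ^ n)) (k : gr ε n),
      (k : Q ε (n + 1)) = Ideal.Quotient.mk _ (j : A) → d (c k) = d j := fun j k h => by
    rw [← sub_eq_zero, ← map_sub]
    refine hd _ ?_
    rw [AddSubgroupClass.coe_sub, ← Ideal.Quotient.eq, ← hc, h]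
  refine ⟨{ toFun := fun k => d (c k)
            map_add' := fun k k' => by
              rw [key (c k + c k') (k + k') (by push_cast; rw [map_add, hc k, hc k']), map_add]
            map_smul' := fun b k => by
              rw [key (b • c k) (b • k) ?_, map_smul]
              · rfl
              · rw [Submodule.coe_smul, hc k]
                rfl }, key⟩

theorem flat_gr [Module.Flat B G] (hd : ∀ j : ↥(J ε ^ n), (j : A) ∈ J ε ^ (n + 1) ↔ d j = 0)
    (hsurj : Function.Surjective d) : Module.Flat B (gr ε n) := by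
  obtain ⟨dbar, hdbar⟩ := exists_factor ε d fun j h => (hd j).1 h
  have hb : Function.Bijective dbar := by
    refine ⟨?_, fun g => ?_⟩
    · rw [injective_iff_map_eq_zero]
      intro k hk
      obtain ⟨x, hx⟩ := Ideal.Quotient.mk_surjective (k : Q ε (n + 1))
      rw [hdbar ⟨x, (mem_gr_iff ε x).1 (hx ▸ k.2)⟩ k hx.symm] at hk
      refine Subtype.ext ?_
      rw [← hx]
      exact Ideal.Quotient.eq_zero_iff_mem.2 ((hd _).2 hk)
    · obtain ⟨j, rfl⟩ := hsurj g
      exact ⟨⟨Ideal.Quotient.mk _ (j : A), (mem_gr_iff ε _).2 j.2⟩, hdbar j _ rfl⟩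
  exact Module.Flat.of_linearEquiv (LinearEquiv.ofBijective dbar hb)

end Lift

/-- The augmentation of a quotient by a positive power. -/
def aug (n : ℕ) : Q ε (n + 1) →ₐ[B] B :=
  Ideal.Quotient.liftₐ _ ε fun _ hx => Ideal.pow_le_self n.succ_ne_zero hx

/-- The augmentation of the base change. -/
def augBC (n : ℕ) (B' : Type u) [CommRing B'] [Algebra B B'] : B' ⊗[B] Q ε (n + 1) →ₐ[B'] B' :=
  Algebra.TensorProduct.lift (AlgHom.id B' B') ((Algebra.ofId B B').comp (aug ε n)) fun _ _ => Commute.all _ _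

theorem augBC_tmul (n : ℕ) (B' : Type u) [CommRing B'] [Algebra B B'] (b : B') (x : A) :
    augBC ε n B' (b ⊗ₜ Ideal.Quotient.mk _ x) = b * algebraMap B B' (ε x) := rfl

lemma mul_lTensor (n : ℕ) (B' : Type u) [CommRing B'] [Algebra B B'] (z : B' ⊗[B] Q ε (n + 1))
    (x : B' ⊗[B] gr ε n) :
    z * (gr ε n).subtype.lTensor B' x = (gr ε n).subtype.lTensor B' (augBC ε n B' z • x) := by
  induction z using TensorProduct.induction_on with
  | zero => rw [zero_mul, map_zero, zero_smul, map_zero]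
  | add a b ha hb => rw [add_mul, ha, hb, map_add, add_smul, map_add]
  | tmul b q =>
    induction x using TensorProduct.induction_on with
    | zero => rw [smul_zero, map_zero, mul_zero]
    | add u v hu hv => rw [map_add, mul_add, hu, hv, smul_add, map_add]
    | tmul c k =>
      obtain ⟨a, rfl⟩ := Ideal.Quotient.mk_surjective q
      obtain ⟨j, hj⟩ := Ideal.Quotient.mk_surjective (k : Q ε (n + 1))
      have hjn : j ∈ J ε ^ n := (mem_gr_iff ε j).1 (hj ▸ k.2)
      have hak : (Ideal.Quotient.mk _ a : Q ε (n + 1)) * k = ε a • (k : Q ε (n + 1)) := by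
        rw [← hj, ← map_mul, Algebra.smul_def]
        show Ideal.Quotient.mk _ (a * j) = Ideal.Quotient.mk _ (algebraMap B A (ε a)) * _
        rw [← map_mul, Ideal.Quotient.eq, ← sub_mul, pow_succ']
        refine Ideal.mul_mem_mul ?_ hjn
        rw [RingHom.mem_ker, map_sub, AlgHom.commutes]
        exact sub_self _
      rw [augBC_tmul, TensorProduct.smul_tmul', LinearMap.lTensor_tmul, LinearMap.lTensor_tmul,
        Algebra.TensorProduct.tmul_mul_tmul, Submodule.subtype_apply, hak, smul_eq_mul, ← TensorProduct.smul_tmul,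
        Algebra.smul_def]
      congr 1
      ring

theorem exists_gr_descent {n : ℕ} [Module.Flat B (Q ε n)] {B' A' : Type u} [CommRing B'] [Algebra B B']
    [CommRing A'] (a : A →+* A') (π : A' →+* B' ⊗[B] Q ε (n + 1))
    (hπ : ∀ x, π (a x) = 1 ⊗ₜ Ideal.Quotient.mk _ x) (e' : A' →+* B') (he' : ∀ z, e' z = augBC ε n B' (π z))
    {G : Type u} [AddCommGroup G] [Module B' G] [Module B G] [IsScalarTower B B' G]
    (d : ↥(J ε ^ n) →ₗ[B] G) (hd : ∀ j : ↥(J ε ^ n), (j : A) ∈ J ε ^ (n + 1) → d j = 0) :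
    ∃ γ : A' → G,
      (∀ s t, s ∈ (J ε ^ n).map a → t ∈ (J ε ^ n).map a → γ (s + t) = γ s + γ t) ∧
      (∀ r s, s ∈ (J ε ^ n).map a → γ (r * s) = e' r • γ s) ∧
      ∀ j : ↥(J ε ^ n), γ (a j) = d j := by
  classical
  obtain ⟨dbar, hdbar⟩ := exists_factor ε d hd
  let ι := (gr ε n).subtype.lTensor B'
  have hι : Function.Injective ι :=
    LinearMap.lTensor_injective_of_exact_of_flat (step ε n).toLinearMap (step_surjective ε n)
      (gr ε n).subtype Subtype.val_injective (exact_gr ε n) B'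
  have hex : ∀ s ∈ (J ε ^ n).map a, ∃ x, ι x = π s := by
    intro s hs
    induction hs using Submodule.span_induction with
    | mem y hy =>
      obtain ⟨j, hj, rfl⟩ := hy
      exact ⟨1 ⊗ₜ ⟨Ideal.Quotient.mk _ j, (mem_gr_iff ε j).2 hj⟩, (hπ j).symm⟩
    | zero => exact ⟨0, by rw [map_zero, map_zero]⟩
    | add y z _ _ hy hz =>
      obtain ⟨x, hx⟩ := hy
      obtain ⟨x', hx'⟩ := hz
      exact ⟨x + x', by rw [map_add, map_add, hx, hx']⟩
    | smul r y _ hy =>
      obtain ⟨x, hx⟩ := hy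
      exact ⟨augBC ε n B' (π r) • x, by rw [smul_eq_mul, map_mul, ← hx, mul_lTensor]⟩
  let inv : A' → B' ⊗[B] gr ε n := fun s => if h : ∃ x, ι x = π s then h.choose else 0
  have hinv : ∀ s ∈ (J ε ^ n).map a, ι (inv s) = π s := fun s hs => by
    simp only [inv, dif_pos (hex s hs)]
    exact (hex s hs).choose_spec
  refine ⟨fun s => dbar.liftBaseChange B' (inv s), fun s t hs ht => ?_, fun r s hs => ?_, fun j => ?_⟩
  · dsimp only
    rw [← map_add]
    congr 1
    apply hι
    rw [hinv _ (add_mem hs ht), map_add ι, hinv s hs, hinv t ht, map_add]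
  · dsimp only
    rw [he', ← map_smul]
    congr 1
    apply hι
    rw [hinv _ (Ideal.mul_mem_left _ _ hs), map_mul, ← hinv s hs, mul_lTensor]
  · have h1 : inv (a (j : A)) = 1 ⊗ₜ ⟨Ideal.Quotient.mk _ (j : A), (mem_gr_iff ε _).2 j.2⟩ :=
      hι (by rw [hinv _ (Ideal.mem_map_of_mem _ j.2), hπ]; rfl)
    dsimp only
    rw [h1, LinearMap.liftBaseChange_tmul, one_smul]
    exact hdbar j _ rfl

end Groth.Agent.PP93.GrSec
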