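import Groth.Agent.PP93.Nbhd
import Mathlib.RingTheory.Kaehler.Basic

/-!
Functions on the infinitesimal neighbourhood over an affine open: the tensor square modulo a power of
the diagonal ideal.
-/

set_option autoImplicit false
set_option backward.isDefEq.respectTransparency false

noncomputable section

universe u

open CategoryTheory Limits AlgebraicGeometry TopologicalSpace Opposite TensorProduct

namespace Groth.Agent.PP93

variable {X S : Scheme.{u}} (f : X ⟶ S)

/-- A ring isomorphism matches powers of ideals. -/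
theorem mem_pow_iff_of_bijective {A B : Type*} [CommRing A] [CommRing B] (e : A →+* B)
    (he : Function.Bijective e) (I : Ideal A) (J : Ideal B) (h : J.comap e = I) (m : ℕ) (x : A) :
    e x ∈ J ^ m ↔ x ∈ I ^ m := by
  have h1 : I.map e = J := by rw [← h, Ideal.map_comap_of_surjective e he.2]
  rw [← h1, ← Ideal.map_pow]
  refine ⟨fun hx => ?_, Ideal.mem_map_of_mem e⟩
  obtain ⟨y, hy, he'⟩ := (Ideal.mem_map_iff_of_surjective e he.2).1 hx
  exact he.1 he' ▸ hy

/-- The tensor square maps onto the functions on the neighbourhood, with kernel a power of the diagonal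
ideal. -/
theorem exists_nbhdHom (n : ℕ) {U : X.Opens} {V : S.Opens} (hU : IsAffineOpen U) (hV : IsAffineOpen V)
    (h : U ≤ f ⁻¹ᵁ V) :
    letI := (f.appLE V U h).hom.toAlgebra
    ∃ r : Γ(X, U) ⊗[Γ(S, V)] Γ(X, U) →+* Γ(PrinPart.nbhd f n, PrinPart.pr1 f n ⁻¹ᵁ U),
      Function.Surjective r ∧
      (∀ a b, r (a ⊗ₜ b) = (PrinPart.pr1 f n).app U a *
        (PrinPart.pr2 f n).appLE U (PrinPart.pr1 f n ⁻¹ᵁ U) (PrinPart.preimage_pr1 f n U).le b) ∧
      ∀ z, r z = 0 ↔ z ∈ KaehlerDifferential.ideal Γ(S, V) Γ(X, U) ^ (n + 1) := by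
  letI := (f.appLE V U h).hom.toAlgebra
  let W := OmegaSh.diagNbhd f U
  let C := (pullback.diagonal f).coborderRange
  obtain ⟨E, hE1, hE2⟩ := Omega57.exists_nbhdRingEquiv f h hU hV
  have hpre := preimage_nbhdι_diagNbhd f n U
  let q : Γ(pullback f f, W) →+* Γ(PrinPart.nbhd f n, PrinPart.pr1 f n ⁻¹ᵁ U) :=
    ((PrinPart.nbhdι f n).appLE W (PrinPart.pr1 f n ⁻¹ᵁ U) hpre.ge).hom
  have hq : ∀ x, q x = 0 ↔ (PrinPart.nbhdι f n).app W x = 0 := by
    intro x
    refine ⟨fun hx => ?_, fun hx => ?_⟩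
    · have := congrArg ((PrinPart.nbhd f n).presheaf.map (eqToHom hpre).op) hx
      rw [map_zero] at this
      change ((PrinPart.nbhdι f n).appLE W _ hpre.ge ≫ _) x = 0 at this
      rw [Scheme.Hom.appLE_map, Scheme.Hom.appLE_eq_app] at this
      exact this
    · change ((PrinPart.nbhd f n).presheaf.map _) ((PrinPart.nbhdι f n).app W x) = 0
      rw [hx, map_zero]
  have hWC : W ≤ C.ι.opensRange := by
    rw [Scheme.Opens.opensRange_ι]; exact diagNbhd_le_coborderRange f hU hV h
  have hW : IsAffineOpen W := Omega57.isAffineOpen_diagNbhd f hU hV h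
  let W' : (C : Scheme.{u}).affineOpens := ⟨C.ι ⁻¹ᵁ W, hW.preimage_of_isOpenImmersion C.ι hWC⟩
  have he : Function.Bijective (C.ι.app W).hom := by
    have := C.ι.isIso_app W hWC
    exact ConcreteCategory.bijective_of_isIso (C.ι.app W)
  let Δ := pullback.diagonal f
  have hge' : U ≤ PrinPart.diagCl f ⁻¹ᵁ (C.ι ⁻¹ᵁ W) := fun x hx => by
    change C.ι (PrinPart.diagCl f x) ∈ W
    rw [← Scheme.Hom.comp_apply, Scheme.Hom.liftCoborder_ι]
    exact OmegaSh.le_preimage_diagNbhd f U hx
  let ψ : Γ(pullback f f, W) →+* Γ(X, U) := (Δ.appLE W U (OmegaSh.le_preimage_diagNbhd f U)).hom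
  have hle : Δ ⁻¹ᵁ W ≤ U := OmegaSh.diagonal_preimage_le f le_rfl
  have hge : U ≤ Δ ⁻¹ᵁ W := OmegaSh.le_preimage_diagNbhd f U
  have hker : ((PrinPart.diagCl f).ker.ideal W').comap (C.ι.app W).hom = RingHom.ker ψ := by
    rw [Scheme.Hom.ker_apply, RingHom.comap_ker, ← CommRingCat.hom_comp, ← Scheme.Hom.comp_app]
    ext x
    rw [RingHom.mem_ker, RingHom.mem_ker, Scheme.Hom.congr_app (Scheme.Hom.liftCoborder_ι Δ) W]
    constructor
    · intro hx
      have := congrArg (X.presheaf.map (homOfLE hge').op) hx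
      rw [map_zero, ← ConcreteCategory.comp_apply, Category.assoc, ← Functor.map_comp] at this
      exact this
    · intro hx
      change (X.presheaf.map _) (Δ.app W x) = 0
      have hb : Function.Injective (X.presheaf.map (homOfLE hge).op) := by
        refine Function.LeftInverse.injective (g := X.presheaf.map (homOfLE hle).op) fun y => ?_
        rw [← ConcreteCategory.comp_apply, ← Functor.map_comp]
        erw [X.presheaf.map_id]
        rfl
      rw [show Δ.app W x = 0 from hb (hx.trans (map_zero _).symm), map_zero]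
  have hψ : ∀ x, ψ x = Algebra.TensorProduct.lmul' Γ(S, V) (E x) := by
    have hid : ∀ (p : pullback f f ⟶ X) (hp : Δ ≫ p = 𝟙 X) (e : W ≤ p ⁻¹ᵁ U) (a : Γ(X, U)),
        ψ (p.appLE U W e a) = a := by
      intro p hp e a
      change (p.appLE U W e ≫ Δ.appLE W U hge) a = a
      rw [Scheme.Hom.appLE_comp_appLE, OmegaSh.appLE_congr_hom hp _ (show U ≤ 𝟙 X ⁻¹ᵁ U from le_refl U)]
      simp [Scheme.Hom.appLE]
      erw [X.presheaf.map_id]
      rfl
    intro x
    obtain ⟨t, rfl⟩ := E.symm.surjective x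
    rw [E.apply_symm_apply]
    induction t using TensorProduct.induction_on with
    | zero => simp
    | add x y hx hy => rw [map_add, map_add, map_add, hx, hy]
    | tmul a b =>
      have e : a ⊗ₜ[Γ(S, V)] b = (a ⊗ₜ 1) * (1 ⊗ₜ b) := by simp
      rw [e, ← hE1 a, ← hE2 b, ← map_mul, E.symm_apply_apply, map_mul,
        hid _ (pullback.diagonal_fst f), hid _ (pullback.diagonal_snd f), map_mul, hE1, hE2, map_mul]
      simp
  have hkerE : (KaehlerDifferential.ideal Γ(S, V) Γ(X, U)).comap E.toRingHom = RingHom.ker ψ := by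
    ext x
    rw [Ideal.mem_comap, RingHom.mem_ker (f := ψ), hψ]
    exact RingHom.mem_ker
  refine ⟨q.comp E.symm.toRingHom, ?_, ?_, ?_⟩
  · intro c
    obtain ⟨a, ha⟩ := appLE_diagNbhd_surjective f n hU hV h
      ((PrinPart.nbhd f n).presheaf.map (eqToHom hpre).op c)
    refine ⟨E a, ?_⟩
    rw [RingHom.comp_apply, RingEquiv.toRingHom_eq_coe, RingEquiv.coe_toRingHom, E.symm_apply_apply]
    change ((PrinPart.nbhdι f n).app W ≫ (PrinPart.nbhd f n).presheaf.map _) a = c
    rw [ConcreteCategory.comp_apply, ha, ← ConcreteCategory.comp_apply, ← Functor.map_comp]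
    erw [(PrinPart.nbhd f n).presheaf.map_id]
    rfl
  · intro a b
    have e : a ⊗ₜ[Γ(S, V)] b = (a ⊗ₜ 1) * (1 ⊗ₜ b) := by simp
    rw [RingHom.comp_apply, RingEquiv.toRingHom_eq_coe, RingEquiv.coe_toRingHom, e, ← hE1 a, ← hE2 b,
      ← map_mul, E.symm_apply_apply, map_mul]
    congr 1
    · change ((pullback.fst f f).appLE U W inf_le_left ≫ (PrinPart.nbhdι f n).appLE W _ hpre.ge) a = _
      rw [Scheme.Hom.appLE_comp_appLE, Scheme.Hom.app_eq_appLE]
      rfl
    · change ((pullback.snd f f).appLE U W inf_le_right ≫ (PrinPart.nbhdι f n).appLE W _ hpre.ge) b = _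
      rw [Scheme.Hom.appLE_comp_appLE]
      rfl
  · intro z
    obtain ⟨x, rfl⟩ := E.surjective z
    rw [RingHom.comp_apply, RingEquiv.toRingHom_eq_coe, RingEquiv.coe_toRingHom, E.symm_apply_apply, hq]
    refine Iff.trans ?_ (mem_pow_iff_of_bijective E.toRingHom E.bijective _ _ hkerE (n + 1) x).symm
    refine Iff.trans ?_ (mem_pow_iff_of_bijective _ he _ _ hker (n + 1) x)
    have h2 := SetLike.ext_iff.1 (Scheme.IdealSheafData.ker_subschemeι_app
      ((PrinPart.diagCl f).ker ^ (n + 1)) W') (C.ι.app W x)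
    rw [RingHom.mem_ker] at h2
    exact Iff.trans Iff.rfl h2

end Groth.Agent.PP93
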