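import Groth.Agent.PP93.Ext

/-!
Maps out of the modules of principal parts; the order zero case.
-/

set_option autoImplicit false
set_option backward.isDefEq.respectTransparency false

noncomputable section

universe u

open CategoryTheory Limits AlgebraicGeometry TopologicalSpace Opposite
open Groth.Agent.QC70

namespace Groth.Agent.PP93

variable {X S : Scheme.{u}} (f : X ⟶ S)

/-- The map on principal parts attached to a map `F ⟶ (pr2)_* N`. -/
def liftHom (n : ℕ) (F : X.Modules) (N : (PrinPart.nbhd f n).Modules)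
    (η : F ⟶ (Scheme.Modules.pushforward (PrinPart.pr2 f n)).obj N) :
    PrinPart.PMod f n F ⟶ (Scheme.Modules.pushforward (PrinPart.pr1 f n)).obj N :=
  (Scheme.Modules.pushforward (PrinPart.pr1 f n)).map
    (((Scheme.Modules.pullbackPushforwardAdjunction (PrinPart.pr2 f n)).homEquiv _ _).symm η)

theorem liftHom_dP (n : ℕ) (F : X.Modules) (N : (PrinPart.nbhd f n).Modules)
    (η : F ⟶ (Scheme.Modules.pushforward (PrinPart.pr2 f n)).obj N) (U : X.Opens) (t : Γ(F, U)) :
    (liftHom f n F N η).app U (PrinPart.dP f n F U t) =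
      res N (PrinPart.preimage_pr1 f n U).le (η.app U t) := by
  let adj := Scheme.Modules.pullbackPushforwardAdjunction (PrinPart.pr2 f n)
  let g := (adj.homEquiv _ _).symm η
  have h1 : adj.unit.app F ≫ (Scheme.Modules.pushforward (PrinPart.pr2 f n)).map g = η :=
    (adj.homEquiv_unit _ _ g).symm.trans (Equiv.apply_symm_apply _ _)
  refine (app_res g (PrinPart.preimage_pr1 f n U).le (OmegaSh.pullSect (PrinPart.pr2 f n) F U t)).trans ?_
  exact congrArg (res N (PrinPart.preimage_pr1 f n U).le) congr(Scheme.Modules.Hom.app $h1 U t)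

/-- Change of neighbourhood, in abstract form. -/
theorem exists_transition_aux {Z Z' : Scheme.{u}} (j : Z ⟶ Z') (p1 p2 : Z' ⟶ X) (q1 q2 : Z ⟶ X)
    (h1 : j ≫ p1 = q1) (h2 : q2 = j ≫ p2) (e' : ∀ U : X.Opens, p1 ⁻¹ᵁ U ≤ p2 ⁻¹ᵁ U)
    (e : ∀ U : X.Opens, q1 ⁻¹ᵁ U ≤ q2 ⁻¹ᵁ U) (F : X.Modules) :
    ∃ ψ : (Scheme.Modules.pushforward p1).obj ((Scheme.Modules.pullback p2).obj F) ⟶
        (Scheme.Modules.pushforward q1).obj ((Scheme.Modules.pullback q2).obj F),
      ∀ (U : X.Opens) (t : Γ(F, U)),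
        ψ.app U (res ((Scheme.Modules.pullback p2).obj F) (e' U) (OmegaSh.pullSect p2 F U t)) =
          res ((Scheme.Modules.pullback q2).obj F) (e U) (OmegaSh.pullSect q2 F U t) := by
  subst h1 h2
  let M := (Scheme.Modules.pullback (j ≫ p2)).obj F
  let adj := Scheme.Modules.pullbackPushforwardAdjunction p2
  let η : F ⟶ (Scheme.Modules.pushforward p2).obj ((Scheme.Modules.pushforward j).obj M) :=
    (Scheme.Modules.pullbackPushforwardAdjunction (j ≫ p2)).unit.app F ≫
      (Scheme.Modules.pushforwardComp _ _).inv.app M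
  let g := (adj.homEquiv _ _).symm η
  have hg : adj.unit.app F ≫ (Scheme.Modules.pushforward p2).map g = η :=
    (adj.homEquiv_unit _ _ g).symm.trans (Equiv.apply_symm_apply _ _)
  refine ⟨(Scheme.Modules.pushforward p1).map g ≫ (Scheme.Modules.pushforwardComp j p1).hom.app M,
    fun U t => ?_⟩
  change g.app (p1 ⁻¹ᵁ U) (res _ (e' U) _) = _
  rw [app_res g (e' U)]
  refine (congrArg (res ((Scheme.Modules.pushforward j).obj M) (e' U))
    congr(Scheme.Modules.Hom.app $hg U t)).trans ?_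
  rfl

/-- The transition map `P^m(F) ⟶ P^n(F)` exists. -/
theorem exists_transition {n m : ℕ} (h : n ≤ m) (F : X.Modules) :
    ∃ ψ : PrinPart.PMod f m F ⟶ PrinPart.PMod f n F,
      ∀ (U : X.Opens) (t : Γ(F, U)), ψ.app U (PrinPart.dP f m F U t) = PrinPart.dP f n F U t := by
  have hι : PrinPart.infNbhdMap (PrinPart.diagCl f) h ≫ PrinPart.nbhdι f m = PrinPart.nbhdι f n := by
    simp only [PrinPart.nbhdι, PrinPart.infNbhdMap_ι_assoc]
  exact exists_transition_aux (PrinPart.infNbhdMap (PrinPart.diagCl f) h) (PrinPart.pr1 f m) (PrinPart.pr2 f m)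
    (PrinPart.pr1 f n) (PrinPart.pr2 f n) (by rw [PrinPart.pr1, PrinPart.pr1, reassoc_of% hι])
    (by rw [PrinPart.pr2, PrinPart.pr2, reassoc_of% hι])
    (fun U => (PrinPart.preimage_pr1 f m U).le) (fun U => (PrinPart.preimage_pr1 f n U).le) F

theorem isIso_toNbhd_zero : IsIso (PrinPart.toNbhd f 0) := by
  have : IsIso (Scheme.IdealSheafData.inclusion (PrinPart.ker_pow_succ_le (PrinPart.diagCl f) 0)) := by
    have h : (PrinPart.diagCl f).ker ≤ (PrinPart.diagCl f).ker ^ (0 + 1) := fun _ => (pow_one _).ge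
    exact ⟨Scheme.IdealSheafData.inclusion h, by simp, by simp⟩
  exact inferInstanceAs (IsIso (_ ≫ _))

theorem pr1_zero_eq : PrinPart.pr1 f 0 = PrinPart.pr2 f 0 := by
  have := isIso_toNbhd_zero f
  rw [← cancel_epi (PrinPart.toNbhd f 0), PrinPart.toNbhd_pr1, PrinPart.toNbhd_pr2]

theorem isIso_pr2_zero : IsIso (PrinPart.pr2 f 0) := by
  have := isIso_toNbhd_zero f
  have : IsIso (PrinPart.toNbhd f 0 ≫ PrinPart.pr2 f 0) := by rw [PrinPart.toNbhd_pr2]; infer_instance
  exact IsIso.of_isIso_comp_left (PrinPart.toNbhd f 0) _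

theorem dP_zero_bijective (F : X.Modules) (U : X.Opens) : Function.Bijective (PrinPart.dP f 0 F U) := by
  have := isIso_pr2_zero f
  let e := PrinPart.pr2 f 0
  let E : (PrinPart.nbhd f 0).Modules ≌ X.Modules :=
    CategoryTheory.Equivalence.mk (Scheme.Modules.pushforward e) (Scheme.Modules.pushforward (inv e))
      ((Scheme.Modules.pushforwardId _).symm ≪≫ Scheme.Modules.pushforwardCongr (by simp) ≪≫
        (Scheme.Modules.pushforwardComp e (inv e)).symm)
      (Scheme.Modules.pushforwardComp (inv e) e ≪≫ Scheme.Modules.pushforwardCongr (by simp) ≪≫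
        Scheme.Modules.pushforwardId _)
  haveI : (Scheme.Modules.pushforward e).IsEquivalence := E.isEquivalence_functor
  let adj := Scheme.Modules.pullbackPushforwardAdjunction e
  haveI := adj.isEquivalence_left_of_isEquivalence_right
  haveI : IsIso (adj.unit.app F) := inferInstance
  haveI : IsIso ((adj.unit.app F).app U) := inferInstance
  exact (res_bijective' (M₂ f 0 F) (PrinPart.preimage_pr1 f 0 U)).comp
    (ConcreteCategory.bijective_of_isIso ((adj.unit.app F).app U))
where
  res_bijective' {Z : Scheme.{u}} (M : Z.Modules) {A B : Z.Opens} (h : A = B) :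
      Function.Bijective (res M h.le) := by
    subst h
    exact Function.bijective_iff_has_inverse.2 ⟨id, fun x => res_self x, fun x => res_self x⟩

theorem app2_zero (U : X.Opens) (b : Γ(X, U)) : d2 f 0 U b = (PrinPart.pr1 f 0).app U b := by
  have h := pr1_zero_eq f
  rw [Scheme.Hom.app_eq_appLE]
  exact congr($(OmegaSh.appLE_congr_hom h.symm _ _) b)

/-- `d^0` is linear. -/
theorem dP_zero_smul (F : X.Modules) (U : X.Opens) (a : Γ(X, U)) (t : Γ(F, U)) :
    PrinPart.dP f 0 F U (a • t) = a • PrinPart.dP f 0 F U t := by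
  refine (dP_smul f 0 U a t).trans ?_
  rw [app2_zero]
  rfl

/-- `d^0` as an isomorphism of modules. -/
theorem exists_dP_zero_iso (F : X.Modules) :
    ∃ e : F ≅ PrinPart.PMod f 0 F, ∀ (U : X.Opens) (t : Γ(F, U)), e.hom.app U t = PrinPart.dP f 0 F U t := by
  let α : F ⟶ PrinPart.PMod f 0 F :=
    ⟨PresheafOfModules.homMk (PrinPart.dPHom f 0 F) fun U a t => dP_zero_smul f F U.unop a t⟩
  haveI : ∀ U, IsIso (α.app U) := fun U =>
    (ConcreteCategory.isIso_iff_bijective _).2 (dP_zero_bijective f F U)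
  haveI : IsIso α := Scheme.Modules.Hom.isIso_iff_isIso_app.2 inferInstance
  exact ⟨asIso α, fun U t => rfl⟩

theorem isDiffOpLE_zero_iff (F G : X.Modules) (D : F.presheaf ⟶ G.presheaf) :
    PrinPart.IsDiffOpLE f F G 0 D ↔
      ∀ (U : X.Opens) (a : Γ(X, U)) (t : Γ(F, U)), D.app (op U) (a • t) = a • D.app (op U) t := by
  constructor
  · rintro ⟨u, hu⟩ U a t
    rw [hu, hu, dP_zero_smul, Scheme.Modules.Hom.app_smul]
  · intro h
    obtain ⟨e, he⟩ := exists_dP_zero_iso f F
    let α : F ⟶ G := ⟨PresheafOfModules.homMk D fun U a t => h U.unop a t⟩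
    refine ⟨e.inv ≫ α, fun U t => ?_⟩
    rw [← he]
    change D.app (op U) t = α.app U (e.inv.app U (e.hom.app U t))
    rw [show e.inv.app U (e.hom.app U t) = t from congr(Scheme.Modules.Hom.app $(e.hom_inv_id) U t)]
    rfl

theorem isDiffOpLE_of_le (F G : X.Modules) {n m : ℕ} (h : n ≤ m) (D : F.presheaf ⟶ G.presheaf)
    (hD : PrinPart.IsDiffOpLE f F G n D) : PrinPart.IsDiffOpLE f F G m D := by
  obtain ⟨u, hu⟩ := hD
  obtain ⟨ψ, hψ⟩ := exists_transition f h F
  exact ⟨ψ ≫ u, fun U t => by rw [hu, ← hψ]; rfl⟩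

end Groth.Agent.PP93
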