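import Groth.Prelude.Def_OmegaPn
import Groth.Agent.Omega57.Nbhd

/-!
Functions on the infinitesimal neighbourhood of the diagonal are sums of products of functions pulled
back along the two projections.
-/

set_option autoImplicit false
set_option backward.isDefEq.respectTransparency false

noncomputable section

universe u

open CategoryTheory Limits AlgebraicGeometry TopologicalSpace Opposite TensorProduct

namespace Groth.Agent.PP93

variable {X S : Scheme.{u}} (f : X ⟶ S)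

/-- Every open of the neighbourhood comes from an open of `X`. -/
theorem exists_opens_eq (n : ℕ) (W : (PrinPart.nbhd f n).Opens) :
    PrinPart.pr1 f n ⁻¹ᵁ (PrinPart.toNbhd f n ⁻¹ᵁ W) = W := by
  ext x
  obtain ⟨y, rfl⟩ := PrinPart.toInfNbhd_surjective (PrinPart.diagCl f) n x
  change PrinPart.toNbhd f n (PrinPart.pr1 f n (PrinPart.toNbhd f n y)) ∈ W ↔ _
  rw [← Scheme.Hom.comp_apply (PrinPart.toNbhd f n) (PrinPart.pr1 f n), PrinPart.toNbhd_pr1]
  rfl

theorem toNbhd_pr1_apply (n : ℕ) (x : PrinPart.nbhd f n) :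
    PrinPart.toNbhd f n (PrinPart.pr1 f n x) = x := by
  obtain ⟨y, rfl⟩ := PrinPart.toInfNbhd_surjective (PrinPart.diagCl f) n x
  rw [← Scheme.Hom.comp_apply (PrinPart.toNbhd f n) (PrinPart.pr1 f n), PrinPart.toNbhd_pr1]
  rfl

theorem preimage_nbhdι_diagNbhd (n : ℕ) (U : X.Opens) :
    PrinPart.nbhdι f n ⁻¹ᵁ OmegaSh.diagNbhd f U = PrinPart.pr1 f n ⁻¹ᵁ U := by
  have h : PrinPart.nbhdι f n ⁻¹ᵁ OmegaSh.diagNbhd f U =
      PrinPart.pr1 f n ⁻¹ᵁ U ⊓ PrinPart.pr2 f n ⁻¹ᵁ U := rfl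
  rw [h, ← PrinPart.preimage_pr1, inf_idem]

variable {U : X.Opens} {V : S.Opens}

theorem diagNbhd_le_coborderRange (hU : IsAffineOpen U) (hV : IsAffineOpen V) (h : U ≤ f ⁻¹ᵁ V) :
    OmegaSh.diagNbhd f U ≤ (pullback.diagonal f).coborderRange := by
  let W := OmegaSh.diagNbhd f U
  have hW : IsAffineOpen W := Omega57.isAffineOpen_diagNbhd f hU hV h
  have : IsAffine (U : Scheme.{u}) := hU
  have : IsAffine (W : Scheme.{u}) := hW
  let d : (U : Scheme.{u}) ⟶ (W : Scheme.{u}) :=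
    (pullback.diagonal f).resLE W U (OmegaSh.le_preimage_diagNbhd f U)
  have hd : d ≫ (pullback.fst f f).resLE U W inf_le_left = 𝟙 (U : Scheme.{u}) := by
    rw [← cancel_mono U.ι, Category.assoc, Scheme.Hom.resLE_comp_ι, Scheme.Hom.resLE_comp_ι_assoc,
      pullback.diagonal_fst, Category.comp_id, Category.id_comp]
  have : IsClosedImmersion d := by
    have : IsClosedImmersion (d ≫ (pullback.fst f f).resLE U W inf_le_left) := hd ▸ inferInstance
    exact IsClosedImmersion.of_comp d ((pullback.fst f f).resLE U W inf_le_left)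
  intro z hz
  change z ∈ coborder (Set.range (pullback.diagonal f))
  rw [coborder, Set.mem_compl_iff]
  rintro ⟨hcl, hnot⟩
  refine hnot ?_
  let z' : (W : Scheme.{u}) := ⟨z, hz⟩
  have hz' : z' ∈ closure (Set.range d) := by
    rw [mem_closure_iff]
    intro O hO hzO
    obtain ⟨O', hO', rfl⟩ := isOpen_induced_iff.1 hO
    obtain ⟨w, ⟨hwO, hwW⟩, y, rfl⟩ := mem_closure_iff.1 hcl (O' ∩ (W : Set _)) (hO'.inter W.2) ⟨hzO, hz⟩
    have hyU : y ∈ U := by
      have := (OmegaSh.diagonal_preimage_le f (le_refl (OmegaSh.diagNbhd f U))) hwW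
      exact this
    refine ⟨d ⟨y, hyU⟩, ?_, ⟨_, rfl⟩⟩
    change W.ι (d ⟨y, hyU⟩) ∈ O'
    rw [← Scheme.Hom.comp_apply, Scheme.Hom.resLE_comp_ι]
    exact hwO
  rw [(IsClosedImmersion.base_closed (f := d)).isClosed_range.closure_eq] at hz'
  obtain ⟨y, hy⟩ := hz'
  exact ⟨U.ι y, by
    rw [← Scheme.Hom.comp_apply, ← Scheme.Hom.resLE_comp_ι _ (OmegaSh.le_preimage_diagNbhd f U)]
    exact congrArg W.ι hy⟩

theorem appLE_diagNbhd_surjective (n : ℕ) (hU : IsAffineOpen U) (hV : IsAffineOpen V) (h : U ≤ f ⁻¹ᵁ V) :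
    Function.Surjective ((PrinPart.nbhdι f n).app (OmegaSh.diagNbhd f U)) := by
  let C := (pullback.diagonal f).coborderRange
  let W := OmegaSh.diagNbhd f U
  have hW : IsAffineOpen W := Omega57.isAffineOpen_diagNbhd f hU hV h
  have hle : W ≤ C.ι.opensRange := by
    rw [Scheme.Opens.opensRange_ι]; exact diagNbhd_le_coborderRange f hU hV h
  have h1 : IsAffineOpen (C.ι ⁻¹ᵁ W) := hW.preimage_of_isOpenImmersion C.ι hle
  have h2 : Function.Surjective (C.ι.app W) := by
    have := C.ι.isIso_app W hle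
    exact (ConcreteCategory.bijective_of_isIso (C.ι.app W)).2
  have h3 : Function.Surjective
      ((PrinPart.infNbhdι (PrinPart.diagCl f) n).app (C.ι ⁻¹ᵁ W)) :=
    Scheme.IdealSheafData.subschemeι_app_surjective _ ⟨_, h1⟩
  intro c
  obtain ⟨b, hb⟩ := h3 c
  obtain ⟨a, rfl⟩ := h2 b
  exact ⟨a, hb⟩

/-- Functions on the neighbourhood over an affine open are sums of products `pr1♯ a · pr2♯ b`. -/
theorem mem_closure_mul (n : ℕ) (hU : IsAffineOpen U) (hV : IsAffineOpen V) (h : U ≤ f ⁻¹ᵁ V)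
    (c : Γ(PrinPart.nbhd f n, PrinPart.pr1 f n ⁻¹ᵁ U)) :
    c ∈ AddSubgroup.closure (Set.range fun p : Γ(X, U) × Γ(X, U) =>
      (PrinPart.pr1 f n).app U p.1 *
        (PrinPart.pr2 f n).appLE U (PrinPart.pr1 f n ⁻¹ᵁ U) (PrinPart.preimage_pr1 f n U).le p.2) := by
  letI := (f.appLE V U h).hom.toAlgebra
  let W := OmegaSh.diagNbhd f U
  obtain ⟨E, hE1, hE2⟩ := Omega57.exists_nbhdRingEquiv f h hU hV
  have hpre := preimage_nbhdι_diagNbhd f n U
  let r : Γ(pullback f f, W) →+* Γ(PrinPart.nbhd f n, PrinPart.pr1 f n ⁻¹ᵁ U) :=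
    ((PrinPart.nbhdι f n).appLE W (PrinPart.pr1 f n ⁻¹ᵁ U) hpre.ge).hom
  have hsurj : Function.Surjective r := by
    intro c
    obtain ⟨a, ha⟩ := appLE_diagNbhd_surjective f n hU hV h
      ((PrinPart.nbhd f n).presheaf.map (eqToHom hpre).op c)
    refine ⟨a, ?_⟩
    change ((PrinPart.nbhdι f n).app W ≫ (PrinPart.nbhd f n).presheaf.map _) a = c
    rw [ConcreteCategory.comp_apply, ha, ← ConcreteCategory.comp_apply, ← Functor.map_comp]
    erw [(PrinPart.nbhd f n).presheaf.map_id]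
    rfl
  have h1 : ∀ a, r ((pullback.fst f f).appLE U W inf_le_left a) = (PrinPart.pr1 f n).app U a := by
    intro a
    change ((pullback.fst f f).appLE U W inf_le_left ≫ (PrinPart.nbhdι f n).appLE W _ hpre.ge) a = _
    rw [Scheme.Hom.appLE_comp_appLE, Scheme.Hom.app_eq_appLE]
    rfl
  have h2 : ∀ a, r ((pullback.snd f f).appLE U W inf_le_right a) =
      (PrinPart.pr2 f n).appLE U (PrinPart.pr1 f n ⁻¹ᵁ U) (PrinPart.preimage_pr1 f n U).le a := by
    intro a
    change ((pullback.snd f f).appLE U W inf_le_right ≫ (PrinPart.nbhdι f n).appLE W _ hpre.ge) a = _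
    rw [Scheme.Hom.appLE_comp_appLE]
    rfl
  obtain ⟨w, rfl⟩ := hsurj c
  obtain ⟨t, rfl⟩ := E.symm.surjective w
  induction t using TensorProduct.induction_on with
  | zero => rw [map_zero, map_zero]; exact zero_mem _
  | add x y hx hy => rw [map_add, map_add]; exact add_mem hx hy
  | tmul a b =>
    refine AddSubgroup.subset_closure ⟨(a, b), ?_⟩
    have e : a ⊗ₜ[Γ(S, V)] b = (a ⊗ₜ 1) * (1 ⊗ₜ b) := by simp
    rw [e, ← hE1 a, ← hE2 b, ← map_mul, E.symm_apply_apply, map_mul, h1, h2]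

end Groth.Agent.PP93
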