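import Groth.Agent.PP93.SeqConormal
import Groth.Agent.Div89.Stalk

/-!
An immersion of finite presentation is open near a point iff the stalk of the conormal sheaf vanishes.
-/

set_option autoImplicit false
set_option backward.isDefEq.respectTransparency false
set_option linter.style.haveILetI false

noncomputable section

universe u

open CategoryTheory CategoryTheory.Limits AlgebraicGeometry TopologicalSpace Opposite

namespace Groth.Agent.PP93

open Groth.Agent QC70

theorem ker_fg_of_finitePresentation {A B : Type*} [CommRing A] [CommRing B] (π : A →+* B)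
    (hπ : Function.Surjective π) (hfp : π.FinitePresentation) : (RingHom.ker π).FG := by
  algebraize [π]
  exact Algebra.FinitePresentation.ker_fG_of_surjective (Algebra.ofId A B) hπ

/-- A finitely generated ideal inside a prime, equal to its square near the prime, vanishes near it. -/
theorem exists_mul_eq_zero {A : Type*} [CommRing A] (p : Ideal A) [p.IsPrime] {I : Ideal A} (hI : I.FG)
    (hIp : I ≤ p) (h : ∀ t ∈ I, ∃ c ∉ p, c * t ∈ I ^ 2) : ∃ g ∉ p, ∀ t ∈ I, g * t = 0 := by
  classical
  let L := Localization.AtPrime p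
  set J := I.map (algebraMap A L) with hJ
  have h2 : J ≤ J • J := by
    rw [smul_eq_mul, ← pow_two, hJ, ← Ideal.map_pow, Ideal.map_le_iff_le_comap]
    intro t ht
    obtain ⟨c, hc, hct⟩ := h t ht
    show algebraMap A L t ∈ Ideal.map (algebraMap A L) (I ^ 2)
    have h1 := Ideal.mem_map_of_mem (algebraMap A L) hct
    rw [map_mul] at h1
    exact ((Ideal.unit_mul_mem_iff_mem _ (IsLocalization.map_units L (⟨c, hc⟩ : p.primeCompl))).1 h1)
  have hJ0 : J = ⊥ := by
    refine Submodule.eq_bot_of_le_smul_of_le_jacobson_bot J J (hI.map _) h2 ?_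
    rw [IsLocalRing.jacobson_eq_maximalIdeal ⊥ bot_ne_top]
    refine (Ideal.map_mono hIp).trans ?_
    rw [IsLocalization.AtPrime.map_eq_maximalIdeal p L]
  obtain ⟨s, hs⟩ := hI
  have hc : ∀ t ∈ s, ∃ g : p.primeCompl, (g : A) * t = 0 := fun t ht => by
    have h1 : algebraMap A L t ∈ J := Ideal.mem_map_of_mem _ (hs ▸ Ideal.subset_span ht)
    rw [hJ0, Ideal.mem_bot] at h1
    exact (IsLocalization.map_eq_zero_iff p.primeCompl L t).1 h1
  choose c hc using hc
  refine ⟨(∏ t ∈ s.attach, c t.1 t.2 : p.primeCompl), (∏ t ∈ s.attach, c t.1 t.2 : p.primeCompl).2, fun t ht => ?_⟩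
  rw [← hs] at ht
  induction ht using Submodule.span_induction with
  | mem x hx =>
    rw [← Finset.mul_prod_erase _ _ (Finset.mem_attach s ⟨x, hx⟩), Submonoid.coe_mul,
      mul_comm (c x hx : A), mul_assoc, hc, mul_zero]
  | zero => rw [mul_zero]
  | add x y _ _ hx hy => rw [mul_add, hx, hy, add_zero]
  | smul a x _ hx => rw [smul_eq_mul, mul_left_comm, hx, mul_zero]

theorem appLE_mono_zero {Y X : Scheme.{u}} (j : Y ⟶ X) {W W' : X.Opens} (h : W' ≤ W) (a : Γ(X, W))
    (ha : j.app W a = 0) : j.app W' (X.presheaf.map (homOfLE h).op a) = 0 := by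
  rw [← ConcreteCategory.comp_apply, Scheme.Hom.naturality, ConcreteCategory.comp_apply, ha, map_zero]

/-- An immersion of finite presentation is open near `y` iff the conormal stalk at `y` vanishes. -/
theorem openImmersion_nhd_iff {Y X : Scheme.{u}} (j : Y ⟶ X) [IsImmersion j]
    [QuasiCompact j] [LocallyOfFinitePresentation j] (y : Y) :
    (∃ U : Y.Opens, y ∈ U ∧ IsOpenImmersion (U.ι ≫ j)) ↔
      Subsingleton ((Omega.conormal j).presheaf.stalk y) := by
  haveI : (ClSub.idealMod j.ker).IsQuasicoherent := Omega57.isQuasicoherent_idealMod _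
  have hqc : Coh.IsQCoh (Omega.conormal j) := QCPull72.isQuasicoherent_pullback _ _
  constructor
  · rintro ⟨U, hyU, hU⟩
    obtain ⟨W, hW, hjW, hyW, hWT, hjs⟩ := SchBasics.exists_closed_chart_le j (z := y) ⊤ trivial
    let P : Y.affineOpens := ⟨j ⁻¹ᵁ W, hjW⟩
    letI := Div89.stalkModule (Omega.conormal j) P.1 y hyW
    haveI := Div89.primeAt_isPrime P y hyW
    haveI := Div89.isLocalizedModule_germLin (Omega.conormal j) hqc P y hyW
    obtain ⟨_, ⟨W', hW', rfl⟩, hyW', hW'le⟩ := X.isBasis_affineOpens.exists_subset_of_mem_open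
      (show j y ∈ W ⊓ (U.ι ≫ j).opensRange from ⟨hyW, ⟨⟨y, hyU⟩, rfl⟩⟩)
      (W ⊓ (U.ι ≫ j).opensRange).2
    obtain ⟨c, hc, hyc⟩ := hW.exists_basicOpen_le (V := W') ⟨j y, hyW'⟩ hyW
    refine (IsLocalizedModule.subsingleton_iff (Div89.primeAt P y hyW).primeCompl
      (Div89.germLin (Omega.conormal j) P.1 y hyW)).2 fun x => ?_
    obtain ⟨t, rfl⟩ := Om3.conormalSect_surjective j hW hjW hjs x
    haveI := hU
    have hle : X.basicOpen c ≤ (U.ι ≫ j).opensRange := fun z hz => (hW'le (hc hz)).2
    haveI := Scheme.Hom.isIso_app (U.ι ≫ j) _ hle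
    have h0 : X.presheaf.map (homOfLE (X.basicOpen_le c)).op (OmegaSh.idealSect j.ker W t) = 0 := by
      refine (ConcreteCategory.bijective_of_isIso ((U.ι ≫ j).app (X.basicOpen c))).1 ?_
      rw [map_zero, Scheme.Hom.comp_app, ConcreteCategory.comp_apply,
        appLE_mono_zero j _ _ (FlatMor67.app_idealSect j W t), map_zero]
    letI := (X.presheaf.map (homOfLE (X.basicOpen_le c)).op).hom.toAlgebra
    haveI := hW.isLocalization_basicOpen c
    obtain ⟨⟨_, n, rfl⟩, hn⟩ := (IsLocalization.map_eq_zero_iff (Submonoid.powers c)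
      Γ(X, X.basicOpen c) (OmegaSh.idealSect j.ker W t)).1 h0
    refine ⟨j.app W c ^ n, ?_, ?_⟩
    · intro hmem
      have h1 := (Div89.primeAt_isPrime P y hyW).mem_of_pow_mem n hmem
      have h2 : y ∈ Y.basicOpen (j.app W c) := by rw [← Scheme.preimage_basicOpen]; exact hyc
      exact (Div89.mem_basicOpen_iff_notMem P y hyW _).1 h2 h1
    · rw [← map_pow, ← Om3.conormalSect_smul, Om3.conormalSect_eq_zero_iff j hW hjW hjs,
        Omega57.idealSect_smul]
      simp only at hn
      rw [hn]
      exact zero_mem _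
  · intro hz
    obtain ⟨W, hW, hjW, hyW, hWT, hjs⟩ := SchBasics.exists_closed_chart_le j (z := y) ⊤ trivial
    let P : Y.affineOpens := ⟨j ⁻¹ᵁ W, hjW⟩
    letI := Div89.stalkModule (Omega.conormal j) P.1 y hyW
    haveI := Div89.isLocalizedModule_germLin (Omega.conormal j) hqc P y hyW
    haveI := Div89.primeAt_isPrime P y hyW
    set p := (Div89.primeAt P y hyW).comap (j.app W).hom with hp
    have hfg : (RingHom.ker (j.app W).hom).FG := by
      refine ker_fg_of_finitePresentation _ hjs ?_
      rw [Scheme.Hom.app_eq_appLE]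
      exact j.finitePresentation_appLE hW hjW _
    obtain ⟨g, hg, hg0⟩ := exists_mul_eq_zero p hfg
      (fun t ht => show j.app W t ∈ Div89.primeAt P y hyW by rw [show j.app W t = 0 from ht]; exact zero_mem _)
      (fun t ht => by
        obtain ⟨s, hs⟩ := Om3.exists_sect_of_app_eq_zero j (W := W) t ht
        obtain ⟨r, hr, hr0⟩ := (IsLocalizedModule.subsingleton_iff (Div89.primeAt P y hyW).primeCompl
          (Div89.germLin (Omega.conormal j) P.1 y hyW)).1 hz (OmegaSh.conormalSect j W s)
        obtain ⟨c, rfl⟩ := hjs r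
        refine ⟨c, hr, ?_⟩
        rw [← Om3.conormalSect_smul, Om3.conormalSect_eq_zero_iff j hW hjW hjs,
          Omega57.idealSect_smul, hs] at hr0
        exact hr0)
    let W' := X.basicOpen g
    obtain ⟨hjW', hjs'⟩ := closedChart_basicOpen j hW hjW hjs g
    have hinj : Function.Injective (j.app W') := by
      rw [injective_iff_map_eq_zero]
      intro x hx
      letI := (X.presheaf.map (homOfLE (X.basicOpen_le g)).op).hom.toAlgebra
      haveI := hW.isLocalization_basicOpen g
      obtain ⟨⟨a, ⟨_, n, rfl⟩⟩, ha⟩ := IsLocalization.surj (Submonoid.powers g) x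
      have h1 : j.app W' (X.presheaf.map (homOfLE (X.basicOpen_le g)).op a) = 0 := by
        rw [show X.presheaf.map (homOfLE (X.basicOpen_le g)).op a = _ from ha.symm, map_mul, hx, zero_mul]
      rw [← ConcreteCategory.comp_apply, Scheme.Hom.naturality, ConcreteCategory.comp_apply] at h1
      letI := (Y.presheaf.map (homOfLE (Y.basicOpen_le (j.app W g))).op).hom.toAlgebra
      haveI := hjW.isLocalization_basicOpen (j.app W g)
      have h2 : Y.presheaf.map (homOfLE (Y.basicOpen_le (j.app W g))).op (j.app W a) = 0 := by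
        have h3 := congrArg (Y.presheaf.map (eqToHom (Scheme.preimage_basicOpen j g).symm).op) h1
        rw [map_zero, ← ConcreteCategory.comp_apply, ← Functor.map_comp] at h3
        exact h3
      obtain ⟨⟨_, m, rfl⟩, hm⟩ := (IsLocalization.map_eq_zero_iff (Submonoid.powers (j.app W g))
        Γ(Y, Y.basicOpen (j.app W g)) (j.app W a)).1 h2
      simp only at hm
      have h4 : g ^ m * a ∈ RingHom.ker (j.app W).hom := by
        show j.app W (g ^ m * a) = 0
        rw [map_mul, map_pow, hm]
      have h5 := hg0 _ h4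
      rw [← mul_assoc, ← pow_succ'] at h5
      have h6 : algebraMap Γ(X, W) Γ(X, W') a = 0 :=
        (IsLocalization.map_eq_zero_iff (Submonoid.powers g) Γ(X, W') a).2 ⟨⟨g ^ (m + 1), m + 1, rfl⟩, h5⟩
      rw [h6] at ha
      exact (IsLocalization.map_units Γ(X, W') (⟨g ^ n, n, rfl⟩ : Submonoid.powers g)).mul_left_eq_zero.1 ha
    refine ⟨j ⁻¹ᵁ W', ?_, ?_⟩
    · show j y ∈ X.basicOpen g
      have h1 : y ∈ Y.basicOpen (j.app W g) := (Div89.mem_basicOpen_iff_notMem P y hyW _).2 hg
      rw [← Scheme.preimage_basicOpen] at h1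
      exact h1
    · have : IsAffine (W' : Scheme.{u}) := hW.basicOpen g
      have : IsAffine (j ⁻¹ᵁ W' : Scheme.{u}) := hjW'
      have hiso : IsIso (j ∣_ W') := by
        have h0 : IsIso (j.app W') := (ConcreteCategory.isIso_iff_bijective _).2 ⟨hinj, hjs'⟩
        have h0' : IsIso (j.app (Scheme.Opens.ι W' ''ᵁ ⊤)) := by
          rw [Scheme.Opens.ι_image_top]; exact h0
        have h1 : IsIso ((j ∣_ W').appTop) := by
          rw [Scheme.Hom.appTop, morphismRestrict_app]
          infer_instance
        exact (HasAffineProperty.iff_of_isAffine (P := MorphismProperty.isomorphisms _) (f := j ∣_ W')).2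
          ⟨inferInstance, h1⟩
      rw [← morphismRestrict_ι]
      infer_instance

end Groth.Agent.PP93
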