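import Groth.Agent.PP93.Crit
import Groth.Prelude.Def_Omega4

/-!
Operators of order at most one on functions are sums of a linear map and a derivation.
-/

set_option autoImplicit false
set_option backward.isDefEq.respectTransparency false

noncomputable section

universe u

open CategoryTheory Limits AlgebraicGeometry TopologicalSpace Opposite
open Groth.Agent.QC70

namespace Groth.Agent.PP93

variable {X S : Scheme.{u}} (f : X ⟶ S) {G : X.Modules}
  {D : (Coh.structureModule X).presheaf ⟶ G.presheaf}

/-- The operator on functions. -/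
abbrev onFun (D : (Coh.structureModule X).presheaf ⟶ G.presheaf) (U : X.Opens) : Γ(X, U) →+ Γ(G, U) :=
  (opApp D U).comp (OmegaSh.strSect X U)

theorem onFun_res {U V : X.Opens} (h : V ≤ U) (a : Γ(X, U)) :
    onFun D V (resO X h a) = res G h (onFun D U a) :=
  opApp_res D h (OmegaSh.strSect X U a)

theorem leibniz (hD : PrinPart.IsDiffOpLE f (Coh.structureModule X) G 1 D) (U : X.Opens) (a b : Γ(X, U)) :
    onFun D U (a * b) + (a * b) • onFun D U 1 = a • onFun D U b + b • onFun D U a := by
  have hl := isLinearOverBase_of_isDiffOpLE f hD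
  have h := (isDiffOpLE_iff f hl).1 hD U ![a, b] (OmegaSh.strSect X U 1)
  have hu : (Finset.univ : Finset (Finset (Fin 2))) = {∅, {0}, {1}, {0, 1}} := by decide
  rw [altSum, hu] at h
  have e0 : (∅ : Finset (Fin 2))ᶜ = {0, 1} := by decide
  have e1 : ({0} : Finset (Fin 2))ᶜ = {1} := by decide
  have e2 : ({1} : Finset (Fin 2))ᶜ = {0} := by decide
  have e3 : ({0, 1} : Finset (Fin 2))ᶜ = ∅ := by decide
  rw [Finset.sum_insert (by decide), Finset.sum_insert (by decide), Finset.sum_insert (by decide),
    Finset.sum_singleton, e0, e1, e2, e3] at h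
  have hm : ∀ r : Γ(X, U), r • OmegaSh.strSect X U 1 = OmegaSh.strSect X U r := fun r =>
    (OmegaSh.strSect_mul U r 1).symm.trans (by rw [mul_one])
  simp only [Finset.prod_empty, Finset.prod_singleton, Finset.prod_pair (show (0 : Fin 2) ≠ 1 by decide),
    Matrix.cons_val_zero, Matrix.cons_val_one, Finset.card_empty, Finset.card_singleton,
    Finset.card_pair (show (0 : Fin 2) ≠ 1 by decide), one_smul, pow_zero, pow_one, hm] at h
  norm_num at h
  rw [← sub_eq_zero]
  rw [← h]
  simp only [onFun, AddMonoidHom.comp_apply]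
  abel

theorem existsUnique_add_derivation (hD : PrinPart.IsDiffOpLE f (Coh.structureModule X) G 1 D) :
    ∃! p : (Coh.structureModule X ⟶ G) × OmegaSh.Der f G,
      ∀ (U : X.Opens) (a : Γ(X, U)),
        D.app (op U) (OmegaSh.strSect X U a) = p.1.app U (OmegaSh.strSect X U a) + p.2.app U a := by
  have hl := isLinearOverBase_of_isDiffOpLE f hD
  let lin : (Coh.structureModule X).presheaf ⟶ G.presheaf :=
    { app := fun U => AddCommGrpCat.ofHom (AddMonoidHom.mk'
        (fun a : Γ(Coh.structureModule X, U.unop) => OmegaSh.fnSect X U.unop a • onFun D U.unop 1)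
        (fun a b => by simp only [map_add, add_smul]))
      naturality := fun U V i => by
        ext a
        change OmegaSh.fnSect X V.unop ((Coh.structureModule X).presheaf.map i a) • onFun D V.unop 1 =
          res G i.unop.le (OmegaSh.fnSect X U.unop a • onFun D U.unop 1)
        rw [res_smul, ← onFun_res i.unop.le, show resO X i.unop.le (1 : Γ(X, U.unop)) = 1 from map_one _]
        rfl }
  let α : Coh.structureModule X ⟶ G := ⟨PresheafOfModules.homMk lin fun U (r : Γ(X, U.unop)) a => by
    change OmegaSh.fnSect X U.unop (r • a) • onFun D U.unop 1 = r • OmegaSh.fnSect X U.unop a • onFun D U.unop 1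
    rw [smul_smul]
    rfl⟩
  have hα : ∀ (U : X.Opens) (a : Γ(X, U)), α.app U (OmegaSh.strSect X U a) = a • onFun D U 1 := fun U a => rfl
  let δ : OmegaSh.Der f G :=
    { d := fun {U} => onFun D U.unop - AddMonoidHom.mk' (fun a : Γ(X, U.unop) => a • onFun D U.unop 1)
        (fun a b => add_smul a b _)
      d_mul := fun {U} (a b : Γ(X, U.unop)) => by
        change onFun D U.unop (a * b) - (a * b) • onFun D U.unop 1 =
          a • (onFun D U.unop b - b • onFun D U.unop 1) + b • (onFun D U.unop a - a • onFun D U.unop 1)
        rw [eq_sub_of_add_eq (leibniz f hD U.unop a b), smul_sub, smul_sub, smul_smul, smul_smul, mul_comm b a]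
        abel
      d_map := fun {U V} i (a : Γ(X, U.unop)) => by
        change onFun D V.unop (resO X i.unop.le a) - resO X i.unop.le a • onFun D V.unop 1 =
          res G i.unop.le (onFun D U.unop a - a • onFun D U.unop 1)
        rw [res_sub, res_smul, ← onFun_res, ← onFun_res, show resO X i.unop.le (1 : Γ(X, U.unop)) = 1 from map_one _]
      d_app := fun {V} s => by
        change onFun D (f ⁻¹ᵁ V.unop) (f.app V.unop s) - f.app V.unop s • onFun D (f ⁻¹ᵁ V.unop) 1 = 0
        have := hl V.unop s (f ⁻¹ᵁ V.unop) le_rfl (OmegaSh.strSect X _ 1)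
        rw [show X.presheaf.map (homOfLE (le_refl (f ⁻¹ᵁ V.unop))).op (f.app V.unop s) = f.app V.unop s from
          resO_self _] at this
        rw [sub_eq_zero]
        refine Eq.trans ?_ this
        exact congrArg (opApp D _) ((congrArg (OmegaSh.strSect X _) (mul_one _).symm).trans
          (OmegaSh.strSect_mul _ _ _)) }
  refine ⟨(α, δ), fun U a => ?_, ?_⟩
  · change onFun D U a = a • onFun D U 1 + (onFun D U a - a • onFun D U 1)
    abel
  · rintro ⟨β, δ'⟩ hp
    have h1 : ∀ U, β.app U (OmegaSh.strSect X U 1) = onFun D U 1 := fun U => by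
      have := hp U 1
      rw [show δ'.app U 1 = 0 from δ'.d_one (op U), add_zero] at this
      exact this.symm
    have hβ : β = α := by
      refine Scheme.Modules.hom_ext _ _ fun U => ?_
      ext a
      obtain ⟨a, rfl⟩ : ∃ a' : Γ(X, U), OmegaSh.strSect X U a' = a := ⟨a, rfl⟩
      rw [hα, show OmegaSh.strSect X U a = a • OmegaSh.strSect X U 1 from
        (congrArg (OmegaSh.strSect X U) (mul_one a).symm).trans (OmegaSh.strSect_mul U a 1),
        Scheme.Modules.Hom.app_smul, h1]
    subst hβ
    refine Prod.ext rfl ?_
    refine PresheafOfModules.Derivation.ext ?_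
    funext U
    refine AddMonoidHom.ext fun (a : Γ(X, U.unop)) => ?_
    have := hp U.unop a
    rw [hα] at this
    change δ'.app U.unop a = onFun D U.unop a - a • onFun D U.unop 1
    rw [eq_sub_iff_add_eq, add_comm]
    exact this.symm

end Groth.Agent.PP93
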