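import Groth.Agent.PP93.Nbhd
import Groth.Agent.QCGroth72.PushColim

/-!
The direct image along a morphism which is a homeomorphism preserves all colimits of modules.
-/

set_option autoImplicit false
set_option backward.isDefEq.respectTransparency.types false

noncomputable section

universe u

open CategoryTheory Limits AlgebraicGeometry TopologicalSpace Opposite
open Groth.Agent.QC70 Groth.Agent.ZClos93

namespace Groth.Agent.PP93

variable {X Z : Scheme.{u}} (i : Z ⟶ X)

/-- Stalks of a direct image along an inducing map. -/
def pushStalkNatIso (hi : Topology.IsInducing i) (z : Z) :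
    Scheme.Modules.pushforward i ⋙ stalkF (i z) ≅ stalkF z :=
  NatIso.ofComponents
    (fun H => @asIso _ _ _ _ (TopCat.Presheaf.stalkPushforward AddCommGrpCat.{u} i.base H.presheaf z)
      (TopCat.Presheaf.stalkPushforward.stalkPushforward_iso_of_isInducing AddCommGrpCat.{u} hi _ z))
    (fun {H H'} φ => ConcreteCategory.hom_ext _ _ fun e => by
      obtain ⟨W, hzW, s, rfl⟩ := germM_exist e
      show TopCat.Presheaf.stalkPushforward AddCommGrpCat.{u} i.base H'.presheaf z
          (stalkMapM ((Scheme.Modules.pushforward i).map φ) (i z) (germM _ W (i z) hzW s)) =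
        stalkMapM φ z (TopCat.Presheaf.stalkPushforward AddCommGrpCat.{u} i.base H.presheaf z
          (germM _ W (i z) hzW s))
      rw [stalkMapM_germ]
      refine (congr($(TopCat.Presheaf.stalkPushforward_germ AddCommGrpCat.{u} i.base H'.presheaf W z hzW) _)).trans ?_
      refine Eq.trans ?_ (congrArg (stalkMapM φ z)
        congr($(TopCat.Presheaf.stalkPushforward_germ AddCommGrpCat.{u} i.base H.presheaf W z hzW) s)).symm
      exact (stalkMapM_germ φ (hx := hzW) s).symm)

theorem preservesColimits_pushforward_of_surjective (hi : Topology.IsInducing i)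
    (hs : Function.Surjective i) :
    PreservesColimitsOfSize.{u, u} (Scheme.Modules.pushforward i) := by
  refine ⟨fun {K} _ => ⟨fun {D} => ?_⟩⟩
  have : IsIso (colimit.post D (Scheme.Modules.pushforward i)) := by
    refine isIso_of_bijective_stalkMapM _ fun x => ?_
    obtain ⟨z, rfl⟩ := hs x
    have := preservesColimits_stalkF z K
    have : PreservesColimitsOfShape K (Scheme.Modules.pushforward i ⋙ stalkF (i z)) :=
      preservesColimitsOfShape_of_natIso (pushStalkNatIso i hi z).symm
    have := preservesColimits_stalkF (i z) K
    have h : IsIso ((stalkF (i z)).map (colimit.post D (Scheme.Modules.pushforward i))) := by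
      have h1 := colimit.post_post D (Scheme.Modules.pushforward i) (stalkF (i z))
      have : IsIso (colimit.post (D ⋙ Scheme.Modules.pushforward i) (stalkF (i z)) ≫
          (stalkF (i z)).map (colimit.post D (Scheme.Modules.pushforward i))) :=
        h1 ▸ inferInstance
      exact IsIso.of_isIso_comp_left (colimit.post (D ⋙ Scheme.Modules.pushforward i) (stalkF (i z))) _
    exact ConcreteCategory.bijective_of_isIso
      ((stalkF (i z)).map (colimit.post D (Scheme.Modules.pushforward i)))
  exact preservesColimit_of_isIso_post _ _

variable {S : Scheme.{u}} (f : X ⟶ S) (n : ℕ)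

theorem pr1_surjective : Function.Surjective (PrinPart.pr1 f n) := fun x =>
  ⟨PrinPart.toNbhd f n x, by rw [← Scheme.Hom.comp_apply, PrinPart.toNbhd_pr1]; rfl⟩

theorem pr1_isInducing : Topology.IsInducing (PrinPart.pr1 f n) := by
  refine ⟨le_antisymm (continuous_iff_le_induced.1 (PrinPart.pr1 f n).continuous) fun W hW => ?_⟩
  exact ⟨_, (PrinPart.toNbhd f n ⁻¹ᵁ ⟨W, hW⟩).2,
    congrArg (fun V : (PrinPart.nbhd f n).Opens => (V : Set (PrinPart.nbhd f n))) (exists_opens_eq f n ⟨W, hW⟩)⟩

theorem preservesColimits_principalParts :
    PreservesColimitsOfSize.{u, u}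
      ((Scheme.Modules.pullback (PrinPart.pr2 f n)) ⋙ (Scheme.Modules.pushforward (PrinPart.pr1 f n))) := by
  haveI := preservesColimits_pushforward_of_surjective (PrinPart.pr1 f n) (pr1_isInducing f n)
    (pr1_surjective f n)
  haveI : PreservesColimitsOfSize.{u, u} (Scheme.Modules.pullback (PrinPart.pr2 f n)) :=
    (Scheme.Modules.pullbackPushforwardAdjunction (PrinPart.pr2 f n)).leftAdjoint_preservesColimits
  exact comp_preservesColimits _ _

end Groth.Agent.PP93
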