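import Groth.Prelude.Def_OmegaPn
import Mathlib.AlgebraicGeometry.Morphisms.Finite
import Mathlib.AlgebraicGeometry.Morphisms.FiniteType

/-!
Infinitesimal neighbourhoods of a section of a morphism locally of finite type are finite over the base.
-/

set_option autoImplicit false
set_option backward.isDefEq.respectTransparency false
set_option linter.style.haveILetI false

noncomputable section

universe u

open CategoryTheory Limits AlgebraicGeometry TopologicalSpace Opposite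

namespace Groth.Agent.PP93

theorem finite_of_retraction {A B C : Type*} [CommRing A] [CommRing B] [CommRing C] (φ : A →+* B)
    (hφ : φ.FiniteType) (π : B →+* A) (hπ : π.comp φ = RingHom.id A) (q : B →+* C) (hq : Function.Surjective q)
    (m : ℕ) (h : ∀ b ∈ RingHom.ker π ^ (m + 1), q b = 0) : (q.comp φ).Finite := by
  letI := φ.toAlgebra
  letI := (q.comp φ).toAlgebra
  obtain ⟨s, hs⟩ := Algebra.FiniteType.out (R := A) (A := B) (self := hφ)
  let x : B → C := fun b => q (b - φ (π b))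
  have hx : ∀ b, IsIntegral A (x b) := by
    intro b
    refine IsIntegral.of_pow (Nat.succ_pos m) ?_
    rw [← map_pow, h _ (Ideal.pow_mem_pow ?_ _)]
    · exact isIntegral_zero
    · rw [RingHom.mem_ker, map_sub, ← RingHom.comp_apply, hπ, RingHom.id_apply, sub_self]
  let T := Algebra.adjoin A (x '' (s : Set B))
  have hfin : (Subalgebra.toSubmodule T).FG :=
    fg_adjoin_of_finite (s.finite_toSet.image x) (by rintro _ ⟨b, -, rfl⟩; exact hx b)
  have hall : ∀ b, q b ∈ T := by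
    intro b
    have hb : b ∈ Algebra.adjoin A (s : Set B) := hs ▸ trivial
    induction hb using Algebra.adjoin_induction with
    | mem b hb =>
      have e : q b = x b + q (φ (π b)) := by simp only [x, map_sub, sub_add_cancel]
      rw [e]
      exact add_mem (Algebra.subset_adjoin ⟨b, hb, rfl⟩) (T.algebraMap_mem _)
    | algebraMap a => exact T.algebraMap_mem a
    | add b c _ _ hb hc => rw [map_add]; exact add_mem hb hc
    | mul b c _ _ hb hc => rw [map_mul]; exact mul_mem hb hc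
  have htop : T = ⊤ := by
    refine Algebra.eq_top_iff.2 fun c => ?_
    obtain ⟨b, rfl⟩ := hq c
    exact hall b
  rw [htop, Algebra.top_toSubmodule] at hfin
  exact Module.finite_def.2 hfin

variable {X Y : Scheme.{u}} (g : X ⟶ Y) [LocallyOfFiniteType g] (f : Y ⟶ X) [IsClosedImmersion f]

theorem isFinite_infNbhd_section (hf : f ≫ g = 𝟙 Y) (n : ℕ) :
    IsFinite (PrinPart.infNbhdι f n ≫ g) := by
  let Z := PrinPart.infNbhd f n
  let h : Z ⟶ Y := PrinPart.infNbhdι f n ≫ g
  have hgf : ∀ y, g (f y) = y := fun y => by rw [← Scheme.Hom.comp_apply, hf]; rfl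
  have hgood : ∀ y : Y, ∃ (W : Y.Opens) (O : X.Opens), y ∈ W ∧ IsAffineOpen W ∧ IsAffineOpen O ∧
      O ≤ g ⁻¹ᵁ W ∧ f ⁻¹ᵁ O = W := by
    intro y
    obtain ⟨_, ⟨(W₀ : Y.Opens), hW₀, rfl⟩, hyW, -⟩ :=
      Y.isBasis_affineOpens.exists_subset_of_mem_open (Set.mem_univ y) isOpen_univ
    obtain ⟨_, ⟨(O : X.Opens), hO, rfl⟩, hyO, hOle⟩ :=
      X.isBasis_affineOpens.exists_subset_of_mem_open
        (show f y ∈ ((g ⁻¹ᵁ W₀ : X.Opens) : Set X) from show g (f y) ∈ W₀ from (hgf y).symm ▸ hyW) (g ⁻¹ᵁ W₀).2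
    obtain ⟨a, ha, hya⟩ := hW₀.exists_basicOpen_le (V := f ⁻¹ᵁ O ⊓ W₀) ⟨y, hyO, hyW⟩ hyW
    refine ⟨Y.basicOpen a, X.basicOpen (g.appLE W₀ O hOle a), hya, hW₀.basicOpen a, hO.basicOpen _, ?_, ?_⟩
    · rw [Scheme.basicOpen_appLE]; exact inf_le_right
    · rw [Scheme.basicOpen_appLE, Scheme.Hom.preimage_inf, ← Scheme.Hom.comp_preimage, hf]
      exact inf_eq_right.2 (ha.trans inf_le_left)
  choose W O hyW hW hO hOW hfO using hgood
  have hpre : ∀ y, h ⁻¹ᵁ W y = PrinPart.infNbhdι f n ⁻¹ᵁ O y := by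
    intro y
    ext z
    obtain ⟨w, rfl⟩ := PrinPart.toInfNbhd_surjective f n z
    change g (PrinPart.infNbhdι f n (PrinPart.toInfNbhd f n w)) ∈ W y ↔
      PrinPart.infNbhdι f n (PrinPart.toInfNbhd f n w) ∈ O y
    rw [← Scheme.Hom.comp_apply (PrinPart.toInfNbhd f n), PrinPart.toInfNbhd_ι, hgf]
    conv_lhs => rw [← hfO y]
    rfl
  have hci : IsClosedImmersion (PrinPart.infNbhdι f n) := by dsimp only [PrinPart.infNbhdι]; infer_instance
  rw [HasAffineProperty.iff_of_iSup_eq_top (P := @IsFinite) (fun y => ⟨W y, hW y⟩)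
    (top_le_iff.1 fun y _ => Opens.mem_iSup.2 ⟨y, hyW y⟩)]
  intro y
  have haff : IsAffineOpen (h ⁻¹ᵁ W y) := by rw [hpre]; exact (hO y).preimage _
  refine ⟨haff, ?_⟩
  have hle : h ⁻¹ᵁ W y ≤ PrinPart.infNbhdι f n ⁻¹ᵁ O y := (hpre y).le
  let q : Γ(X, O y) →+* Γ(Z, h ⁻¹ᵁ W y) := ((PrinPart.infNbhdι f n).appLE (O y) _ hle).hom
  let φ : Γ(Y, W y) →+* Γ(X, O y) := (g.appLE (W y) (O y) (hOW y)).hom
  let π : Γ(X, O y) →+* Γ(Y, W y) := (f.appLE (O y) (W y) (hfO y).ge).hom
  have hπ : π.comp φ = RingHom.id _ := by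
    refine RingHom.ext fun a => ?_
    change (g.appLE (W y) (O y) (hOW y) ≫ f.appLE (O y) (W y) _) a = a
    rw [Scheme.Hom.appLE_comp_appLE, OmegaSh.appLE_congr_hom hf _ (show W y ≤ 𝟙 Y ⁻¹ᵁ W y from le_refl _)]
    simp [Scheme.Hom.appLE]
    erw [Y.presheaf.map_id]
    rfl
  have hq : Function.Surjective q := by
    intro c
    obtain ⟨b, hb⟩ := Scheme.Hom.app_surjective (PrinPart.infNbhdι f n) (O y) (hO y)
      ((Z : Scheme.{u}).presheaf.map (eqToHom (hpre y).symm).op c)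
    refine ⟨b, ?_⟩
    change ((PrinPart.infNbhdι f n).app (O y) ≫ Z.presheaf.map _) b = c
    rw [ConcreteCategory.comp_apply, hb, ← ConcreteCategory.comp_apply, ← Functor.map_comp]
    erw [Z.presheaf.map_id]
    rfl
  have hker : ∀ b ∈ RingHom.ker π ^ (n + 1), q b = 0 := by
    intro b hb
    have e : RingHom.ker π ≤ f.ker.ideal ⟨O y, hO y⟩ := by
      intro c hc
      rw [Scheme.Hom.ker_apply, RingHom.mem_ker]
      have := congrArg (Y.presheaf.map (homOfLE (hfO y).le).op) (RingHom.mem_ker.1 hc)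
      rw [map_zero] at this
      change (f.appLE (O y) (W y) _ ≫ Y.presheaf.map _) c = 0 at this
      rw [Scheme.Hom.appLE_map, Scheme.Hom.appLE_eq_app] at this
      exact this
    have hb' : b ∈ (f.ker ^ (n + 1)).ideal ⟨O y, hO y⟩ := Ideal.pow_right_mono e _ hb
    have h0 : (PrinPart.infNbhdι f n).app (O y) b = 0 :=
      RingHom.mem_ker.1 ((SetLike.ext_iff.1 (Scheme.IdealSheafData.ker_subschemeι_app (f.ker ^ (n + 1)) ⟨O y, hO y⟩) b).2 hb')
    change (Z.presheaf.map _) ((PrinPart.infNbhdι f n).app (O y) b) = 0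
    rw [h0, map_zero]
  have key := finite_of_retraction φ (LocallyOfFiniteType.finiteType_appLE g (hW y) (hO y) (hOW y)) π hπ q hq n hker
  have e : q.comp φ = (h.app (W y)).hom := by
    refine RingHom.ext fun a => ?_
    change (g.appLE (W y) (O y) (hOW y) ≫ (PrinPart.infNbhdι f n).appLE (O y) _ hle) a = h.app (W y) a
    rw [Scheme.Hom.appLE_comp_appLE, Scheme.Hom.app_eq_appLE]
  rw [e] at key
  change ((h ∣_ W y).appTop).hom.Finite
  rw [← Scheme.Hom.resLE_eq_morphismRestrict]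
  refine (RingHom.finite_respectsIso.arrow_mk_iso_iff (arrowResLEAppIso h (W y) _ le_rfl)).2 ?_
  rwa [← Scheme.Hom.app_eq_appLE]

end Groth.Agent.PP93
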