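import Groth.Agent.PP93.DiffGen

/-!
The sequence of conormal sheaves of two immersions.
-/

set_option autoImplicit false
set_option backward.isDefEq.respectTransparency false
set_option linter.style.haveILetI false

noncomputable section

universe u

open CategoryTheory CategoryTheory.Limits AlgebraicGeometry TopologicalSpace Opposite

namespace Groth.Agent.PP93

open Groth.Agent QC70

/-- A closed affine chart restricts to a basic open. -/
theorem closedChart_basicOpen {P Q : Scheme.{u}} (f : P ⟶ Q) {A : Q.Opens} (hA : IsAffineOpen A)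
    (hfA : IsAffineOpen (f ⁻¹ᵁ A)) (hs : Function.Surjective (f.app A)) (r : Γ(Q, A)) :
    IsAffineOpen (f ⁻¹ᵁ Q.basicOpen r) ∧ Function.Surjective (f.app (Q.basicOpen r)) := by
  refine ⟨by rw [Scheme.preimage_basicOpen]; exact hfA.basicOpen _, fun y => ?_⟩
  letI := (Q.presheaf.map (homOfLE (Q.basicOpen_le r)).op).hom.toAlgebra
  haveI := hA.isLocalization_basicOpen r
  haveI : IsLocalization.Away (f.app A r) Γ(P, P.basicOpen (f.app A r)) := hfA.isLocalization_basicOpen _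
  let eq := P.presheaf.map (eqToHom (Scheme.preimage_basicOpen f r).symm).op
  obtain ⟨⟨b, ⟨_, n, rfl⟩⟩, hb⟩ := IsLocalization.surj (Submonoid.powers (f.app A r)) (eq y)
  obtain ⟨a, rfl⟩ := hs b
  refine ⟨IsLocalization.mk' Γ(Q, Q.basicOpen r) a (⟨r ^ n, n, rfl⟩ : Submonoid.powers r), ?_⟩
  refine (ConcreteCategory.bijective_of_isIso eq).1 ?_
  have hnat : ∀ x, eq (f.app (Q.basicOpen r) (Q.presheaf.map (homOfLE (Q.basicOpen_le r)).op x)) =
      P.presheaf.map (homOfLE (P.basicOpen_le (f.app A r))).op (f.app A x) := fun x => by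
    rw [← ConcreteCategory.comp_apply (Q.presheaf.map _), Scheme.Hom.naturality, ConcreteCategory.comp_apply,
      ← ConcreteCategory.comp_apply (P.presheaf.map _) eq, ← Functor.map_comp]
    rfl
  refine (IsLocalization.map_units Γ(P, P.basicOpen (f.app A r))
    (⟨(f.app A r) ^ n, n, rfl⟩ : Submonoid.powers (f.app A r))).mul_left_inj.1 ?_
  refine Eq.trans ?_ hb.symm
  show eq _ * P.presheaf.map (homOfLE (P.basicOpen_le (f.app A r))).op ((f.app A r) ^ n) = _
  rw [← map_pow, ← hnat, ← map_mul, ← map_mul,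
    show IsLocalization.mk' Γ(Q, Q.basicOpen r) a (⟨r ^ n, n, rfl⟩ : Submonoid.powers r) *
        Q.presheaf.map (homOfLE (Q.basicOpen_le r)).op (r ^ n) = Q.presheaf.map (homOfLE (Q.basicOpen_le r)).op a from
      IsLocalization.mk'_spec _ a (⟨r ^ n, n, rfl⟩ : Submonoid.powers r), hnat]
  rfl

/-- Closed affine charts of two immersions in a row. -/
theorem exists_double_chart {Y' Y X : Scheme.{u}} (f : Y ⟶ X) [IsImmersion f] (j : Y' ⟶ Y) [IsImmersion j]
    {O : Y'.Opens} {z : Y'} (hz : z ∈ O) :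
    ∃ W : X.Opens, IsAffineOpen W ∧ IsAffineOpen (f ⁻¹ᵁ W) ∧ Function.Surjective (f.app W) ∧
      IsAffineOpen (j ⁻¹ᵁ (f ⁻¹ᵁ W)) ∧ Function.Surjective (j.app (f ⁻¹ᵁ W)) ∧ z ∈ j ⁻¹ᵁ (f ⁻¹ᵁ W) ∧
      j ⁻¹ᵁ (f ⁻¹ᵁ W) ≤ O := by
  obtain ⟨W₀, hW₀, hfW₀, hzW₀, -, hfs⟩ := SchBasics.exists_closed_chart_le f (z := j z) ⊤ trivial
  obtain ⟨T, hT, hTO⟩ := j.isEmbedding.isInducing.isOpen_iff.1 O.2
  obtain ⟨V₁, hV₁, hjV₁, hzV₁, hV₁le, hjs⟩ :=
    SchBasics.exists_closed_chart_le j (z := z) (⟨T, hT⟩ ⊓ f ⁻¹ᵁ W₀) ⟨hTO.ge hz, hzW₀⟩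
  obtain ⟨a, ha, hza⟩ := hfW₀.exists_basicOpen_le ⟨j z, hzV₁⟩ hzW₀
  obtain ⟨g, rfl⟩ := hfs a
  obtain ⟨hf1, hf2⟩ := closedChart_basicOpen f hW₀ hfW₀ hfs g
  have hV : f ⁻¹ᵁ X.basicOpen g =
      Y.basicOpen (Y.presheaf.map (homOfLE (fun y hy => (hV₁le hy).2 : V₁ ≤ f ⁻¹ᵁ W₀)).op (f.app W₀ g)) := by
    rw [Scheme.preimage_basicOpen, Scheme.basicOpen_res]
    exact (inf_eq_right.2 ha).symm
  obtain ⟨hj1, hj2⟩ := closedChart_basicOpen j hV₁ hjV₁ hjs
    (Y.presheaf.map (homOfLE (fun y hy => (hV₁le hy).2 : V₁ ≤ f ⁻¹ᵁ W₀)).op (f.app W₀ g))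
  refine ⟨X.basicOpen g, hW₀.basicOpen g, hf1, hf2, hV ▸ hj1, hV.symm ▸ hj2, ?_, fun y hy => ?_⟩
  · show j z ∈ f ⁻¹ᵁ X.basicOpen g
    rw [Scheme.preimage_basicOpen]; exact hza
  · have h : j y ∈ Y.basicOpen (f.app W₀ g) := by
      rw [← Scheme.preimage_basicOpen]; exact hy
    exact hTO.le (hV₁le (ha h)).1

/-- `j^*N_{Y/X} → N_{Y'/X} → N_{Y'/Y} → 0` is exact. -/
theorem exact_conormal_immersions {Y' Y X : Scheme.{u}} {f : Y ⟶ X} [IsImmersion f] [QuasiCompact f]
    {j : Y' ⟶ Y} [IsImmersion j] [QuasiCompact j]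
    {φ₁ : (Scheme.Modules.pullback j).obj (Omega.conormal f) ⟶ Omega.conormal (j ≫ f)}
    (hφ₁ : OmegaSh.IsConormalMap (j ≫ f) f (𝟙 X) j φ₁)
    {φ₂ : (Scheme.Modules.pullback (𝟙 Y')).obj (Omega.conormal (j ≫ f)) ⟶ Omega.conormal j}
    (hφ₂ : OmegaSh.IsConormalMap j (j ≫ f) f (𝟙 Y') φ₂) :
    Epi φ₂ ∧
      imageSubobject φ₁ =
        kernelSubobject ((Scheme.Modules.pullbackId Y').inv.app (Omega.conormal (j ≫ f)) ≫ φ₂) := by
  let b : Omega.conormal (j ≫ f) ⟶ Omega.conormal j :=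
    (Scheme.Modules.pullbackId Y').inv.app (Omega.conormal (j ≫ f)) ≫ φ₂
  suffices h : Epi b ∧ imageSubobject φ₁ = kernelSubobject b from
    ⟨haveI := h.1; epi_of_epi ((Scheme.Modules.pullbackId Y').inv.app _) φ₂, h.2⟩
  refine image_eq_kernel_of_basis φ₁ b fun O z hz => ?_
  obtain ⟨W, hW, hfW, hfs, hjW, hjs, hzW, hWO⟩ := exists_double_chart f j hz
  let V := f ⁻¹ᵁ W
  let P := j ⁻¹ᵁ V
  refine ⟨P, hzW, hWO, ?_⟩
  have hcs : Function.Surjective ((j ≫ f).app W) := by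
    rw [Scheme.Hom.comp_app]; exact hjs.comp hfs
  have hPc : IsAffineOpen ((j ≫ f) ⁻¹ᵁ W) := hjW
  -- values of the second map
  have hb : ∀ (t : Γ(ClSub.idealMod (j ≫ f).ker, W)) (s : Γ(ClSub.idealMod j.ker, V)),
      OmegaSh.idealSect j.ker V s = f.app W (OmegaSh.idealSect (j ≫ f).ker W t) →
      b.app P (OmegaSh.conormalSect (j ≫ f) W t) = OmegaSh.conormalSect j V s := fun t s hts => by
    show φ₂.app P (((Scheme.Modules.pullbackId Y').inv.app _).app P _) = _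
    rw [pullbackId_inv_app]
    have := Om3.conormalMap_val hφ₂ (U' := W) (U := V) le_rfl (P := P) le_rfl le_rfl t s
      (by rw [hts, Scheme.Hom.app_eq_appLE])
    rw [res_self (M := (Scheme.Modules.pullback (𝟙 Y')).obj (Omega.conormal (j ≫ f))),
      res_self (M := Omega.conormal j)] at this
    exact this
  have hbs : ∀ t, ∃ s : Γ(ClSub.idealMod j.ker, V),
      OmegaSh.idealSect j.ker V s = f.app W (OmegaSh.idealSect (j ≫ f).ker W t) := fun t =>
    Om3.exists_sect_of_app_eq_zero j _ (by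
      rw [← ConcreteCategory.comp_apply, ← Scheme.Hom.comp_app]
      exact FlatMor67.app_idealSect (j ≫ f) W t)
  -- values of the first map
  let G := (Scheme.Modules.pullback j).obj (Omega.conormal f)
  let gen : Γ(ClSub.idealMod f.ker, W) → Γ(G, P) := fun k =>
    OmegaSh.pullSect j (Omega.conormal f) V (OmegaSh.conormalSect f W k)
  have hgen : ∀ k t, OmegaSh.idealSect (j ≫ f).ker W t = OmegaSh.idealSect f.ker W k →
      φ₁.app P (gen k) = OmegaSh.conormalSect (j ≫ f) W t := fun k t hkt => by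
    have := Om3.conormalMap_val hφ₁ (U' := W) (U := W) le_rfl (P := P) le_rfl le_rfl k t
      (by
        rw [hkt, Scheme.Hom.appLE, Scheme.Hom.id_app, ConcreteCategory.comp_apply]
        show _ = X.presheaf.map (𝟙 _) _
        rw [CategoryTheory.Functor.map_id]
        rfl)
    rw [res_self (M := G), res_self (M := Omega.conormal (j ≫ f))] at this
    exact this
  have hks : ∀ k, ∃ t : Γ(ClSub.idealMod (j ≫ f).ker, W),
      OmegaSh.idealSect (j ≫ f).ker W t = OmegaSh.idealSect f.ker W k := fun k =>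
    Om3.exists_sect_of_app_eq_zero (j ≫ f) _ (by
      rw [Scheme.Hom.comp_app, ConcreteCategory.comp_apply, FlatMor67.app_idealSect, map_zero])
  refine ⟨fun x => ?_, fun y => ?_, fun x hx => ?_⟩
  · obtain ⟨s, rfl⟩ := Om3.conormalSect_surjective j hfW hjW hjs x
    obtain ⟨r, hr⟩ := hfs (OmegaSh.idealSect j.ker V s)
    obtain ⟨t, ht⟩ := Om3.exists_sect_of_app_eq_zero (j ≫ f) (W := W) r (by
      rw [Scheme.Hom.comp_app, ConcreteCategory.comp_apply, hr]
      exact FlatMor67.app_idealSect j V s)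
    exact ⟨_, hb t s (by rw [ht]; exact hr.symm)⟩
  · haveI : (ClSub.idealMod f.ker).IsQuasicoherent := Omega57.isQuasicoherent_idealMod _
    haveI : (Omega.conormal f).IsQuasicoherent := QCPull72.isQuasicoherent_pullback _ _
    have hy : y ∈ Submodule.span Γ(Y', P) (Set.range fun m : Γ(Omega.conormal f, V) =>
        res G le_rfl (OmegaSh.pullSect j (Omega.conormal f) V m)) :=
      (SchBasics.span_pullSect j (Omega.conormal f) hjW hfW le_rfl).ge trivial
    refine (Submodule.span_le.2 ?_ hy : y ∈ LinearMap.ker ((appLin b P).comp (appLin φ₁ P)))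
    rintro _ ⟨m, rfl⟩
    obtain ⟨k, rfl⟩ := Om3.conormalSect_surjective f hW hfW hfs m
    obtain ⟨t, ht⟩ := hks k
    show b.app P (φ₁.app P (res G le_rfl (gen k))) = 0
    rw [res_self (M := G), hgen k t ht, hb t 0 (by rw [map_zero, ht, FlatMor67.app_idealSect]), map_zero]
  · obtain ⟨t, rfl⟩ := Om3.conormalSect_surjective (j ≫ f) hW hPc hcs x
    obtain ⟨s, hs⟩ := hbs t
    rw [hb t s hs, Om3.conormalSect_eq_zero_iff j hfW hjW hjs, hs] at hx
    have hmap : RingHom.ker (j.app V).hom =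
        (RingHom.ker ((j ≫ f).app W).hom).map (f.app W).hom := by
      rw [Scheme.Hom.comp_app, CommRingCat.hom_comp, ← RingHom.comap_ker]
      exact (Ideal.map_comap_of_surjective _ hfs _).symm
    rw [hmap, ← Ideal.map_pow] at hx
    obtain ⟨r, hr, hr'⟩ := (Ideal.mem_map_iff_of_surjective _ hfs).1 hx
    obtain ⟨k, hk⟩ := Om3.exists_sect_of_app_eq_zero f (W := W) (OmegaSh.idealSect (j ≫ f).ker W t - r)
      (by rw [map_sub, sub_eq_zero]; exact hr'.symm)
    obtain ⟨t', ht'⟩ := hks k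
    refine ⟨gen k, ?_⟩
    rw [hgen k t' ht']
    have h0 : OmegaSh.conormalSect (j ≫ f) W (t - t') = 0 := by
      rw [Om3.conormalSect_eq_zero_iff (j ≫ f) hW hPc hcs, map_sub, ht', hk, sub_sub_cancel]
      exact hr
    rw [map_sub, sub_eq_zero] at h0
    exact h0.symm

end Groth.Agent.PP93
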