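import Groth.Agent.PP93.DiffGen
import Groth.Agent.EGAProj74.SymAlgUnique
import Groth.Agent.EGAProj74.RelSpecGamma
import Groth.Agent.EGA73.GammaStarIso
import Groth.Prelude.Def_Coh
import Mathlib.Algebra.TrivSqZeroExt.Basic

/-!
Differentials of a vector bundle.
-/

set_option autoImplicit false
set_option backward.isDefEq.respectTransparency false
set_option linter.style.haveILetI false

noncomputable section

universe u

open CategoryTheory CategoryTheory.Limits AlgebraicGeometry TopologicalSpace Opposite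

namespace Groth.Agent.PP93

open Groth.Agent QC70

/-- A derivation of a symmetric algebra with prescribed values on the generators. -/
theorem exists_der_symmetricAlgebra {R M B G : Type u} [CommRing R] [AddCommGroup M] [Module R M] [CommRing B]
    (alg : R →+* B) (ρ : SymmetricAlgebra R M ≃+* B) (hρ : ∀ r, ρ (algebraMap R _ r) = alg r)
    [AddCommGroup G] [Module B G] (q : M →+ G) (hq : ∀ r m, q (r • m) = alg r • q m) :
    ∃ δ : B → G, (∀ a b, δ (a + b) = δ a + δ b) ∧ (∀ a b, δ (a * b) = a • δ b + b • δ a) ∧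
      (∀ r, δ (alg r) = 0) ∧ ∀ m, δ (ρ (SymmetricAlgebra.ι R M m)) = q m := by
  letI : Module Bᵐᵒᵖ G := Module.compHom G ((RingHom.id B).fromOpposite fun a b => mul_comm a b)
  haveI : IsCentralScalar B G := ⟨fun _ _ => rfl⟩
  letI : Algebra R (TrivSqZeroExt B G) := ((TrivSqZeroExt.inlHom B G).comp alg).toAlgebra
  let l : M →ₗ[R] TrivSqZeroExt B G :=
    { toFun := fun m => TrivSqZeroExt.inl (ρ (SymmetricAlgebra.ι R M m)) + TrivSqZeroExt.inr (q m)
      map_add' := fun a b => by
        rw [map_add, map_add, map_add, TrivSqZeroExt.inl_add, TrivSqZeroExt.inr_add]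
        abel
      map_smul' := fun r m => by
        have h1 : ρ (SymmetricAlgebra.ι R M (r • m)) = alg r * ρ (SymmetricAlgebra.ι R M m) := by
          rw [map_smul, Algebra.smul_def, map_mul, hρ]
        rw [h1, hq, RingHom.id_apply, Algebra.smul_def]
        show _ = TrivSqZeroExt.inl (alg r) * _
        rw [mul_add, TrivSqZeroExt.inl_mul_inl, TrivSqZeroExt.inl_mul_inr] }
  let L : SymmetricAlgebra R M →ₐ[R] TrivSqZeroExt B G := SymmetricAlgebra.lift l
  have hι : ∀ m, L (SymmetricAlgebra.ι R M m) = l m := fun m => SymmetricAlgebra.lift_ι_apply _ m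
  have hfst : ∀ x, (L x).fst = ρ x := fun x => by
    induction x using SymmetricAlgebra.induction with
    | algebraMap r => rw [AlgHom.commutes, hρ]; rfl
    | ι m =>
      rw [hι]
      show (TrivSqZeroExt.inl (ρ (SymmetricAlgebra.ι R M m)) + TrivSqZeroExt.inr (q m)).fst = _
      rw [TrivSqZeroExt.fst_add, TrivSqZeroExt.fst_inl, TrivSqZeroExt.fst_inr, add_zero]
    | mul a b ha hb => rw [map_mul, map_mul, TrivSqZeroExt.fst_mul, ha, hb]
    | add a b ha hb => rw [map_add, map_add, TrivSqZeroExt.fst_add, ha, hb]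
  refine ⟨fun b => (L (ρ.symm b)).snd, fun a b => ?_, fun a b => ?_, fun r => ?_, fun m => ?_⟩
  · show (L (ρ.symm (a + b))).snd = _
    rw [map_add, map_add, TrivSqZeroExt.snd_add]
  · show (L (ρ.symm (a * b))).snd = _
    rw [map_mul, map_mul, TrivSqZeroExt.snd_mul, hfst, hfst, ρ.apply_symm_apply, ρ.apply_symm_apply,
      op_smul_eq_smul]
  · show (L (ρ.symm (alg r))).snd = 0
    rw [← hρ, ρ.symm_apply_apply, AlgHom.commutes]
    rfl
  · show (L (ρ.symm (ρ _))).snd = q m
    rw [ρ.symm_apply_apply, hι]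
    show (TrivSqZeroExt.inl (ρ (SymmetricAlgebra.ι R M m)) + TrivSqZeroExt.inr (q m)).snd = _
    rw [TrivSqZeroExt.snd_add, TrivSqZeroExt.snd_inl, TrivSqZeroExt.snd_inr, zero_add]

theorem isIso_pullback_to_differentials {S : Scheme.{u}} {E : S.Modules} (hE : Coh.IsQCoh E)
    {A : RelSpec.QCAlg S} {j : E ⟶ A.toModule} (hA : RelSpec.IsSymAlg E A j)
    {Ω' : A.spec.Modules} {d : OmegaSh.Der A.π Ω'} (hd : OmegaSh.IsUniversal d)
    (φ : (Scheme.Modules.pullback A.π).obj E ⟶ Ω')
    (hφ : ∀ (U : S.Opens) (t : Γ(E, U)) (t' : Γ(A.spec, A.π ⁻¹ᵁ U)),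
      A.gammaMap.app (op U) t' = j.app U t →
        φ.app (A.π ⁻¹ᵁ U) (OmegaSh.pullSect A.π E U t) = d.app (A.π ⁻¹ᵁ U) t') :
    IsIso φ := by
  haveI : E.IsQuasicoherent := hE
  haveI := SchBasics.isQuasicoherent_of_isUniversal hd
  haveI : ((Scheme.Modules.pullback A.π).obj E).IsQuasicoherent := QCPull72.isQuasicoherent_pullback A.π E
  refine EGA73.isIso_of_bijective_cover φ (fun U : S.affineOpens => A.π ⁻¹ᵁ U.1) (fun U => U.2.preimage A.π)
    (fun x => ?_) fun U => ?_
  · obtain ⟨_, ⟨V, hV, rfl⟩, hxV, -⟩ :=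
      S.isBasis_affineOpens.exists_subset_of_mem_open (Set.mem_univ (A.π x)) isOpen_univ
    exact ⟨⟨V, hV⟩, hxV⟩
  obtain ⟨U, hU⟩ := U
  let P := A.π ⁻¹ᵁ U
  have hP : IsAffineOpen P := hU.preimage A.π
  obtain ⟨e, he, hej⟩ := EGAProj74.exists_symAlg_equiv hE hA U hU
  haveI := EGAProj74.isIso_gammaAff A U hU
  let γ := (asIso (A.gammaAff U hU)).commRingCatIsoToRingEquiv
  let ρ : SymmetricAlgebra Γ(S, U) Γ(E, U) ≃+* Γ(A.spec, P) := (γ.trans e).symm
  have hρ : ∀ r, ρ (algebraMap _ _ r) = A.π.app U r := fun r => by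
    refine (γ.trans e).symm_apply_eq.2 ?_
    show algebraMap _ _ r = e (A.gammaAff U hU (A.π.app U r))
    rw [← ConcreteCategory.comp_apply, A.π_app_gammaAff U hU, he]
  have hgen : ∀ m, A.gammaMap.app (op U) (ρ (SymmetricAlgebra.ι _ _ m)) = j.app U m := fun m => by
    rw [A.gammaMap_app U hU, ← hej]
    apply e.injective
    exact (γ.trans e).apply_symm_apply _
  let G := (Scheme.Modules.pullback A.π).obj E
  have hφgen : ∀ m, φ.app P (OmegaSh.pullSect A.π E U m) = d.app P (ρ (SymmetricAlgebra.ι _ _ m)) := fun m =>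
    hφ U m _ (hgen m)
  obtain ⟨δ, hδadd, hδmul, hδbase, hδι⟩ := exists_der_symmetricAlgebra (A.π.app U).hom ρ hρ
    (G := Γ(G, P)) (OmegaSh.pullSect A.π E U).hom (fun r m => OmegaSh.pullSect_smul A.π E U r m)
  obtain ⟨l, hl⟩ := exists_linear_of_der hd hP hU le_rfl δ hδadd hδmul fun r => by
    rw [← Scheme.Hom.app_eq_appLE]; exact hδbase r
  refine ⟨Function.LeftInverse.injective (g := l) fun y => ?_, fun z => ?_⟩
  · have hy : y ∈ Submodule.span Γ(A.spec, P) (Set.range fun m : Γ(E, U) =>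
        res G le_rfl (OmegaSh.pullSect A.π E U m)) :=
      (SchBasics.span_pullSect A.π E hP hU le_rfl).ge trivial
    refine sub_eq_zero.1 (Submodule.span_le.2 ?_ hy : y ∈ LinearMap.ker (l.comp (appLin φ P) - LinearMap.id))
    rintro _ ⟨m, rfl⟩
    show l (φ.app P (res G le_rfl _)) - res G le_rfl _ = 0
    rw [res_self (M := G), hφgen, hl, hδι]
    exact sub_self _
  · refine mem_of_d_mem hd hP hU le_rfl (LinearMap.range (appLin φ P)) (fun b => ?_) z
    obtain ⟨x, rfl⟩ := ρ.surjective b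
    induction x using SymmetricAlgebra.induction with
    | algebraMap r =>
      rw [hρ, Scheme.Hom.app_eq_appLE, Var76.OmegaUniv.Der.appLE d le_rfl r]
      exact zero_mem _
    | ι m => exact ⟨_, hφgen m⟩
    | mul a b ha hb =>
      rw [map_mul, Var76.OmegaUniv.Der.map_mul d P]
      exact add_mem (Submodule.smul_mem _ _ hb) (Submodule.smul_mem _ _ ha)
    | add a b ha hb => rw [map_add, map_add]; exact add_mem ha hb

end Groth.Agent.PP93
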